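import Groth.Agent.DepthLib.CohenMacaulay
import Groth.Agent.DepthLib.RegularLocal
import Groth.Agent.Catenary.CM

/-!
# Quotients of Cohen–Macaulay rings by regular elements
-/

namespace Groth.Agent.StdMon

open LocCoh
open scoped Pointwise

universe u

theorem isCohenMacaulayLocalRing_quotient_of_regular {R : Type u} [CommRing R] [IsCohenMacaulayLocalRing R]
    {x : R} (hx : x ∈ IsLocalRing.maximalIdeal R) (hreg : IsSMulRegular R x) :
    IsCohenMacaulayLocalRing (R ⧸ Ideal.span {x}) := by
  have : Nontrivial (R ⧸ Ideal.span {x}) := Ideal.Quotient.nontrivial_iff.2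
    (ne_top_of_le_ne_top (IsLocalRing.maximalIdeal.isMaximal R).ne_top
      ((Ideal.span_singleton_le_iff_mem _).2 hx))
  have : IsLocalRing (R ⧸ Ideal.span {x}) :=
    IsLocalRing.of_surjective' (Ideal.Quotient.mk _) Ideal.Quotient.mk_surjective
  have h := (DepthLib.isCohenMacaulayModule_quotSMulTop_iff hx hreg).2 DepthLib.isCohenMacaulayModule_self
  have he : (x • (⊤ : Submodule R R)) = (Ideal.span {x} : Ideal R) := by
    rw [← Submodule.ideal_span_singleton_smul, Ideal.smul_eq_mul, Ideal.mul_top]
  have e : QuotSMulTop x R ≃ₗ[R] R ⧸ Ideal.span {x} := Submodule.quotEquivOfEq _ _ he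
  rw [DepthLib.isCohenMacaulayModule_congr e] at h
  unfold IsCohenMacaulayModule at h
  rw [DepthLib.isCohenMacaulayLocalRing_iff, ← Module.supportDim_quotient_eq_ringKrullDim, h,
    DepthLib.depth_eq_of_surjective (R := R) (S := R ⧸ Ideal.span {x}) Ideal.Quotient.mk_surjective]

theorem isCohenMacaulayRing_quotient_of_regular {A : Type u} [CommRing A] [IsCohenMacaulayRing A] {x : A}
    (hx : x ∈ nonZeroDivisors A) : IsCohenMacaulayRing (A ⧸ Ideal.span {x}) := by
  refine { isCohenMacaulayLocalRing_localization := fun q _ => ?_ }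
  let p := q.comap (Ideal.Quotient.mk (Ideal.span {x}))
  have := IsCohenMacaulayRing.isCohenMacaulayLocalRing_localization (R := A) p
  let f : Localization.AtPrime p →+* Localization.AtPrime q :=
    Localization.localRingHom p q (Ideal.Quotient.mk (Ideal.span {x})) rfl
  let y := algebraMap A (Localization.AtPrime p) x
  have hxp : x ∈ p := by
    change Ideal.Quotient.mk (Ideal.span {x}) x ∈ q
    rw [Ideal.Quotient.eq_zero_iff_mem.2 (Ideal.mem_span_singleton_self x)]
    exact q.zero_mem
  have hy : y ∈ IsLocalRing.maximalIdeal (Localization.AtPrime p) := by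
    rw [← Localization.AtPrime.map_eq_maximalIdeal]
    exact Ideal.mem_map_of_mem _ hxp
  have hreg : IsSMulRegular (Localization.AtPrime p) y := by
    have := IsLocalization.map_nonZeroDivisors_le p.primeCompl (Localization.AtPrime p)
      (Submonoid.mem_map_of_mem _ hx)
    intro a b h
    simp only [smul_eq_mul] at h
    exact sub_eq_zero.1 (mem_nonZeroDivisors_iff_right.1 this _ (by rw [sub_mul, mul_comm a, mul_comm b, h, sub_self]))
  have hsurj : Function.Surjective f := fun z => by
    obtain ⟨a, ⟨s, hs⟩, rfl⟩ := IsLocalization.exists_mk'_eq q.primeCompl z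
    obtain ⟨a, rfl⟩ := Ideal.Quotient.mk_surjective a
    obtain ⟨s, rfl⟩ := Ideal.Quotient.mk_surjective s
    exact ⟨IsLocalization.mk' _ a (⟨s, hs⟩ : p.primeCompl), Localization.localRingHom_mk' p q _ rfl a _⟩
  have hker : RingHom.ker f = Ideal.span {y} := by
    refine le_antisymm (fun z hz => ?_) ?_
    · obtain ⟨a, s, rfl⟩ := IsLocalization.exists_mk'_eq p.primeCompl z
      rw [RingHom.mem_ker] at hz
      erw [Localization.localRingHom_mk', IsLocalization.mk'_eq_zero_iff] at hz
      obtain ⟨⟨u, hu⟩, hua⟩ := hz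
      obtain ⟨u, rfl⟩ := Ideal.Quotient.mk_surjective u
      rw [← map_mul, Ideal.Quotient.eq_zero_iff_mem, Ideal.mem_span_singleton'] at hua
      obtain ⟨c, hc⟩ := hua
      have hue : IsUnit (algebraMap A (Localization.AtPrime p) u) :=
        IsLocalization.map_units _ (⟨u, hu⟩ : p.primeCompl)
      rw [← Ideal.unit_mul_mem_iff_mem _ hue, IsLocalization.mul_mk'_eq_mk'_of_mul, ← hc, mul_comm c,
        ← IsLocalization.mul_mk'_eq_mk'_of_mul]
      exact Ideal.mul_mem_right _ _ (Ideal.mem_span_singleton_self y)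
    · rw [Ideal.span_le, Set.singleton_subset_iff, SetLike.mem_coe, RingHom.mem_ker,
        Localization.localRingHom_to_map, Ideal.Quotient.eq_zero_iff_mem.2 (Ideal.mem_span_singleton_self x),
        map_zero]
  have := isCohenMacaulayLocalRing_quotient_of_regular hy hreg
  exact Catenary.isCohenMacaulayLocalRing_of_ringEquiv (A := Localization.AtPrime p ⧸ Ideal.span {y})
    ((Ideal.quotEquivOfEq hker.symm).trans (RingHom.quotientKerEquivOfSurjective hsurj))

end Groth.Agent.StdMon
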