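import Groth.Agent.DepthLib.CohenMacaulay
import Groth.Agent.DepthLib.FlatDepth
import Groth.Agent.DepthLib.RegularLocal
import Groth.Agent.DepthLib.CMPoly
import Groth.Agent.Catenary.CM
import Mathlib.RingTheory.Regular.Flat
import Mathlib.RingTheory.Flat.Localization
import Mathlib.RingTheory.Ideal.GoingUp

/-!
# Finite flat algebras over Cohen–Macaulay rings are Cohen–Macaulay
-/

namespace Groth.Agent.StdMon

open LocCoh RingTheory.Sequence

universe u

theorem isCohenMacaulayRing_of_flat_finite (A B : Type u) [CommRing A] [CommRing B] [Algebra A B]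
    [IsCohenMacaulayRing A] [Module.Flat A B] [Module.Finite A B] : IsCohenMacaulayRing B := by
  have : IsNoetherianRing B := IsNoetherianRing.of_finite A B
  refine { isCohenMacaulayLocalRing_localization := fun q _ => ?_ }
  let p := q.comap (algebraMap A B)
  have hqp : q.LiesOver p := ⟨rfl⟩
  have hmin : q ∈ (p.map (algebraMap A B)).minimalPrimes := by
    refine ⟨⟨inferInstance, Ideal.map_comap_le⟩, fun r ⟨hr, hpr⟩ hrq => ?_⟩
    by_contra hne
    have hlt : r < q := lt_of_le_of_ne hrq fun e => hne e.ge
    exact (Ideal.IsIntegral.comap_lt_comap (R := A) hlt).not_ge (Ideal.map_le_iff_le_comap.1 hpr)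
  have hht : q.height = p.height := DepthLib.height_eq_of_mem_minimalPrimes_map p q hmin
  have := IsCohenMacaulayRing.isCohenMacaulayLocalRing_localization (R := A) p
  let f : Localization.AtPrime p →+* Localization.AtPrime q := Localization.localRingHom p q (algebraMap A B) rfl
  let : Algebra (Localization.AtPrime p) (Localization.AtPrime q) := f.toAlgebra
  have : IsScalarTower A (Localization.AtPrime p) (Localization.AtPrime q) :=
    IsScalarTower.of_algebraMap_eq fun x => by
      change algebraMap A (Localization.AtPrime q) x = f (algebraMap A _ x)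
      rw [IsScalarTower.algebraMap_apply A B (Localization.AtPrime q), Localization.localRingHom_to_map]
  have : Module.Flat B (Localization.AtPrime q) := IsLocalization.flat (Localization.AtPrime q) q.primeCompl
  have : Module.Flat A (Localization.AtPrime q) := Module.Flat.trans A B _
  have : Module.Flat (Localization.AtPrime p) (Localization.AtPrime q) :=
    (Module.flat_iff_of_isLocalization (Localization.AtPrime p) p.primeCompl _).2 inferInstance
  rw [DepthLib.isCohenMacaulayLocalRing_iff, IsLocalization.AtPrime.ringKrullDim_eq_height q, hht,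
    ← IsLocalization.AtPrime.ringKrullDim_eq_height p (Localization.AtPrime p),
    DepthLib.ringKrullDim_eq_depth, WithBot.coe_le_coe]
  refine ENat.forall_natCast_le_iff_le.mp fun n hn => ?_
  obtain ⟨rs, hlen, hrs, hmem⟩ := DepthLib.natCast_le_depth_iff.1 hn
  refine DepthLib.natCast_le_depth_iff.2 ⟨rs.map f, by simp [hlen], hrs.of_flat, fun r hr => ?_⟩
  obtain ⟨r', hr', rfl⟩ := List.mem_map.1 hr
  have hloc : IsLocalHom f := Localization.isLocalHom_localRingHom p q (algebraMap A B) rfl
  exact map_nonunit f r' (hmem r' hr')

theorem isCohenMacaulayRing_mvPolynomial_field (k : Type u) [Field k] (e : ℕ) :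
    IsCohenMacaulayRing (MvPolynomial (Fin e) k) := by
  have := DepthLib.CMPoly.isRegularRing_field k
  have : IsCohenMacaulayRing k :=
    { isCohenMacaulayLocalRing_localization := fun p _ =>
        DepthLib.isCohenMacaulayLocalRing_of_isRegularLocalRing _ }
  exact Catenary.isCohenMacaulayRing_mvPolynomial k e

end Groth.Agent.StdMon
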