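import Mathlib.RingTheory.MvPolynomial.Homogeneous
import Mathlib.RingTheory.Ideal.Quotient.Operations
import Mathlib.LinearAlgebra.FreeModule.Basic
import Mathlib.LinearAlgebra.LinearIndependent.Lemmas
import Mathlib.RingTheory.Nilpotent.Lemmas
import Mathlib.RingTheory.Finiteness.Basic

/-!
# Graded lifting of bases along regular sequences of linear forms
-/

namespace Groth.Agent.StdMon

open MvPolynomial Finset

universe u v

variable {K : Type u} [Field K] {σ : Type v}

/-- An ideal stable under taking homogeneous components. -/
def IsHomog (I : Ideal (MvPolynomial σ K)) : Prop := ∀ f ∈ I, ∀ k, homogeneousComponent k f ∈ I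

theorem homogeneousComponent_linear_mul {l : MvPolynomial σ K} (hl : l.IsHomogeneous 1)
    (g : MvPolynomial σ K) : ∀ k, homogeneousComponent k (l * g) ∈
      ({0} : Set (MvPolynomial σ K)) ∪ {l * homogeneousComponent (k - 1) g} := by
  intro k
  have h : homogeneousComponent k (l * g) =
      if 1 ≤ k then l * homogeneousComponent (k - 1) g else 0 := by
    conv_lhs => rw [← sum_homogeneousComponent g, mul_sum, map_sum]
    rw [sum_congr rfl fun i _ => homogeneousComponent_of_mem
      (show l * homogeneousComponent i g ∈ homogeneousSubmodule σ K (1 + i) from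
        hl.mul (homogeneousComponent_isHomogeneous i g))]
    split_ifs with hk
    · rw [sum_eq_single (k - 1)]
      · rw [if_pos (by omega)]
      · intro i _ hi
        rw [if_neg (by omega)]
      · intro hi
        rw [homogeneousComponent_eq_zero, mul_zero, ite_self]
        simp only [mem_range, not_lt] at hi
        omega
    · exact sum_eq_zero fun i _ => if_neg (by omega)
  rw [h]
  split_ifs
  · exact Or.inr rfl
  · exact Or.inl rfl

theorem IsHomog.sup_span {I : Ideal (MvPolynomial σ K)} (hI : IsHomog I) {l : MvPolynomial σ K}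
    (hl : l.IsHomogeneous 1) : IsHomog (I ⊔ Ideal.span {l}) := by
  intro f hf k
  obtain ⟨a, ha, b, hb, rfl⟩ := Submodule.mem_sup.1 hf
  obtain ⟨g, rfl⟩ := Ideal.mem_span_singleton'.1 hb
  rw [map_add, mul_comm g]
  refine add_mem (Ideal.mem_sup_left (hI a ha k)) (Ideal.mem_sup_right ?_)
  rcases homogeneousComponent_linear_mul hl g k with h | h <;> rw [h]
  · exact zero_mem _
  · exact Ideal.mul_mem_right _ _ (Ideal.mem_span_singleton_self _)

theorem IsHomog.iInf {ι : Sort*} {I : ι → Ideal (MvPolynomial σ K)} (h : ∀ i, IsHomog (I i)) :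
    IsHomog (⨅ i, I i) := fun f hf k => by
  simp only [Ideal.mem_iInf] at hf ⊢
  exact fun i => h i f (hf i) k

theorem isHomogeneous_powers {e : ℕ} {l : Fin e → MvPolynomial σ K} (hl : ∀ i, (l i).IsHomogeneous 1)
    (m : Fin e → ℕ) : (∏ i, l i ^ m i).IsHomogeneous (∑ i, m i) :=
  IsHomogeneous.prod _ _ _ fun i _ => by simpa using (hl i).pow (m i)

/-- The linear forms `l` are regular in the order from last to first on `S/I`. -/
def RegSeq {e : ℕ} (I : Ideal (MvPolynomial σ K)) (l : Fin e → MvPolynomial σ K) : Prop :=
  ∀ i f, l i * f ∈ I ⊔ Ideal.span (l '' Set.Ioi i) → f ∈ I ⊔ Ideal.span (l '' Set.Ioi i)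

/-- The product of a monomial in `l` with a member of `b`. -/
noncomputable def liftTerm {e : ℕ} {J : Type*} (l : Fin e → MvPolynomial σ K) (b : J → MvPolynomial σ K)
    (p : J × (Fin e → ℕ)) : MvPolynomial σ K :=
  (∏ i, l i ^ p.2 i) * b p.1

/-- `b` gives, with the monomials in `l`, a basis of `S/I`. -/
def IsLiftBasis {e : ℕ} {J : Type*} (I : Ideal (MvPolynomial σ K)) (l : Fin e → MvPolynomial σ K)
    (b : J → MvPolynomial σ K) : Prop :=
  (∀ f : MvPolynomial σ K, ∃ c : J × (Fin e → ℕ) →₀ K,
      f - Finsupp.linearCombination K (liftTerm l b) c ∈ I) ∧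
    ∀ c : J × (Fin e → ℕ) →₀ K, Finsupp.linearCombination K (liftTerm l b) c ∈ I → c = 0

theorem exists_monomial_basis [Fintype σ] (I : Ideal (MvPolynomial σ K))
    (hfin : ∀ x, X x ∈ I.radical) :
    ∃ (J : Type v) (_ : Fintype J) (b : J → MvPolynomial σ K), (∀ j, ∃ k, (b j).IsHomogeneous k) ∧
      IsLiftBasis I (Fin.elim0 : Fin 0 → MvPolynomial σ K) b := by
  classical
  choose N hN using hfin
  let v : (σ →₀ ℕ) → MvPolynomial σ K ⧸ I := fun m => Ideal.Quotient.mk I (monomial m 1)
  obtain ⟨κ, a, ha, hspan, hind⟩ := exists_linearIndependent' K v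
  have hbd : ∀ j x, a j x < N x := by
    intro j x
    by_contra hx
    refine hind.ne_zero j ?_
    change Ideal.Quotient.mk I (monomial (a j) 1) = 0
    rw [Ideal.Quotient.eq_zero_iff_mem]
    have : monomial (a j) (1 : K) = monomial (a j - Finsupp.single x (N x)) 1 * X x ^ N x := by
      rw [X_pow_eq_monomial, monomial_mul, one_mul, tsub_add_cancel_of_le]
      rw [Finsupp.single_le_iff]
      omega
    rw [this]
    exact Ideal.mul_mem_left _ _ (hN x)
  have : Finite κ := by
    refine Finite.of_injective (fun j => fun x => (⟨a j x, hbd j x⟩ : Fin (N x))) fun j j' h => ha ?_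
    ext x
    exact congrArg Fin.val (congrFun h x)
  let f : Fintype κ := Fintype.ofFinite κ
  refine ⟨κ, f, fun j => monomial (a j) (1 : K), ?_, fun z => ?_, fun c hc => ?_⟩
  · exact fun j => ⟨(a j).degree, isHomogeneous_monomial _ rfl⟩
  · have hz : Ideal.Quotient.mk I z ∈ Submodule.span K (Set.range v) := by
      rw [z.as_sum, map_sum]
      refine Submodule.sum_mem _ fun m _ => ?_
      rw [← mul_one (z.coeff m), ← smul_eq_mul, ← smul_monomial]
      exact Submodule.smul_mem _ (z.coeff m) (Submodule.subset_span (Set.mem_range_self (f := v) m))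
    rw [← hspan, ← Finsupp.range_linearCombination] at hz
    obtain ⟨c, hc⟩ := hz
    refine ⟨c.mapDomain fun j => (j, Fin.elim0), ?_⟩
    rw [← Ideal.Quotient.eq_zero_iff_mem, map_sub, sub_eq_zero, ← hc, Finsupp.linearCombination_mapDomain]
    change _ = (Ideal.Quotient.mkₐ K I).toLinearMap _
    rw [Finsupp.apply_linearCombination]
    congr 2
    funext j
    simp [liftTerm, v]
  · have hrepl : ∀ p : κ × (Fin 0 → ℕ), p = (p.1, Fin.elim0) := fun p => Prod.ext rfl (funext fun i => i.elim0)
    rw [← Ideal.Quotient.eq_zero_iff_mem] at hc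
    change (Ideal.Quotient.mkₐ K I).toLinearMap _ = 0 at hc
    rw [Finsupp.apply_linearCombination] at hc
    let c' : κ →₀ K := c.mapDomain Prod.fst
    have : c' = 0 := by
      refine linearIndependent_iff.1 hind c' ?_
      rw [Finsupp.linearCombination_mapDomain, ← hc]
      congr 2
      funext p
      simp [liftTerm, v]
    refine Finsupp.mapDomain_injective (f := (Prod.fst : κ × (Fin 0 → ℕ) → κ)) ?_ (this.trans Finsupp.mapDomain_zero.symm)
    intro p q h
    rw [hrepl p, hrepl q]
    exact congrArg (fun j => (j, Fin.elim0)) h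

theorem exists_liftBasis [Fintype σ] : ∀ (e : ℕ) (I : Ideal (MvPolynomial σ K)) (l : Fin e → MvPolynomial σ K),
    IsHomog I → (∀ i, (l i).IsHomogeneous 1) → RegSeq I l → (∀ x, X x ∈ (I ⊔ Ideal.span (Set.range l)).radical) →
    ∃ (J : Type v) (_ : Fintype J) (b : J → MvPolynomial σ K), (∀ j, ∃ k, (b j).IsHomogeneous k) ∧
      IsLiftBasis I l b := by
  intro e
  induction e with
  | zero =>
    intro I l _ _ _ hfin
    obtain rfl : l = Fin.elim0 := funext fun i => i.elim0
    refine exists_monomial_basis I fun x => ?_
    simpa [Set.range_eq_empty] using hfin x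
  | succ e ih =>
    intro I l hI hl hreg hfin
    classical
    let L := l (Fin.last e)
    let I' := I ⊔ Ideal.span {L}
    let l' : Fin e → MvPolynomial σ K := l ∘ Fin.castSucc
    have hsets : ∀ i : Fin e, I' ⊔ Ideal.span (l' '' Set.Ioi i) = I ⊔ Ideal.span (l '' Set.Ioi i.castSucc) := by
      intro i
      rw [sup_assoc, ← Ideal.span_union]
      congr 2
      ext f
      simp only [Set.singleton_union, Set.mem_insert_iff, Set.mem_image, Set.mem_Ioi, l', Function.comp_apply, L]
      constructor
      · rintro (rfl | ⟨j, hj, rfl⟩)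
        · exact ⟨_, Fin.castSucc_lt_last i, rfl⟩
        · exact ⟨_, Fin.castSucc_lt_castSucc_iff.2 hj, rfl⟩
      · rintro ⟨j, hj, rfl⟩
        induction j using Fin.lastCases with
        | last => exact Or.inl rfl
        | cast j => exact Or.inr ⟨j, Fin.castSucc_lt_castSucc_iff.1 hj, rfl⟩
    have hspan : I' ⊔ Ideal.span (Set.range l') = I ⊔ Ideal.span (Set.range l) := by
      rw [sup_assoc, ← Ideal.span_union]
      congr 2
      ext f
      simp only [Set.singleton_union, Set.mem_insert_iff, Set.mem_range, l', Function.comp_apply, L]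
      constructor
      · rintro (rfl | ⟨j, rfl⟩) <;> exact ⟨_, rfl⟩
      · rintro ⟨j, rfl⟩
        induction j using Fin.lastCases with
        | last => exact Or.inl rfl
        | cast j => exact Or.inr ⟨j, rfl⟩
    have hL : ∀ f, L * f ∈ I → f ∈ I := by
      intro f hf
      have h : l '' Set.Ioi (Fin.last e) = ∅ :=
        Set.eq_empty_of_forall_notMem fun x ⟨j, hj, _⟩ => (Fin.le_last j).not_gt hj
      have := hreg (Fin.last e) f (by rw [h]; simpa using hf)
      rw [h] at this
      simpa using this
    obtain ⟨J, hJ, b, hb, hspanb, hindb⟩ := ih I' l' (hI.sup_span (hl _)) (fun i => hl _)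
      (fun i f hf => by rw [hsets] at hf ⊢; exact hreg _ f hf) (fun x => by rw [hspan]; exact hfin x)
    let T : J × (Fin (e + 1) → ℕ) → MvPolynomial σ K := fun p => (∏ i, l i ^ p.2 i) * b p.1
    let T' : J × (Fin e → ℕ) → MvPolynomial σ K := fun p => (∏ i, l' i ^ p.2 i) * b p.1
    have hsnoc : ∀ j m (k : ℕ), T (j, Fin.snoc m k) = L ^ k * T' (j, m) := by
      intro j m k
      simp [T, T', L, l', Fin.prod_univ_castSucc]
      ring
    refine ⟨J, hJ, b, hb, ?_, ?_⟩
    · -- spanning
      let W : Submodule K (MvPolynomial σ K) := Submodule.span K (Set.range T) ⊔ I.restrictScalars K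
      suffices hW : ∀ f, f ∈ W by
        intro f
        obtain ⟨y, hy, z, hz, rfl⟩ := Submodule.mem_sup.1 (hW f)
        obtain ⟨c, rfl⟩ := Finsupp.mem_span_range_iff_exists_finsupp.1 hy
        exact ⟨c, by simpa [T, liftTerm, Finsupp.linearCombination_apply] using hz⟩
      have hmul : ∀ f ∈ W, L * f ∈ W := by
        intro f hf
        obtain ⟨y, hy, z, hz, rfl⟩ := Submodule.mem_sup.1 hf
        rw [mul_add]
        refine add_mem ?_ (Submodule.mem_sup_right (I.mul_mem_left L hz))
        clear hf
        induction hy using Submodule.span_induction with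
        | mem x hx =>
          obtain ⟨⟨j, m⟩, rfl⟩ := hx
          rw [← Fin.snoc_init_self m, hsnoc, ← mul_assoc, ← pow_succ', ← hsnoc]
          exact Submodule.mem_sup_left (Submodule.subset_span ⟨_, rfl⟩)
        | zero => rw [mul_zero]; exact zero_mem _
        | add x y _ _ hx hy => rw [mul_add]; exact add_mem hx hy
        | smul r x _ hx => rw [mul_smul_comm]; exact W.smul_mem r hx
      have key : ∀ k f, f.IsHomogeneous k → f ∈ W := by
        intro k
        induction k using Nat.strong_induction_on with
        | _ k ihk =>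
        intro f hf
        obtain ⟨c, hc⟩ := hspanb f
        have hc' := hI.sup_span (hl (Fin.last e)) _ hc k
        change homogeneousComponent k (f - Finsupp.linearCombination K T' c) ∈ I' at hc'
        rw [map_sub, homogeneousComponent_eq_self hf] at hc'
        obtain ⟨i, hi, w, hw, he⟩ := Submodule.mem_sup.1 hc'
        obtain ⟨g, rfl⟩ := Ideal.mem_span_singleton'.1 hw
        have hsum : homogeneousComponent k (Finsupp.linearCombination K T' c) ∈ W := by
          rw [Finsupp.linearCombination_apply, map_finsuppSum]
          refine Submodule.sum_mem _ fun p _ => ?_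
          obtain ⟨q, hq⟩ := hb p.1
          simp only [map_smul]
          have hT : (T' p).IsHomogeneous _ := (isHomogeneous_powers (l := l') (fun i => hl _) p.2).mul hq
          rw [homogeneousComponent_of_mem hT]
          refine W.smul_mem _ ?_
          split_ifs
          · have := hsnoc p.1 p.2 0
            rw [pow_zero, one_mul] at this
            exact Submodule.mem_sup_left (Submodule.subset_span ⟨_, this⟩)
          · exact zero_mem _
        have hrest : i + g * L = homogeneousComponent k i + homogeneousComponent k (L * g) := by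
          rw [he, ← map_add, mul_comm L, he, map_sub, homogeneousComponent_eq_self hf,
            homogeneousComponent_eq_self (homogeneousComponent_isHomogeneous k _)]
        have : f = homogeneousComponent k (Finsupp.linearCombination K T' c) +
            (homogeneousComponent k i + homogeneousComponent k (L * g)) := by
          rw [← hrest, he]
          exact (add_sub_cancel _ _).symm
        rw [this]
        refine add_mem hsum (add_mem (Submodule.mem_sup_right (hI i hi k)) ?_)
        rcases Nat.eq_zero_or_pos k with rfl | hk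
        · rw [homogeneousComponent_zero, show coeff 0 (L * g) = constantCoeff L * constantCoeff g from
            map_mul constantCoeff L g, constantCoeff_eq, (hl (Fin.last e)).coeff_eq_zero (by simp), zero_mul, C_0]
          exact zero_mem _
        · rcases homogeneousComponent_linear_mul (hl (Fin.last e)) g k with h | h <;> rw [h]
          · exact zero_mem _
          · exact hmul _ (ihk (k - 1) (by omega) _ (homogeneousComponent_isHomogeneous _ g))
      intro f
      rw [← sum_homogeneousComponent f]
      exact Submodule.sum_mem _ fun k _ => key k _ (homogeneousComponent_isHomogeneous k f)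
    · -- independence
      intro c hc
      let slice : ℕ → (J × (Fin e → ℕ) →₀ K) := fun k =>
        c.comapDomain (fun p => (p.1, Fin.snoc p.2 k)) (fun p _ q _ h => by
          simp only [Prod.mk.injEq] at h
          exact Prod.ext h.1 (by simpa using congrArg Fin.init h.2))
      suffices ∀ k, slice k = 0 by
        ext ⟨j, m⟩
        have h := DFunLike.congr_fun (this (m (Fin.last e))) (j, Fin.init m)
        simpa [slice, Fin.snoc_init_self] using h
      let val : ℕ → MvPolynomial σ K := fun k => (slice k).sum fun p r => r • T' p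
      obtain ⟨N, hN⟩ : ∃ N, ∀ p ∈ c.support, p.2 (Fin.last e) < N :=
        ⟨c.support.sup (fun p => p.2 (Fin.last e)) + 1, fun p hp =>
          Nat.lt_succ_of_le (Finset.le_sup (f := fun p : J × (Fin (e + 1) → ℕ) => p.2 (Fin.last e)) hp)⟩
      have hdecomp : Finsupp.linearCombination K T c = ∑ k ∈ range N, L ^ k * val k := by
        rw [Finsupp.linearCombination_apply, Finsupp.sum, ← sum_fiberwise_of_maps_to (t := range N) (g := fun p => p.2 (Fin.last e))
          fun p hp => mem_range.2 (hN p hp)]
        refine sum_congr rfl fun k _ => ?_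
        simp only [val, Finsupp.sum, mul_sum, mul_smul_comm, slice, Finsupp.comapDomain_support,
          Finsupp.comapDomain_apply, ← hsnoc]
        refine (sum_nbij' (fun p => (p.1, Fin.snoc p.2 k)) (fun p => (p.1, Fin.init p.2)) ?_ ?_ ?_ ?_ ?_).symm
        · intro p hp
          simp only [mem_preimage] at hp
          exact mem_filter.2 ⟨hp, by simp⟩
        · intro p hp
          rw [mem_filter] at hp
          rw [mem_preimage, ← hp.2, Fin.snoc_init_self]
          exact hp.1
        · intro p _
          simp
        · intro p hp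
          rw [mem_filter] at hp
          simp [← hp.2, Fin.snoc_init_self]
        · intro p _
          rfl
      have hzero : ∀ k, N ≤ k → slice k = 0 := by
        intro k hk
        ext ⟨j, m⟩
        simp only [slice, Finsupp.comapDomain_apply, Finsupp.coe_zero, Pi.zero_apply]
        by_contra h
        have := hN _ (Finsupp.mem_support_iff.2 h)
        simp at this
        omega
      have hmain : ∀ (n s : ℕ), n + s = N → ∑ k ∈ range n, L ^ k * val (k + s) ∈ I →
          ∀ k, s ≤ k → slice k = 0 := by
        intro n
        induction n with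
        | zero => intro s hs _ k hk; exact hzero k (by omega)
        | succ n ihn =>
          intro s hs hmem k hk
          rw [sum_range_succ', pow_zero, one_mul, zero_add] at hmem
          have hA : ∑ i ∈ range n, L ^ (i + 1) * val (i + 1 + s) = L * ∑ i ∈ range n, L ^ i * val (i + (s + 1)) := by
            rw [mul_sum]
            refine sum_congr rfl fun i _ => ?_
            rw [pow_succ', mul_assoc, add_assoc, add_comm 1 s]
          rw [hA] at hmem
          have h0 : slice s = 0 := by
            refine hindb _ ?_
            have h1 : L * ∑ i ∈ range n, L ^ i * val (i + (s + 1)) ∈ I' :=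
              Ideal.mem_sup_right (Ideal.mul_mem_right _ _ (Ideal.mem_span_singleton_self _))
            simpa [val, Finsupp.linearCombination_apply, T', liftTerm] using sub_mem (Ideal.mem_sup_left hmem) h1
          rcases hk.eq_or_lt with rfl | hlt
          · exact h0
          · refine ihn (s + 1) (by omega) (hL _ ?_) k (by omega)
            have : val s = 0 := by simp [val, h0]
            rwa [this, add_zero] at hmem
      refine fun k => hmain N 0 (add_zero N) ?_ k (Nat.zero_le k)
      simpa using hdecomp.symm ▸ (show Finsupp.linearCombination K T c ∈ I from hc)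

theorem exists_free_quotient [Fintype σ] {e : ℕ} (I : Ideal (MvPolynomial σ K))
    (l : Fin e → MvPolynomial σ K) (hI : IsHomog I) (hl : ∀ i, (l i).IsHomogeneous 1) (hreg : RegSeq I l)
    (hfin : ∀ x, X x ∈ (I ⊔ Ideal.span (Set.range l)).radical) :
    letI := (MvPolynomial.aeval fun i => Ideal.Quotient.mk I (l i) :
      MvPolynomial (Fin e) K →ₐ[K] MvPolynomial σ K ⧸ I).toRingHom.toAlgebra
    Module.Free (MvPolynomial (Fin e) K) (MvPolynomial σ K ⧸ I) ∧
      Module.Finite (MvPolynomial (Fin e) K) (MvPolynomial σ K ⧸ I) := by
  classical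
  let φ : MvPolynomial (Fin e) K →ₐ[K] MvPolynomial σ K ⧸ I := MvPolynomial.aeval fun i => Ideal.Quotient.mk I (l i)
  let : Algebra (MvPolynomial (Fin e) K) (MvPolynomial σ K ⧸ I) := φ.toRingHom.toAlgebra
  obtain ⟨J, hJ, b, -, hspan, hind⟩ := exists_liftBasis e I l hI hl hreg hfin
  let v : J → MvPolynomial σ K ⧸ I := fun j => Ideal.Quotient.mk I (b j)
  have hsmul : ∀ (m : Fin e →₀ ℕ) (r : K) (j : J), monomial m r • v j =
      Ideal.Quotient.mk I (r • ((∏ i, l i ^ m i) * b j)) := by
    intro m r j
    rw [Algebra.smul_def]
    change φ (monomial m r) * v j = _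
    rw [aeval_monomial, Finsupp.prod_fintype _ _ (fun _ => pow_zero _)]
    simp only [v, Algebra.smul_def, map_mul, map_prod, map_pow, ← Ideal.Quotient.mk_algebraMap]
    ring
  have htop : ⊤ ≤ Submodule.span (MvPolynomial (Fin e) K) (Set.range v) := by
    rintro x -
    obtain ⟨f, rfl⟩ := Ideal.Quotient.mk_surjective x
    obtain ⟨c, hc⟩ := hspan f
    rw [← Ideal.Quotient.eq_zero_iff_mem, map_sub, sub_eq_zero, Finsupp.linearCombination_apply, map_finsuppSum] at hc
    rw [hc]
    refine Submodule.sum_mem _ fun p _ => ?_
    have h := hsmul (Finsupp.equivFunOnFinite.symm p.2) (c p) p.1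
    simp only [Finsupp.coe_equivFunOnFinite_symm] at h
    dsimp only [liftTerm]
    rw [← h]
    exact Submodule.smul_mem _ _ (Submodule.subset_span ⟨_, rfl⟩)
  have hli : LinearIndependent (MvPolynomial (Fin e) K) v := by
    rw [Fintype.linearIndependent_iff]
    intro g hg j
    let c : J × (Fin e → ℕ) →₀ K :=
      ∑ j, (g j).support.sum fun m => Finsupp.single (j, (m : Fin e → ℕ)) ((g j).coeff m)
    have hc : c = 0 := by
      refine hind c ?_
      rw [← Ideal.Quotient.eq_zero_iff_mem, ← hg, map_sum, map_sum]
      refine sum_congr rfl fun j _ => ?_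
      rw [map_sum, map_sum]
      conv_rhs => rw [(g j).as_sum, sum_smul]
      refine sum_congr rfl fun m _ => ?_
      rw [Finsupp.linearCombination_single, hsmul]
      rfl
    ext m
    have := DFunLike.congr_fun hc (j, (m : Fin e → ℕ))
    simp only [c, Finsupp.finsetSum_apply, Finsupp.single_apply, Prod.mk.injEq, Finsupp.coe_zero,
      Pi.zero_apply, DFunLike.coe_fn_eq] at this
    rw [sum_eq_single j (fun x _ hx => by simp [hx]) (fun h => absurd (mem_univ j) h)] at this
    simpa using this
  exact ⟨Module.Free.of_basis (Module.Basis.mk hli htop),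
    Module.Finite.of_basis (Module.Basis.mk hli htop)⟩

end Groth.Agent.StdMon
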