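import Groth.Agent.StdMon.Cell
import Groth.Prelude.Def_CAlgX

/-!
# Standard bitableaux and determinantal ideals
-/

namespace Groth.Agent.StdMon

open W4bk4grassmannian Finset MvPolynomial

universe u

theorem det_mul_eq_zero {B : Type*} [CommRing B] {t s : ℕ} (h : s < t) (U : Matrix (Fin t) (Fin s) B)
    (V : Matrix (Fin s) (Fin t) B) : (U * V).det = 0 := by
  let U' : Matrix (Fin t) (Fin t) B := fun i j => if hj : j.val < s then U i ⟨j.val, hj⟩ else 0
  let V' : Matrix (Fin t) (Fin t) B := fun i j => if hi : i.val < s then V ⟨i.val, hi⟩ j else 0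
  have : U * V = U' * V' := by
    refine Matrix.ext fun i j => ?_
    rw [Matrix.mul_apply, Matrix.mul_apply]
    refine sum_of_injOn (Fin.castLE h.le) (Fin.castLE_injective _).injOn (by simp) ?_ ?_
    · intro q _ hq
      have : ¬ q.val < s := fun hlt => hq ⟨⟨q.val, hlt⟩, by simp, rfl⟩
      simp [U', this]
    · intro p _
      simp [U', V']
  rw [this, Matrix.det_mul, Matrix.det_eq_zero_of_column_eq_zero (⟨s, h⟩ : Fin t) (fun i => by simp [U']),
    zero_mul]

theorem minor_mem_minorIdeal {R : Type*} [CommRing R] {m n : Type} [Fintype m] [Fintype n]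
    (A : Matrix m n R) {t : ℕ} : ∀ (s : ℕ), t ≤ s → ∀ (f : Fin s → m) (g : Fin s → n),
      (A.submatrix f g).det ∈ CAlgX.minorIdeal A t := by
  intro s
  induction s with
  | zero =>
    intro h f g
    obtain rfl : t = 0 := by omega
    exact Ideal.subset_span ⟨(f, g), rfl⟩
  | succ s ih =>
    intro h f g
    rcases h.lt_or_eq with h | h
    · rw [Matrix.det_succ_row_zero]
      refine Ideal.sum_mem _ fun j _ => Ideal.mul_mem_left _ _ ?_
      rw [Matrix.submatrix_submatrix]
      exact ih (by omega) _ _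
    · subst h
      exact Ideal.subset_span ⟨(f, g), rfl⟩

variable {m n : ℕ}

/-- The Plücker index of a minor. -/
def thetaOf (M : MinorIdx m n) : Idx n (n + m) :=
  pairIdx (univ.image (Fin.rev ∘ M.2.1.1)) (univ.image M.2.2.1) (by
    rw [card_image_of_injective _ (Fin.rev_injective.comp M.2.1.2.injective),
      card_image_of_injective _ M.2.2.2.injective])

theorem upCount_thetaOf (M : MinorIdx m n) : upCount (thetaOf M) = M.1 + 1 := by
  rw [thetaOf, upCount_pairIdx, card_image_of_injective _ (Fin.rev_injective.comp M.2.1.2.injective),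
    card_univ, Fintype.card_fin]

theorem upCount_bot : upCount (bot (Nat.le_add_right n m)) = 0 := by
  simp [upCount, bot]

theorem thetaOf_ne_bot (M : MinorIdx m n) : thetaOf M ≠ bot (Nat.le_add_right n m) := fun h => by
  have := upCount_thetaOf M
  rw [h, upCount_bot] at this
  omega

theorem card_filter_le_add_one {N : ℕ} (S : Finset (Fin N)) (x : Fin N) :
    (Sᶜ.filter fun y => y ≤ x).card + (S.filter fun y => y ≤ x).card = x.val + 1 := by
  rw [← card_union_of_disjoint (Disjoint.mono (filter_subset _ _) (filter_subset _ _)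
    disjoint_compl_left), ← filter_union, union_comm, union_compl, filter_ge_eq_Iic, Fin.card_Iic]

theorem count_castAdd (M : MinorIdx m n) (x : Fin n) :
    (univ.filter fun j => (thetaOf M).1 j ≤ Fin.castAdd m x).card +
      (univ.filter fun j => M.2.2.1 j ≤ x).card = x.val + 1 := by
  rw [thetaOf, card_filter_pairIdx _ _ _ (fun z => z ≤ Fin.castAdd m x),
    ← card_filter_le_add_one (univ.image M.2.2.1) x]
  have h1 : ((univ.image (Fin.rev ∘ M.2.1.1)).filter fun y => Fin.natAdd n y ≤ Fin.castAdd m x).card = 0 := by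
    rw [card_eq_zero, filter_eq_empty_iff]
    intro y _ h
    have := Fin.le_def.1 h
    simp at this
    have := x.isLt
    omega
  have h2 : ((univ.image M.2.2.1).filter fun y => y ≤ x).card = (univ.filter fun j => M.2.2.1 j ≤ x).card := by
    rw [filter_image, card_image_of_injective _ M.2.2.2.injective]
  rw [h1, h2, add_zero]
  rfl

theorem count_natAdd (M : MinorIdx m n) (y : Fin m) :
    (univ.filter fun j => (thetaOf M).1 j ≤ Fin.natAdd n y).card +
      (univ.filter fun j => M.2.1.1 j < Fin.rev y).card = n := by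
  rw [thetaOf, card_filter_pairIdx _ _ _ (fun z => z ≤ Fin.natAdd n y)]
  have h1 : ((univ.image M.2.2.1)ᶜ.filter fun x => Fin.castAdd m x ≤ Fin.natAdd n y) = (univ.image M.2.2.1)ᶜ := by
    refine filter_eq_self.2 fun x _ => ?_
    have := x.isLt
    simp [Fin.le_def]
    omega
  have h2 : ((univ.image (Fin.rev ∘ M.2.1.1)).filter fun z => Fin.natAdd n z ≤ Fin.natAdd n y).card =
      (univ.filter fun j => ¬ M.2.1.1 j < Fin.rev y).card := by
    rw [filter_image, card_image_of_injective _ (Fin.rev_injective.comp M.2.1.2.injective)]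
    congr 1
    refine filter_congr fun j _ => ?_
    simp only [Function.comp_apply, Fin.le_def, Fin.lt_def, Fin.val_natAdd, Fin.val_rev]
    have := (M.2.1.1 j).isLt
    have := y.isLt
    omega
  rw [h1, h2, card_compl, card_image_of_injective _ M.2.2.2.injective, card_univ, Fintype.card_fin,
    Fintype.card_fin, add_assoc, add_comm (univ.filter fun j => ¬ M.2.1.1 j < Fin.rev y).card,
    card_filter_add_card_filter_not, card_univ, Fintype.card_fin]
  have h3 : M.1 + 1 ≤ n := by simpa using Fintype.card_le_of_injective _ M.2.2.2.injective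
  omega

theorem filter_le_top {N k : ℕ} (a : Fin k → Fin N) (x : Fin N) (hx : x.val + 1 = N) :
    (univ.filter fun j => a j ≤ x).card = k := by
  rw [filter_eq_self.2 (fun j _ => Fin.le_def.2 (by have := (a j).isLt; omega)), card_univ, Fintype.card_fin]

theorem minorGE_iff (M M' : MinorIdx m n) : MinorGE M M' ↔ thetaOf M ≤ thetaOf M' := by
  obtain ⟨s, ⟨A, hA⟩, ⟨B, hB⟩⟩ := M
  obtain ⟨s', ⟨A', hA'⟩, ⟨B', hB'⟩⟩ := M'
  have hn : 0 < n := (B 0).pos
  rw [idx_le_iff_count]
  constructor
  · rintro ⟨hs, h⟩ z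
    have hs : s ≤ s' := hs
    have hA2 := ((count_le_iff A A' hA hA').1 ⟨by omega, fun j j' e => (h j j' e).1⟩).2
    have hB2 := ((count_le_iff B B' hB hB').1 ⟨by omega, fun j j' e => (h j j' e).2⟩).2
    induction z using Fin.addCases with
    | left x =>
      have h1 := count_castAdd ⟨s, ⟨A, hA⟩, ⟨B, hB⟩⟩ x
      have h2 := count_castAdd ⟨s', ⟨A', hA'⟩, ⟨B', hB'⟩⟩ x
      have := hB2 x
      simp only at h1 h2
      omega
    | right y =>
      have h1 := count_natAdd ⟨s, ⟨A, hA⟩, ⟨B, hB⟩⟩ y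
      have h2 := count_natAdd ⟨s', ⟨A', hA'⟩, ⟨B', hB'⟩⟩ y
      simp only at h1 h2
      suffices (univ.filter fun j => A j < Fin.rev y).card ≤ (univ.filter fun j => A' j < Fin.rev y).card by
        omega
      rcases Nat.eq_zero_or_pos (Fin.rev y).val with h0 | h0
      · rw [filter_eq_empty_iff.2 (fun j _ hlt => by have := Fin.lt_def.1 hlt; omega), card_empty]
        exact Nat.zero_le _
      · let x : Fin m := ⟨(Fin.rev y).val - 1, by omega⟩
        have e : ∀ z : Fin m, z < Fin.rev y ↔ z ≤ x := fun z => by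
          simp only [Fin.lt_def, Fin.le_def, x]; omega
        simp only [e]
        exact hA2 x
  · intro hz
    have hB2 : ∀ x, (univ.filter fun j => B j ≤ x).card ≤ (univ.filter fun j => B' j ≤ x).card := by
      intro x
      have h1 := count_castAdd ⟨s, ⟨A, hA⟩, ⟨B, hB⟩⟩ x
      have h2 := count_castAdd ⟨s', ⟨A', hA'⟩, ⟨B', hB'⟩⟩ x
      have := hz (Fin.castAdd m x)
      simp only at h1 h2
      omega
    have hss : s + 1 ≤ s' + 1 := by
      have := hB2 ⟨n - 1, by omega⟩
      rwa [filter_le_top B _ (by simp only; omega), filter_le_top B' _ (by simp only; omega)] at this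
    have hA2 : ∀ x, (univ.filter fun j => A j ≤ x).card ≤ (univ.filter fun j => A' j ≤ x).card := by
      intro x
      by_cases hx : x.val + 1 = m
      · rwa [filter_le_top A x hx, filter_le_top A' x hx]
      · let y : Fin m := Fin.rev ⟨x.val + 1, by have := x.isLt; omega⟩
        have h1 := count_natAdd ⟨s, ⟨A, hA⟩, ⟨B, hB⟩⟩ y
        have h2 := count_natAdd ⟨s', ⟨A', hA'⟩, ⟨B', hB'⟩⟩ y
        have := hz (Fin.natAdd n y)
        have e : ∀ z : Fin m, z < Fin.rev y ↔ z ≤ x := fun z => by
          simp only [y, Fin.rev_rev, Fin.lt_def, Fin.le_def]; omega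
        simp only [e] at h1 h2
        omega
    exact ⟨by simp only; omega, fun j j' e => ⟨((count_le_iff A A' hA hA').2 ⟨hss, hA2⟩).2 j j' e,
      ((count_le_iff B B' hB hB').2 ⟨hss, hB2⟩).2 j j' e⟩⟩

theorem thetaOf_injective : Function.Injective (thetaOf (m := m) (n := n)) := by
  rintro ⟨s, ⟨A, hA⟩, ⟨B, hB⟩⟩ ⟨s', ⟨A', hA'⟩, ⟨B', hB'⟩⟩ h
  obtain ⟨h1, h1'⟩ := (minorGE_iff _ _).2 h.le
  obtain ⟨h2, h2'⟩ := (minorGE_iff _ _).2 h.ge
  obtain rfl : s = s' := le_antisymm h1 h2
  obtain rfl : A = A' := funext fun j => le_antisymm (h2' j j rfl).1 (h1' j j rfl).1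
  obtain rfl : B = B' := funext fun j => le_antisymm (h2' j j rfl).2 (h1' j j rfl).2
  rfl

theorem exists_thetaOf {θ : Idx n (n + m)} (h : θ ≠ bot (Nat.le_add_right n m)) :
    ∃ M : MinorIdx m n, thetaOf M = θ := by
  obtain ⟨S, T, hST, rfl⟩ := exists_pairIdx θ
  obtain ⟨s, hs⟩ : ∃ s, S.card = s + 1 := by
    refine Nat.exists_eq_succ_of_ne_zero fun h0 => h (idx_ext ?_)
    rw [image_pairIdx, card_eq_zero.1 h0, card_eq_zero.1 (hST.symm.trans h0), Finset.compl_empty]
    ext x
    simp [bot]
    exact ⟨fun ⟨a, ha⟩ => ⟨a, ha⟩, fun ⟨a, ha⟩ => ⟨a, ha⟩⟩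
  let A : Idx (s + 1) m := ⟨fun j => Fin.rev (S.orderEmbOfFin hs (Fin.rev j)),
    fun a b hab => Fin.rev_lt_rev.2 ((S.orderEmbOfFin hs).strictMono (Fin.rev_lt_rev.2 hab))⟩
  let B : Idx (s + 1) n := ⟨T.orderEmbOfFin (hST.symm.trans hs), (T.orderEmbOfFin _).strictMono⟩
  refine ⟨⟨s, A, B⟩, idx_ext ?_⟩
  have e1 : univ.image (Fin.rev ∘ A.1) = S := by
    refine eq_of_subset_of_card_le (fun x hx => ?_) ?_
    · obtain ⟨j, -, rfl⟩ := mem_image.1 hx
      simp [A]
    · rw [card_image_of_injective _ (Fin.rev_injective.comp A.2.injective), card_univ, Fintype.card_fin, hs]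
  have e2 : univ.image B.1 = T := image_orderEmbOfFin_univ T _
  simp only [thetaOf, image_pairIdx, e1, e2]

variable (K : Type u) [CommRing K] (m n)

/-- The generic matrix with the rows in reversed order. -/
noncomputable def revGen : Matrix (Fin m) (Fin n) (MvPolynomial (Fin m × Fin n) K) :=
  fun k l => X (Fin.rev k, l)

/-- The Plücker coordinates as polynomials on `m × n` matrices. -/
noncomputable def toMinors : PlRing K n (n + m) →ₐ[K] MvPolynomial (Fin m × Fin n) K :=
  cellEval K (revGen m n K)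

variable {m n}

theorem toMinors_bot : toMinors m n K (X (bot (Nat.le_add_right n m))) = 1 := cellEval_bot K _

theorem toMinors_thetaOf (M : MinorIdx m n) :
    toMinors m n K (X (thetaOf M)) = minorOf K M ∨ toMinors m n K (X (thetaOf M)) = - minorOf K M := by
  obtain ⟨s, A, B⟩ := M
  let S := univ.image (Fin.rev ∘ A.1)
  let T := univ.image B.1
  have hT : T.card = s + 1 := by simp [T, card_image_of_injective _ B.2.injective]
  have hS : S.card = s + 1 := by
    simp [S, card_image_of_injective _ (Fin.rev_injective.comp A.2.injective)]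
  have eA : ∀ j, (S.orderEmbOfFin hS) j = Fin.rev (A.1 (Fin.rev j)) := fun j =>
    (congrFun (orderEmbOfFin_unique hS (f := fun j => Fin.rev (A.1 (Fin.rev j))) (fun x => by simp [S])
      (fun a b hab => Fin.rev_lt_rev.2 (A.2 (Fin.rev_lt_rev.2 hab)))) j).symm
  have eB : ∀ j, (T.orderEmbOfFin hT) j = B.1 j := fun j =>
    (congrFun (orderEmbOfFin_unique hT (f := B.1) (fun x => by simp [T]) B.2) j).symm
  have key : ∀ (k : ℕ) (hk : k = s + 1) (h1 : S.card = k) (h2 : T.card = k),
      ((revGen m n K).submatrix (S.orderEmbOfFin h1) (T.orderEmbOfFin h2)).det = minorOf K ⟨s, A, B⟩ ∨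
      ((revGen m n K).submatrix (S.orderEmbOfFin h1) (T.orderEmbOfFin h2)).det = - minorOf K ⟨s, A, B⟩ := by
    intro k hk h1 h2
    subst hk
    have : (revGen m n K).submatrix (S.orderEmbOfFin h1) (T.orderEmbOfFin h2) =
        ((genMatrix K m n).submatrix A.1 B.1).submatrix (Fin.revPerm) id := by
      refine Matrix.ext fun i j => ?_
      simp [revGen, genMatrix, eA, eB]
    rw [this, Matrix.det_permute, minorOf]
    rcases Int.units_eq_one_or (Equiv.Perm.sign (Fin.revPerm (n := s + 1))) with e | e <;> simp [e]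
  rcases cellEval_pairIdx K (revGen m n K) S T (hS.trans hT.symm) with e | e <;>
    rcases key T.card hT (hS.trans hT.symm) rfl with e' | e' <;>
    rw [e'] at e
  · exact Or.inl e
  · exact Or.inr e
  · exact Or.inr e
  · exact Or.inl (e.trans (neg_neg _))

theorem toMinors_surjective : Function.Surjective (toMinors m n K) := by
  rw [← AlgHom.range_eq_top, eq_top_iff, ← MvPolynomial.adjoin_range_X, Algebra.adjoin_le_iff]
  rintro _ ⟨⟨i, l⟩, rfl⟩
  obtain ⟨θ, e | e⟩ := cellEval_surjective_aux K (revGen m n K) (Fin.rev i) l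
  · exact ⟨X θ, e.trans (by simp [revGen])⟩
  · exact ⟨- X θ, by rw [map_neg]; exact (congrArg Neg.neg e).trans (by simp [revGen])⟩

/-- Evaluating at a matrix. -/
theorem aeval_toMinors {B : Type*} [CommRing B] [Algebra K B] (Z : Matrix (Fin m) (Fin n) B)
    (f : PlRing K n (n + m)) :
    MvPolynomial.aeval (fun p : Fin m × Fin n => Z (Fin.rev p.1) p.2) (toMinors m n K f) = cellEval K Z f := by
  suffices h : (MvPolynomial.aeval (R := K) fun p : Fin m × Fin n => Z (Fin.rev p.1) p.2).comp
      (toMinors m n K) = cellEval K Z from AlgHom.congr_fun h f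
  refine MvPolynomial.algHom_ext fun θ => ?_
  rw [AlgHom.comp_apply, toMinors, cellEval, cellEval, MvPolynomial.aeval_X, MvPolynomial.aeval_X, AlgHom.map_det]
  congr 1
  funext s t
  simp only [AlgHom.mapMatrix_apply, Matrix.map_apply, Matrix.submatrix_apply, id]
  generalize θ.1 s = z
  induction z using Fin.addCases with
  | left x =>
    rw [cm_castAdd, cm_castAdd]
    split_ifs <;> simp
  | right y =>
    rw [cm_natAdd, cm_natAdd]
    simp [revGen]

theorem minorIdeal_le_ker {B : Type*} [CommRing B] [Algebra K B] {t s : ℕ} (hst : s < t)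
    (U : Matrix (Fin m) (Fin s) B) (V : Matrix (Fin s) (Fin n) B) :
    CAlgX.minorIdeal (genMatrix K m n) t ≤
      RingHom.ker (MvPolynomial.aeval (R := K) fun p : Fin m × Fin n => (U * V) p.1 p.2).toRingHom := by
  rw [CAlgX.minorIdeal, Ideal.span_le]
  rintro _ ⟨⟨f, g⟩, rfl⟩
  change MvPolynomial.aeval (R := K) (fun p : Fin m × Fin n => (U * V) p.1 p.2) _ = 0
  rw [AlgHom.map_det]
  have : (MvPolynomial.aeval (R := K) fun p : Fin m × Fin n => (U * V) p.1 p.2).mapMatrix
      ((genMatrix K m n).submatrix f g) = U.submatrix f id * V.submatrix id g := by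
    refine Matrix.ext fun i j => ?_
    simp [genMatrix, Matrix.mul_apply]
  rw [this]
  exact det_mul_eq_zero hst _ _

/-- Drop the smallest index from a chain. -/
theorem exists_noBot : ∀ {k : ℕ} (c : Fin k → Idx n (n + m)), Antitone c →
    ∃ (k' : ℕ) (c' : Fin k' → Idx n (n + m)), Antitone c' ∧
      (∀ i, c' i ≠ bot (Nat.le_add_right n m)) ∧ (∀ i, ∃ j, c' i = c j) ∧
      toMinors m n K (chainMon K c) = toMinors m n K (chainMon K c') := by
  intro k
  induction k with
  | zero => exact fun c hc => ⟨0, c, hc, fun i => i.elim0, fun i => i.elim0, rfl⟩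
  | succ k ih =>
    intro c hc
    by_cases h : c (Fin.last k) = bot (Nat.le_add_right n m)
    · obtain ⟨k', c', h1, h2, h3, h4⟩ := ih (c ∘ Fin.castSucc)
        (fun a b hab => hc (Fin.castSucc_le_castSucc_iff.2 hab))
      refine ⟨k', c', h1, h2, fun i => ?_, ?_⟩
      · obtain ⟨j, hj⟩ := h3 i
        exact ⟨_, hj⟩
      · rw [← h4, chainMon, chainMon, map_prod, map_prod, Fin.prod_univ_castSucc, h, toMinors_bot, mul_one]
        rfl
    · refine ⟨k + 1, c, hc, fun i hi => h ?_, fun i => ⟨i, rfl⟩, rfl⟩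
      exact le_antisymm ((hc (Fin.le_last i)).trans hi.le) (bot_le _ _)

/-- Standard bitableaux with rows of size at most `t - 1` span modulo the minors of size `t`. -/
theorem exists_std (t : ℕ) (ht : 1 ≤ t) (f : MvPolynomial (Fin m × Fin n) K) :
    ∃ a : Tup n (n + m) →₀ K, (∀ c ∈ a.support, Antitone c.2 ∧
        ∀ k, c.2 k ≠ bot (Nat.le_add_right n m) ∧ upCount (c.2 k) + 1 ≤ t) ∧
      f - toMinors m n K (comb K n (n + m) a) ∈ CAlgX.minorIdeal (genMatrix K m n) t := by
  classical
  let J := CAlgX.minorIdeal (genMatrix K m n) t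
  let P : (Tup n (n + m) →₀ K) → Prop := fun a => ∀ c ∈ a.support, Antitone c.2 ∧
        ∀ k, c.2 k ≠ bot (Nat.le_add_right n m) ∧ upCount (c.2 k) + 1 ≤ t
  obtain ⟨g, rfl⟩ := toMinors_surjective K f
  obtain ⟨a, ha, hga⟩ := exists_comb K g
  have h0 : toMinors m n K g = toMinors m n K (comb K n (n + m) a) := by
    rw [← sub_eq_zero, ← map_sub]
    exact cellEval_mem_plIdealTop K _ hga
  rw [h0]
  clear h0 hga g
  suffices h : ∀ c ∈ a.support, ∃ b, P b ∧
      toMinors m n K (chainMon K c.2) - toMinors m n K (comb K n (n + m) b) ∈ J by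
    choose! b hb using h
    refine ⟨∑ c ∈ a.support, a c • b c, fun x hx => ?_, ?_⟩
    · obtain ⟨c, hc, hxc⟩ : ∃ c ∈ a.support, x ∈ (a c • b c).support := by
        by_contra hne
        push Not at hne
        apply Finsupp.mem_support_iff.1 hx
        rw [Finsupp.finsetSum_apply]
        exact sum_eq_zero fun c hc => Finsupp.notMem_support_iff.1 (hne c hc)
      exact (hb c hc).1 x (Finsupp.support_smul hxc)
    · rw [comb, Finsupp.linearCombination_apply, ← comb, map_finsuppSum, map_sum, map_sum, Finsupp.sum,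
        ← sum_sub_distrib]
      refine Submodule.sum_mem _ fun c hc => ?_
      rw [map_smul, map_smul, map_smul, ← smul_sub, Algebra.smul_def]
      exact Ideal.mul_mem_left _ _ (hb c hc).2
  intro c hc
  obtain ⟨k', c', h1, h2, h3, h4⟩ := exists_noBot K c.2 (ha c hc)
  by_cases hall : ∀ i, upCount (c' i) + 1 ≤ t
  · refine ⟨Finsupp.single ⟨k', c'⟩ 1, fun x hx => ?_, ?_⟩
    · rw [mem_singleton.1 (Finsupp.support_single_subset hx)]
      exact ⟨h1, fun i => ⟨h2 i, hall i⟩⟩
    · rw [comb, Finsupp.linearCombination_single, one_smul, h4, sub_self]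
      exact J.zero_mem
  · push Not at hall
    obtain ⟨i, hi⟩ := hall
    refine ⟨0, fun x hx => by simp at hx, ?_⟩
    rw [map_zero, map_zero, sub_zero, h4, chainMon, map_prod, ← mul_prod_erase univ _ (mem_univ i)]
    refine Ideal.mul_mem_right _ _ ?_
    obtain ⟨M, hM⟩ := exists_thetaOf (h2 i)
    have hge : t ≤ M.1 + 1 := by rw [← hM, upCount_thetaOf] at hi; omega
    have hmem : minorOf K M ∈ J := minor_mem_minorIdeal _ (M.1 + 1) hge _ _
    rcases toMinors_thetaOf K M with e | e <;> rw [← hM, e]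
    · exact hmem
    · exact J.neg_mem hmem

/-- The corner minor of size `s + 1`. -/
def corner {s : ℕ} (hm : s < m) (hn : s < n) : MinorIdx m n :=
  ⟨s, ⟨Fin.castLE hm, Fin.strictMono_castLE hm⟩, ⟨Fin.castLE hn, Fin.strictMono_castLE hn⟩⟩

theorem le_corner {s : ℕ} (hm : s < m) (hn : s < n) (θ : Idx n (n + m)) (h : upCount θ ≤ s + 1) :
    θ ≤ thetaOf (corner hm hn) := by
  by_cases hb : θ = bot (Nat.le_add_right n m)
  · exact hb ▸ bot_le _ _
  obtain ⟨M, rfl⟩ := exists_thetaOf hb
  rw [← minorGE_iff]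
  rw [upCount_thetaOf] at h
  refine ⟨Nat.le_of_succ_le_succ h, fun j j' e => ⟨Fin.le_def.2 ?_, Fin.le_def.2 ?_⟩⟩
  · have := val_le_apply M.2.1 j
    simp [corner]
    omega
  · have := val_le_apply M.2.2 j
    simp [corner]
    omega

/-- The indices with at most `s` low entries have a largest element. -/
theorem exists_top (s : ℕ) (hm : s ≤ m) (hn : s ≤ n) :
    ∃ w : Idx n (n + m), upCount w ≤ s ∧ ∀ θ, upCount θ ≤ s → θ ≤ w := by
  rcases Nat.eq_zero_or_pos s with rfl | hs
  · refine ⟨bot _, (upCount_bot (m := m) (n := n)).le, fun θ hθ => ?_⟩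
    by_cases hb : θ = bot (Nat.le_add_right n m)
    · exact hb.le
    · obtain ⟨M, rfl⟩ := exists_thetaOf hb
      rw [upCount_thetaOf] at hθ
      omega
  · refine ⟨thetaOf (corner (s := s - 1) (by omega : s - 1 < m) (by omega : s - 1 < n)), ?_, fun θ hθ => ?_⟩
    · rw [upCount_thetaOf]
      simp [corner]
      omega
    · exact le_corner _ _ θ (by omega)

end Groth.Agent.StdMon
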