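import Groth.Agent.StdMon.SchubertCM
import Groth.Agent.StdMon.Det

/-!
# The Schubert index of a determinantal variety
-/

namespace Groth.Agent.StdMon

open W4bk4grassmannian Finset MvPolynomial

universe u

variable {m n : ℕ}

/-- The largest index with at most `s` entries beyond the first `n` rows. -/
def topIdx (s : ℕ) (hm : s ≤ m) (hn : s ≤ n) : Idx n (n + m) :=
  ⟨fun t => if h : t.val + s < n then ⟨s + t.val, by omega⟩ else ⟨m + t.val, by omega⟩, by
    intro a b hab
    have := Fin.lt_def.1 hab
    simp only [Fin.lt_def]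
    split_ifs <;> simp only <;> omega⟩

theorem upCount_topIdx (s : ℕ) (hm : s ≤ m) (hn : s ≤ n) : upCount (topIdx s hm hn) ≤ s := by
  rw [upCount]
  refine (card_le_card_of_injOn (t := Finset.range s) (fun t : Fin n => n - 1 - t.val) (fun t ht => ?_) ?_).trans
    (card_range s).le
  · simp only [Finset.coe_filter, Set.mem_ofPred_eq, topIdx] at ht
    have := t.isLt
    have h2 := ht.2
    split_ifs at h2 with h <;> simp only at h2 <;> simp only [Finset.coe_range, Set.mem_Iio] <;> omega
  · intro a _ b _ h
    have := a.isLt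
    have := b.isLt
    exact Fin.ext (by simp only at h; omega)

theorem le_topIdx (s : ℕ) (hm : s ≤ m) (hn : s ≤ n) (θ : Idx n (n + m)) (hθ : upCount θ ≤ s) :
    θ ≤ topIdx s hm hn := by
  intro t
  have ht := t.isLt
  have hup : ∀ (k : ℕ) (hk : t.val + k < n), (θ.1 t).val + k ≤ (θ.1 ⟨t.val + k, hk⟩).val := by
    intro k
    induction k with
    | zero => intros; simp
    | succ k ih =>
      intro hk
      have := ih (by omega)
      have := Fin.lt_def.1 (θ.2 (show (⟨t.val + k, by omega⟩ : Fin n) < ⟨t.val + (k + 1), hk⟩ from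
        Fin.lt_def.2 (by simp only; omega)))
      omega
  rw [Fin.le_def]
  simp only [topIdx]
  split_ifs with h
  · simp only
    have h1 := hup (n - 1 - s - t.val) (by omega)
    have h2 : (θ.1 ⟨t.val + (n - 1 - s - t.val), by omega⟩).val < n := by
      by_contra hge
      have := card_le_card (s := Finset.Ici (⟨t.val + (n - 1 - s - t.val), by omega⟩ : Fin n))
        (t := univ.filter fun j => n ≤ (θ.1 j).val) fun j hj => mem_filter.2 ⟨mem_univ _, by
          have := Fin.le_def.1 (θ.2.monotone (Finset.mem_Ici.1 hj))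
          omega⟩
      rw [Fin.card_Ici] at this
      rw [upCount] at hθ
      simp only at this
      omega
    omega
  · simp only
    have h1 := hup (n - 1 - t.val) (by omega)
    have := (θ.1 ⟨t.val + (n - 1 - t.val), by omega⟩).isLt
    omega

theorem le_topIdx_iff (s : ℕ) (hm : s ≤ m) (hn : s ≤ n) (θ : Idx n (n + m)) :
    θ ≤ topIdx s hm hn ↔ upCount θ ≤ s := by
  refine ⟨fun h => le_trans ?_ (upCount_topIdx s hm hn), le_topIdx s hm hn θ⟩
  exact card_le_card fun t ht => mem_filter.2 ⟨mem_univ _, ((mem_filter.1 ht).2).trans (Fin.le_def.1 (h t))⟩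

theorem codeg_topIdx (s : ℕ) (hm : s ≤ m) (hn : s ≤ n) : codeg (topIdx s hm hn) = s * (m + n - s) := by
  have h : ∀ t : Fin n, ((topIdx s hm hn).1 t).val - t.val = if t.val < n - s then s else m := by
    intro t
    simp only [topIdx]
    split_ifs with h h' <;> simp only <;> omega
  obtain ⟨k, hk⟩ := Nat.exists_eq_add_of_le hn
  obtain ⟨l, hl⟩ := Nat.exists_eq_add_of_le hm
  rw [codeg, sum_congr rfl fun t _ => h t, Fin.sum_univ_eq_sum_range (fun i => if i < n - s then s else m),
    show m + n - s = k + m by omega, show n - s = k by omega, sum_ite]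
  simp only [sum_const, smul_eq_mul]
  have h1 : ((range n).filter fun i => i < k) = range k := by ext i; simp; omega
  have h2 : ((range n).filter fun i => ¬ i < k) = Ico k n := by ext i; simp; omega
  rw [h1, h2, card_range, Nat.card_Ico, show n - k = s by omega, mul_add, mul_comm k]

end Groth.Agent.StdMon
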