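import Groth.Agent.StdMon.BigCell
import Groth.Agent.StdMon.DetTop
import Groth.Agent.StdMon.CMQuot
import Mathlib.RingTheory.AlgebraicIndependent.TranscendenceBasis
import Mathlib.RingTheory.Ideal.Quotient.Operations

/-!
# Determinantal rings as dehomogenised Schubert rings
-/

namespace Groth.Agent.StdMon

open W4bk4grassmannian Finset MvPolynomial

universe u

variable {K : Type u} [Field K]

theorem aeval_mul_of_isHomogeneous {σ : Type*} {B : Type*} [CommRing B] [Algebra K B] (g : σ → B) (c : B)
    {k : ℕ} {f : MvPolynomial σ K} (hf : f.IsHomogeneous k) :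
    MvPolynomial.aeval (fun i => g i * c) f = MvPolynomial.aeval g f * c ^ k := by
  classical
  rw [f.as_sum, map_sum, map_sum, sum_mul]
  refine sum_congr rfl fun e he => ?_
  have hk : ∑ i ∈ e.support, e i = k := by
    have := hf (mem_support_iff.1 he)
    simpa [Finsupp.weight_apply, Finsupp.sum] using this
  rw [aeval_monomial, aeval_monomial, Finsupp.prod, Finsupp.prod, mul_assoc]
  simp only [mul_pow, prod_mul_distrib, prod_pow_eq_pow_sum, hk]

section Abstract

variable {N d : ℕ} [Infinite K] (hd : 0 < d) (hdn : d ≤ N) (w : Idx d N)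

/-- The dehomogenised Schubert ring. -/
abbrev Dehom (K : Type u) [Field K] (hdn : d ≤ N) (w : Idx d N) : Type u :=
  PlRing K d N ⧸ (schubertVanishing K d N w ⊔ Ideal.span {X (bot hdn) - 1})

include hd hdn in
theorem aeval_homogeneousComponent_eq_zero {B : Type*} [CommRing B] [Algebra K B] (g : Idx d N → B) (c : B)
    (hg : schubertVanishing K d N w ≤ RingHom.ker (MvPolynomial.aeval g).toRingHom) {f : PlRing K d N}
    (hf : f ∈ schubertVanishing K d N w) : MvPolynomial.aeval (fun i => g i * c) f = 0 := by
  rw [← sum_homogeneousComponent f, map_sum]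
  refine sum_eq_zero fun k _ => ?_
  rw [aeval_mul_of_isHomogeneous g c (homogeneousComponent_isHomogeneous k f)]
  have : MvPolynomial.aeval g (homogeneousComponent k f) = 0 :=
    hg (isHomog_schubertVanishing hd hdn w f hf k)
  rw [this, zero_mul]

include hd hdn in
theorem dehom_properties :
    IsDomain (Dehom K hdn w) ∧ IsIntegrallyClosed (Dehom K hdn w) ∧
      LocCoh.IsCohenMacaulayRing (Dehom K hdn w) ∧
      ringKrullDim (Dehom K hdn w) = ((codeg w : ℕ) : WithBot ℕ∞) := by
  classical
  let W := schubertVanishing K d N w ⊔ Ideal.span {(X (bot hdn) - 1 : PlRing K d N)}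
  let A := PlRing K d N ⧸ schubertVanishing K d N w
  have hP := isPrime_schubertVanishing (K := K) hd hdn w
  obtain ⟨-, hnormal⟩ := isIntegrallyClosed_schubert (K := K) hd hdn w
  let b : A := Ideal.Quotient.mk _ (X (bot hdn))
  have hb : b ≠ 0 := by
    intro h
    have hmem : comb K d N (Finsupp.single ⟨1, fun _ => bot hdn⟩ 1) ∈ schubertVanishing K d N w := by
      rw [comb, Finsupp.linearCombination_single, one_smul, chainMon, Fin.prod_univ_one]
      exact Ideal.Quotient.eq_zero_iff_mem.1 h
    have := coeff_eq_zero_of_mem hd hdn w _ (fun c hc => by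
      rw [mem_singleton.1 (Finsupp.support_single_subset hc)]
      exact fun _ _ _ => le_rfl) hmem (m := 1) (fun _ => bot hdn) fun _ => bot_le hdn w
    simp at this
  let L := Localization.Away b
  have hle := powers_le_nonZeroDivisors_of_noZeroDivisors hb
  have : IsDomain L := IsLocalization.isDomain_localization hle
  have : IsIntegrallyClosed L := isIntegrallyClosed_of_isLocalization L (Submonoid.powers b) hle
  let bi : L := IsLocalization.Away.invSelf b
  have hbi : algebraMap A L b * bi = 1 := IsLocalization.Away.mul_invSelf b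
  -- the section
  let η₀ : PlRing K d N →ₐ[K] L :=
    MvPolynomial.aeval fun θ => algebraMap A L (Ideal.Quotient.mk _ (X θ)) * bi
  have hg : (MvPolynomial.aeval fun θ => algebraMap A L (Ideal.Quotient.mk _ (X θ)) : PlRing K d N →ₐ[K] L) =
      (IsScalarTower.toAlgHom K A L).comp (Ideal.Quotient.mkₐ K _) :=
    MvPolynomial.algHom_ext fun θ => by simp; rfl
  have hηW : W ≤ RingHom.ker η₀.toRingHom := by
    refine sup_le (fun f hf => aeval_homogeneousComponent_eq_zero hd hdn w _ bi (fun x hx => ?_) hf) ?_
    · rw [RingHom.mem_ker, AlgHom.toRingHom_eq_coe, RingHom.coe_coe, hg, AlgHom.comp_apply,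
        show Ideal.Quotient.mkₐ K _ x = 0 from Ideal.Quotient.eq_zero_iff_mem.2 hx, map_zero]
    · rw [Ideal.span_le, Set.singleton_subset_iff, SetLike.mem_coe, RingHom.mem_ker]
      change η₀ (X (bot hdn) - 1) = 0
      rw [map_sub, map_one, MvPolynomial.aeval_X, sub_eq_zero]
      exact hbi
  let η : (PlRing K d N ⧸ W) →ₐ[K] L := Ideal.Quotient.liftₐ W η₀ hηW
  -- the retraction
  let q : A →+* PlRing K d N ⧸ W := Ideal.Quotient.factor le_sup_left
  have hqb : q b = 1 := by
    rw [← sub_eq_zero, show q b = Ideal.Quotient.mk W (X (bot hdn)) from rfl,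
      ← map_one (Ideal.Quotient.mk W), ← map_sub]
    exact Ideal.Quotient.eq_zero_iff_mem.2 (Ideal.mem_sup_right (Ideal.mem_span_singleton_self _))
  have hqu : IsUnit (q b) := hqb ▸ isUnit_one
  let ρ : L →+* PlRing K d N ⧸ W := IsLocalization.Away.lift b hqu
  have hρ : ∀ a, ρ (algebraMap A L a) = q a := IsLocalization.Away.lift_eq b hqu
  have hρbi : ρ bi = 1 := by
    have := congrArg ρ hbi
    rwa [map_mul, hρ, hqb, one_mul, map_one] at this
  have hρη : ∀ z, ρ (η z) = z := by
    intro z
    obtain ⟨f, rfl⟩ := Ideal.Quotient.mk_surjective z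
    suffices h : (ρ.comp η₀.toRingHom) = Ideal.Quotient.mk W from RingHom.congr_fun h f
    refine MvPolynomial.ringHom_ext (fun r => ?_) fun θ => ?_
    · have : η₀ (C r) = algebraMap A L (Ideal.Quotient.mk _ (C r)) := by
        rw [aeval_C]; rfl
      simp [this, hρ]; rfl
    · simp [η₀, hρ, hρbi]; rfl
  have hηinj : Function.Injective η := Function.LeftInverse.injective hρη
  have : IsDomain (PlRing K d N ⧸ W) := hηinj.isDomain η
  refine ⟨this, ?_, ?_, ?_⟩
  · -- normality
    let F := FractionRing (PlRing K d N ⧸ W)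
    rw [isIntegrallyClosed_iff F]
    intro z hz
    obtain ⟨a, c, hc, rfl⟩ := IsFractionRing.div_surjective (PlRing K d N ⧸ W) z
    have hc0 : c ≠ 0 := nonZeroDivisors.ne_zero hc
    let G := FractionRing L
    let ι : F →+* G := IsFractionRing.lift (A := PlRing K d N ⧸ W)
      (g := (algebraMap L G).comp η.toRingHom) ((IsFractionRing.injective L G).comp hηinj)
    have hι : ∀ x, ι (algebraMap (PlRing K d N ⧸ W) F x) = algebraMap L G (η x) := IsFractionRing.lift_algebraMap _
    have hint : IsIntegral L (ι (algebraMap _ F a / algebraMap _ F c)) := by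
      obtain ⟨p, hp, hpz⟩ := hz
      refine ⟨p.map η.toRingHom, hp.map _, ?_⟩
      rw [Polynomial.eval₂_map]
      have := congrArg ι hpz
      rw [Polynomial.hom_eval₂, map_zero] at this
      rw [show (algebraMap L G).comp η.toRingHom = ι.comp (algebraMap (PlRing K d N ⧸ W) F) from
        RingHom.ext fun x => (hι x).symm]
      exact this
    obtain ⟨l, hl⟩ := (isIntegrallyClosed_iff G).1 ‹IsIntegrallyClosed L› hint
    refine ⟨ρ l, ?_⟩
    have hηc : algebraMap L G (η c) ≠ 0 :=
      (map_ne_zero_iff _ (IsFractionRing.injective L G)).2 ((map_ne_zero_iff _ hηinj).2 hc0)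
    rw [map_div₀, hι, hι, eq_div_iff hηc, ← map_mul] at hl
    have := congrArg ρ (IsFractionRing.injective L G hl)
    rw [map_mul, hρη, hρη] at this
    rw [eq_div_iff ((map_ne_zero_iff _ (IsFractionRing.injective _ F)).2 hc0), ← map_mul, this]
  · -- Cohen–Macaulay
    obtain ⟨hcm, -⟩ := schubert_cm_and_dim (K := K) hd hdn w
    have hb1 : b - 1 ∈ nonZeroDivisors A := by
      refine mem_nonZeroDivisors_of_ne_zero fun h => ?_
      have h' : (X (bot hdn) - 1 : PlRing K d N) ∈ schubertVanishing K d N w :=
        Ideal.Quotient.eq_zero_iff_mem.1 h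
      have := isHomog_schubertVanishing hd hdn w _ h' 0
      rw [homogeneousComponent_zero, coeff_sub, coeff_zero_X, coeff_zero_one, zero_sub] at this
      exact hP.ne_top (Ideal.eq_top_of_isUnit_mem _ this (isUnit_one.neg.map C))
    have := isCohenMacaulayRing_quotient_of_regular hb1
    refine Catenary.isCohenMacaulayRing_of_ringEquiv (A := A ⧸ Ideal.span {b - 1}) ?_
    refine RingEquiv.trans ?_ (DoubleQuot.quotQuotEquivQuotSup (schubertVanishing K d N w)
      (Ideal.span {(X (bot hdn) - 1 : PlRing K d N)}))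
    refine Ideal.quotEquivOfEq ?_
    rw [Ideal.map_span, Set.image_singleton]
    rfl
  · -- dimension
    let Q := PlRing K d N ⧸ W
    let P := Polynomial Q
    have hP0 : ∀ f ∈ schubertVanishing K d N w,
        MvPolynomial.aeval (fun θ => Polynomial.C (Ideal.Quotient.mk W (X θ)) * Polynomial.X : Idx d N → P) f = 0 :=
      fun f hf => aeval_homogeneousComponent_eq_zero (B := P) hd hdn w
        (fun θ => Polynomial.C (Ideal.Quotient.mk W (X θ))) Polynomial.X (fun x hx => by
        rw [RingHom.mem_ker, AlgHom.toRingHom_eq_coe, RingHom.coe_coe]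
        have e : (MvPolynomial.aeval fun θ => Polynomial.C (Ideal.Quotient.mk W (X θ)) : PlRing K d N →ₐ[K] P) =
            (IsScalarTower.toAlgHom K (PlRing K d N ⧸ W) P).comp (Ideal.Quotient.mkₐ K W) :=
          MvPolynomial.algHom_ext fun θ => by simp; rfl
        rw [e, AlgHom.comp_apply]
        rw [show Ideal.Quotient.mkₐ K W x = 0 from Ideal.Quotient.eq_zero_iff_mem.2 (Ideal.mem_sup_left hx), map_zero]) hf
    let α : A →ₐ[K] P := Ideal.Quotient.liftₐ (schubertVanishing K d N w)
      (MvPolynomial.aeval fun θ => Polynomial.C (Ideal.Quotient.mk W (X θ)) * Polynomial.X) hP0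
    have hαX : ∀ θ, α (Ideal.Quotient.mk _ (X θ)) = Polynomial.C (Ideal.Quotient.mk W (X θ)) * Polynomial.X :=
      fun θ => MvPolynomial.aeval_X _ θ
    have hαb : α b = Polynomial.X := by
      rw [hαX, show Ideal.Quotient.mk W (X (bot hdn)) = 1 from hqb, map_one, one_mul]
    let αR : A →+* P := Ideal.Quotient.lift (schubertVanishing K d N w)
      (MvPolynomial.aeval fun θ => Polynomial.C (Ideal.Quotient.mk W (X θ)) * Polynomial.X :
        PlRing K d N →ₐ[K] P).toRingHom hP0
    have hαR : ∀ a, αR a = α a := fun _ => rfl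
    let β : P →+* L := Polynomial.eval₂RingHom η.toRingHom (algebraMap A L b)
    have hβC : ∀ z, β (Polynomial.C z) = η z := fun z => Polynomial.eval₂_C _ _
    have hβX : β Polynomial.X = algebraMap A L b := Polynomial.eval₂_X _ _
    have hβα : ∀ a, β (α a) = algebraMap A L a := by
      intro a
      obtain ⟨f, rfl⟩ := Ideal.Quotient.mk_surjective a
      suffices h : (β.comp αR).comp (Ideal.Quotient.mk _) = (algebraMap A L).comp (Ideal.Quotient.mk _) from
        RingHom.congr_fun h f
      refine MvPolynomial.ringHom_ext (fun r => ?_) fun θ => ?_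
      · have e1 : α (Ideal.Quotient.mk _ (C r)) = Polynomial.C (Ideal.Quotient.mk W (C r)) := α.commutes r
        rw [RingHom.comp_apply, RingHom.comp_apply, RingHom.comp_apply, hαR, e1, hβC]
        exact η.commutes r
      · rw [RingHom.comp_apply, RingHom.comp_apply, RingHom.comp_apply, hαR, hαX, map_mul, hβC, hβX]
        change η₀ (X θ) * _ = _
        rw [MvPolynomial.aeval_X, mul_assoc, mul_comm bi, hbi, mul_one]
    have hαinj : Function.Injective α := fun x y h =>
      IsLocalization.injective L hle (by rw [← hβα, ← hβα, h])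
    obtain ⟨k, hk, hkdim⟩ := Groth.Agent.DimTrdeg.exists_trdeg_eq_ringKrullDim K Q
    obtain ⟨D, hD, hDdim⟩ := Groth.Agent.DimTrdeg.exists_trdeg_eq_ringKrullDim K A
    have hDw : D = codeg w + 1 := by
      have := hDdim.symm.trans (schubert_cm_and_dim (K := K) hd hdn w).2
      exact_mod_cast this
    have hP1 : Algebra.trdeg K A ≤ Algebra.trdeg K P := trdeg_le_of_injective α hαinj
    have : FaithfulSMul K Q := (faithfulSMul_iff_algebraMap_injective _ _).2 (RingHom.injective _)
    rw [← trdeg_add_eq K Q (A := P), Polynomial.trdeg_of_isDomain, hk, hD, hDw] at hP1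
    have hlow : codeg w + 1 ≤ k + 1 := by exact_mod_cast hP1
    have hb1 : b - 1 ∈ nonZeroDivisors A := by
      refine mem_nonZeroDivisors_of_ne_zero fun h => ?_
      have h' : (X (bot hdn) - 1 : PlRing K d N) ∈ schubertVanishing K d N w :=
        Ideal.Quotient.eq_zero_iff_mem.1 h
      have := isHomog_schubertVanishing hd hdn w _ h' 0
      rw [homogeneousComponent_zero, coeff_sub, coeff_zero_X, coeff_zero_one, zero_sub] at this
      exact hP.ne_top (Ideal.eq_top_of_isUnit_mem _ this (isUnit_one.neg.map C))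
    have e : A ⧸ Ideal.span {b - 1} ≃+* Q := RingEquiv.trans (Ideal.quotEquivOfEq (by
        rw [Ideal.map_span, Set.image_singleton]
        rfl)) (DoubleQuot.quotQuotEquivQuotSup (schubertVanishing K d N w)
      (Ideal.span {(X (bot hdn) - 1 : PlRing K d N)}))
    have hsucc := ringKrullDim_quotient_succ_le_of_nonZeroDivisor hb1
    rw [ringKrullDim_eq_of_ringEquiv e, hkdim, hDdim, hDw] at hsucc
    have hhigh : k + 1 ≤ codeg w + 1 := by exact_mod_cast hsucc
    have hk' : k = codeg w := by omega
    rw [← hk']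
    exact hkdim

end Abstract

section Det

variable {m n : ℕ} [Infinite K]

theorem ker_toMinors_mod (hn0 : 0 < n) {s : ℕ} (hm : s ≤ m) (hn : s ≤ n) :
    RingHom.ker ((Ideal.Quotient.mk (CAlgX.minorIdeal (genMatrix K m n) (s + 1))).comp (toMinors m n K).toRingHom) =
      schubertVanishing K n (n + m) (topIdx s hm hn) ⊔
        Ideal.span {(X (bot (Nat.le_add_right n m)) - 1 : PlRing K n (n + m))} := by
  classical
  set J := CAlgX.minorIdeal (genMatrix K m n) (s + 1)
  set W := schubertVanishing K n (n + m) (topIdx s hm hn) ⊔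
        Ideal.span {(X (bot (Nat.le_add_right n m)) - 1 : PlRing K n (n + m))} with hW
  have hmem : ∀ f, f ∈ RingHom.ker ((Ideal.Quotient.mk J).comp (toMinors m n K).toRingHom) ↔
      toMinors m n K f ∈ J := fun f => by
    rw [RingHom.mem_ker, RingHom.comp_apply, Ideal.Quotient.eq_zero_iff_mem]; rfl
  refine le_antisymm (fun f hf => ?_) (sup_le (fun f hf => ?_) ?_)
  · rw [hmem] at hf
    obtain ⟨a, ha, hfa⟩ := exists_comb K f
    have hW1 : plIdealTop K ≤ W :=
      ((plIdealTop_le _).trans (plIdeal_le_schubertVanishing _)).trans le_sup_left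
    let P : (Tup n (n + m) →₀ K) → Prop := fun a' => ∀ c ∈ a'.support, Antitone c.2 ∧
      ∀ k, c.2 k ≠ bot (Nat.le_add_right n m) ∧ c.2 k ≤ topIdx s hm hn
    obtain ⟨a', ha', hcomb⟩ : ∃ a', P a' ∧ comb K n (n + m) a - comb K n (n + m) a' ∈ W := by
      suffices h : ∀ c ∈ a.support, ∃ a', P a' ∧ chainMon K c.2 - comb K n (n + m) a' ∈ W by
        choose! g hg using h
        refine ⟨∑ c ∈ a.support, a c • g c, fun x hx => ?_, ?_⟩
        · obtain ⟨c, hc, hxc⟩ : ∃ c ∈ a.support, x ∈ (a c • g c).support := by
            by_contra hne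
            push Not at hne
            apply Finsupp.mem_support_iff.1 hx
            rw [Finsupp.finsetSum_apply]
            exact sum_eq_zero fun c hc => Finsupp.notMem_support_iff.1 (hne c hc)
          exact (hg c hc).1 x (Finsupp.support_smul hxc)
        · rw [map_sum, comb, Finsupp.linearCombination_apply, Finsupp.sum, ← sum_sub_distrib, ← comb]
          refine Submodule.sum_mem _ fun c hc => ?_
          rw [map_smul, ← smul_sub, Algebra.smul_def]
          exact Ideal.mul_mem_left _ _ (hg c hc).2
      intro c hc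
      obtain ⟨k, c⟩ := c
      have hanti : Antitone c := ha _ hc
      clear hc
      simp only
      induction k with
      | zero =>
        refine ⟨Finsupp.single ⟨0, c⟩ 1, fun x hx => ?_, ?_⟩
        · rw [mem_singleton.1 (Finsupp.support_single_subset hx)]
          exact ⟨hanti, fun k => k.elim0⟩
        · rw [comb, Finsupp.linearCombination_single, one_smul, sub_self]
          exact W.zero_mem
      | succ k ih =>
        by_cases hlast : c (Fin.last k) = bot (Nat.le_add_right n m)
        · obtain ⟨a', h1, h2⟩ := ih (c ∘ Fin.castSucc)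
            (fun x y hxy => hanti (Fin.castSucc_le_castSucc_iff.2 hxy))
          refine ⟨a', h1, ?_⟩
          have : chainMon K c = chainMon K (c ∘ Fin.castSucc) +
              chainMon K (c ∘ Fin.castSucc) * (X (bot (Nat.le_add_right n m)) - 1) := by
            rw [chainMon, chainMon, Fin.prod_univ_castSucc, hlast]
            simp only [Function.comp_apply]
            ring
          rw [this, add_sub_right_comm]
          exact W.add_mem h2 (Ideal.mul_mem_left _ _ (Ideal.mem_sup_right (Ideal.mem_span_singleton_self _)))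
        · by_cases hall : ∀ i, c i ≤ topIdx s hm hn
          · refine ⟨Finsupp.single ⟨k + 1, c⟩ 1, fun x hx => ?_, ?_⟩
            · rw [mem_singleton.1 (Finsupp.support_single_subset hx)]
              exact ⟨hanti, fun i => ⟨fun hi => hlast (le_antisymm ((hanti (Fin.le_last i)).trans hi.le)
                (bot_le _ _)), hall i⟩⟩
            · rw [comb, Finsupp.linearCombination_single, one_smul, sub_self]
              exact W.zero_mem
          · push Not at hall
            obtain ⟨i, hi⟩ := hall
            refine ⟨0, fun x hx => by simp at hx, ?_⟩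
            rw [map_zero, sub_zero]
            exact Ideal.mem_sup_left (chainMon_mem_of_X_mem i (X_mem_schubertVanishing hi))
    have hfW : f - comb K n (n + m) a' ∈ W := by simpa using W.add_mem (hW1 hfa) hcomb
    suffices a' = 0 by rw [this, map_zero, sub_zero] at hfW; exact hfW
    have hker : toMinors m n K (comb K n (n + m) a') ∈ J := by
      have hWJ : ∀ g ∈ W, toMinors m n K g ∈ J := by
        intro g hg
        obtain ⟨u, hu, v, hv, rfl⟩ := Submodule.mem_sup.1 hg
        obtain ⟨z, rfl⟩ := Ideal.mem_span_singleton'.1 hv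
        rw [map_add, map_mul, map_sub, map_one, toMinors_bot, sub_self, mul_zero, add_zero]
        rw [← plIdeal_eq_schubertVanishing hn0 (Nat.le_add_right n m)] at hu
        refine (show plIdeal K (topIdx s hm hn) ≤ J.comap (toMinors m n K).toRingHom from ?_) hu
        rw [plIdeal, Ideal.span_le]
        rintro _ (⟨i, j, r, hp, rfl⟩ | ⟨φ, hφ, rfl⟩) <;> rw [SetLike.mem_coe, Ideal.mem_comap]
        · have h0 : cellEval K (revGen m n K) (shuffleRel K i j r) = 0 :=
            cellEval_mem_plIdealTop K _ (Ideal.subset_span ⟨i, j, r, hp, rfl⟩)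
          change toMinors m n K _ ∈ J
          rw [toMinors, h0]
          exact J.zero_mem
        · obtain ⟨M, rfl⟩ := exists_thetaOf (θ := φ) fun e => hφ (e ▸ bot_le _ _)
          rw [le_topIdx_iff, upCount_thetaOf] at hφ
          have hM : minorOf K M ∈ J := minor_mem_minorIdeal _ (M.1 + 1) (by omega) _ _
          rcases toMinors_thetaOf K M with e | e <;> change toMinors m n K _ ∈ J <;> rw [e]
          · exact hM
          · exact J.neg_mem hM
      have h := J.sub_mem hf (hWJ _ hfW)
      rwa [← map_sub, sub_sub_cancel] at h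
    ext ⟨k, c⟩
    by_contra hne
    have hc := ha' _ (Finsupp.mem_support_iff.2 hne)
    refine hne (cell_coeff_eq_zero hn0 (topIdx s hm hn) s (upCount_topIdx s hm hn) hn a' (fun x hx => (ha' x hx).1)
      (fun x hx k => ((ha' x hx).2 k).1) (fun U V _ => ?_) c fun k => (hc.2 k).2)
    rw [← aeval_toMinors (K := K) (U * V)]
    have := minorIdeal_le_ker (K := K) (t := s + 1) (Nat.lt_succ_self s) (U.submatrix Fin.rev id) V hker
    rw [RingHom.mem_ker] at this
    exact this
  · rw [hmem]
    rw [← plIdeal_eq_schubertVanishing hn0 (Nat.le_add_right n m)] at hf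
    refine (show plIdeal K (topIdx s hm hn) ≤ J.comap (toMinors m n K).toRingHom from ?_) hf
    rw [plIdeal, Ideal.span_le]
    rintro _ (⟨i, j, r, hp, rfl⟩ | ⟨φ, hφ, rfl⟩) <;> rw [SetLike.mem_coe, Ideal.mem_comap]
    · have h0 : cellEval K (revGen m n K) (shuffleRel K i j r) = 0 :=
        cellEval_mem_plIdealTop K _ (Ideal.subset_span ⟨i, j, r, hp, rfl⟩)
      change toMinors m n K _ ∈ J
      rw [toMinors, h0]
      exact J.zero_mem
    · obtain ⟨M, rfl⟩ := exists_thetaOf (θ := φ) fun e => hφ (e ▸ bot_le _ _)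
      rw [le_topIdx_iff, upCount_thetaOf] at hφ
      have hM : minorOf K M ∈ J := minor_mem_minorIdeal _ (M.1 + 1) (by omega) _ _
      rcases toMinors_thetaOf K M with e | e <;> change toMinors m n K _ ∈ J <;> rw [e]
      · exact hM
      · exact J.neg_mem hM
  · rw [Ideal.span_le, Set.singleton_subset_iff, SetLike.mem_coe, hmem, map_sub, map_one, toMinors_bot, sub_self]
    exact J.zero_mem

theorem det_properties (hn0 : 0 < n) {s : ℕ} (hm : s ≤ m) (hn : s ≤ n) :
    IsDomain (MvPolynomial (Fin m × Fin n) K ⧸ CAlgX.minorIdeal (genMatrix K m n) (s + 1)) ∧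
      IsIntegrallyClosed (MvPolynomial (Fin m × Fin n) K ⧸ CAlgX.minorIdeal (genMatrix K m n) (s + 1)) ∧
      LocCoh.IsCohenMacaulayRing (MvPolynomial (Fin m × Fin n) K ⧸ CAlgX.minorIdeal (genMatrix K m n) (s + 1)) ∧
      ringKrullDim (MvPolynomial (Fin m × Fin n) K ⧸ CAlgX.minorIdeal (genMatrix K m n) (s + 1)) =
        ((s * (m + n - s) : ℕ) : WithBot ℕ∞) := by
  obtain ⟨h1, h2, h3, h4⟩ := dehom_properties (K := K) hn0 (Nat.le_add_right n m) (topIdx s hm hn)
  let f := (Ideal.Quotient.mk (CAlgX.minorIdeal (genMatrix K m n) (s + 1))).comp (toMinors m n K).toRingHom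
  have hf : Function.Surjective f := Ideal.Quotient.mk_surjective.comp (toMinors_surjective K)
  let e : Dehom K (Nat.le_add_right n m) (topIdx s hm hn) ≃+*
      MvPolynomial (Fin m × Fin n) K ⧸ CAlgX.minorIdeal (genMatrix K m n) (s + 1) :=
    (Ideal.quotEquivOfEq (ker_toMinors_mod hn0 hm hn).symm).trans (RingHom.quotientKerEquivOfSurjective hf)
  refine ⟨e.symm.toMulEquiv.isDomain _, ?_, Catenary.isCohenMacaulayRing_of_ringEquiv e, ?_⟩
  · have := e.symm.toMulEquiv.isDomain _
    exact IsIntegrallyClosed.of_equiv e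
  · rw [← ringKrullDim_eq_of_ringEquiv e, h4, codeg_topIdx]

end Det

end Groth.Agent.StdMon
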