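import Groth.Agent.StdMon.Span
import Mathlib.LinearAlgebra.Matrix.Rank
import Mathlib.LinearAlgebra.Matrix.NonsingularInverse

/-!
# Minors of full-rank matrices
-/

namespace Groth.Agent.StdMon

open W4bk4grassmannian Finset

universe u

variable {K : Type u} [Field K] {d n : ℕ}

theorem exists_rows_det_ne_zero (A : Matrix (Fin n) (Fin d) K) (hA : LinearIndependent K A.transpose) :
    ∃ a : Fin d → Fin n, (A.submatrix a id).det ≠ 0 := by
  classical
  have hli : LinearIndependent K A.col := hA
  have hrank : A.rank = d := by simpa using hli.rank_matrix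
  have hspan : Submodule.span K (Set.range A.row) = ⊤ := by
    apply Submodule.eq_top_of_finrank_eq
    rw [← Matrix.rank_eq_finrank_span_row, hrank]
    simp
  obtain ⟨κ, a, ha, hsp, hind⟩ := exists_linearIndependent' K A.row
  have : Finite κ := Finite.of_injective a ha
  let _ : Fintype κ := Fintype.ofFinite κ
  let bas := Module.Basis.mk hind (by rw [hsp, hspan])
  have hcard : Fintype.card κ = d := by
    rw [← Module.finrank_eq_card_basis bas]; simp
  let e : Fin d ≃ κ := (Fintype.equivFinOfCardEq hcard).symm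
  refine ⟨fun i => a (e i), fun hdet => ?_⟩
  have hu : IsUnit (A.submatrix (fun i => a (e i)) id) :=
    Matrix.linearIndependent_rows_iff_isUnit.1 (hind.comp e e.injective)
  exact ((Matrix.isUnit_iff_isUnit_det _).1 hu).ne_zero hdet

/-- The minor on an arbitrary tuple is a signed minor on an increasing tuple. -/
theorem det_tuple_cases (a : Fin d → Fin n) :
    (∀ A : Matrix (Fin n) (Fin d) K, (A.submatrix a id).det = 0) ∨
    ∃ θ : Idx d n, ∃ ε : K, ∀ A : Matrix (Fin n) (Fin d) K,
      (A.submatrix a id).det = ε * (A.submatrix θ.1 id).det := by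
  rcases coord_cases K a with h | ⟨θ, -, h | h⟩
  · exact Or.inl fun A => by rw [← aeval_coord (K := K) A a, h, map_zero]
  · exact Or.inr ⟨θ, 1, fun A => by rw [← aeval_coord (K := K) A a, h, MvPolynomial.aeval_X, one_mul]⟩
  · exact Or.inr ⟨θ, -1, fun A => by
      rw [← aeval_coord (K := K) A a, h, map_neg, MvPolynomial.aeval_X, neg_one_mul]⟩

theorem exists_idx_det_ne_zero (A : Matrix (Fin n) (Fin d) K) (hA : LinearIndependent K A.transpose) :
    ∃ θ : Idx d n, (A.submatrix θ.1 id).det ≠ 0 := by
  obtain ⟨a, ha⟩ := exists_rows_det_ne_zero A hA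
  rcases det_tuple_cases (K := K) a with h | ⟨θ, ε, h⟩
  · exact absurd (h A) ha
  · exact ⟨θ, fun h0 => ha (by rw [h, h0, mul_zero])⟩

end Groth.Agent.StdMon
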