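import Groth.Agent.StdMon.Indep
import Mathlib.RingTheory.Ideal.Quotient.Operations
import Mathlib.RingTheory.Ideal.Operations
import Mathlib.RingTheory.Nilpotent.Lemmas

/-!
# Vanishing ideals of Schubert varieties
-/

namespace Groth.Agent.StdMon

open W4bk4grassmannian Finset MvPolynomial

universe u

variable {d n : ℕ}

section CommRing

variable {K : Type u} [CommRing K]

theorem aeval_eq_zero_of_mem_plIdealTop {B : Type*} [CommRing B] [Algebra K B]
    (M : Matrix (Fin n) (Fin d) B) {f : PlRing K d n} (hf : f ∈ plIdealTop K) :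
    MvPolynomial.aeval (fun θ : Idx d n => (M.submatrix θ.1 id).det) f = 0 :=
  plIdealTop_le_ker K M hf

theorem evP_eq_zero_of_mem_plIdealTop (v w : Idx d n) {f : PlRing K d n} (hf : f ∈ plIdealTop K) :
    evP K v w f = 0 :=
  aeval_eq_zero_of_mem_plIdealTop (pat K v w) hf

theorem plIdeal_le_ker_evP {v w τ : Idx d n} (h : w ≤ τ) :
    plIdeal K τ ≤ RingHom.ker (evP K v w).toRingHom := by
  rw [plIdeal, Ideal.span_le]
  rintro _ (⟨i, j, r, -, rfl⟩ | ⟨φ, hφ, rfl⟩)
  · exact aeval_shuffleRel K (pat K v w) i j r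
  · exact evP_X_eq_zero fun h' => hφ (h'.2.trans h)

theorem plIdealTop_le (τ : Idx d n) : plIdealTop K ≤ plIdeal K τ :=
  Ideal.span_mono Set.subset_union_left

/-- A combination splits into the part in `[v, w]` and the rest. -/
theorem comb_sub_filter_mem (I : Ideal (PlRing K d n)) (p : Tup d n → Prop) [DecidablePred p]
    (a : Tup d n →₀ K) (h : ∀ c ∈ a.support, ¬ p c → chainMon K c.2 ∈ I) :
    comb K d n a - comb K d n (a.filter p) ∈ I := by
  have : a = a.filter p + a.filter (fun c => ¬ p c) := (Finsupp.filter_pos_add_filter_neg a p).symm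
  nth_rewrite 1 [this]
  rw [map_add, add_sub_cancel_left, comb, Finsupp.linearCombination_apply]
  refine Submodule.sum_mem _ fun c hc => ?_
  rw [Finsupp.support_filter, mem_filter] at hc
  simp only [Algebra.smul_def]
  exact Ideal.mul_mem_left _ _ (h c hc.1 hc.2)

theorem chainMon_mem_of_X_mem {I : Ideal (PlRing K d n)} {m : ℕ} {c : Fin m → Idx d n} (k : Fin m)
    (h : (X (c k) : PlRing K d n) ∈ I) : chainMon K c ∈ I := by
  rw [chainMon, ← mul_prod_erase univ _ (mem_univ k)]
  exact Ideal.mul_mem_right _ _ h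

end CommRing

section Domain

variable {K : Type u} [CommRing K] [IsDomain K]

/-- The kernel of the evaluation on the pattern `[v, w]`. -/
theorem mem_ker_evP_iff (hd : 0 < d) (v w : Idx d n) (I : Ideal (PlRing K d n))
    (h1 : plIdealTop K ≤ I) (h2 : I ≤ RingHom.ker (evP K v w).toRingHom)
    (h3 : ∀ φ, ¬ (v ≤ φ ∧ φ ≤ w) → (X φ : PlRing K d n) ∈ I) :
    I = RingHom.ker (evP K v w).toRingHom := by
  classical
  refine le_antisymm h2 fun f hf => ?_
  obtain ⟨a, ha, hfa⟩ := exists_comb K f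
  have hb := comb_sub_filter_mem I (fun c : Tup d n => ∀ k, v ≤ c.2 k ∧ c.2 k ≤ w) a fun c _ hc => by
    push Not at hc
    obtain ⟨k, hk⟩ := hc
    exact chainMon_mem_of_X_mem k (h3 _ fun h => hk h.1 h.2)
  have h0 : evP K v w (comb K d n (a.filter fun c : Tup d n => ∀ k, v ≤ c.2 k ∧ c.2 k ≤ w)) = 0 := by
    have e1 : evP K v w (f - comb K d n a) = 0 := h2 (h1 hfa)
    have e2 : evP K v w (comb K d n a - comb K d n (a.filter fun c : Tup d n => ∀ k, v ≤ c.2 k ∧ c.2 k ≤ w)) = 0 :=
      h2 hb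
    have e0 : evP K v w f = 0 := hf
    rw [map_sub, e0, zero_sub, neg_eq_zero] at e1
    rwa [map_sub, e1, zero_sub, neg_eq_zero] at e2
  have hz : a.filter (fun c : Tup d n => ∀ k, v ≤ c.2 k ∧ c.2 k ≤ w) = 0 := by
    ext ⟨m, c⟩
    by_cases hc : ∀ k, v ≤ c k ∧ c k ≤ w
    · exact coeff_eq_zero hd v w _ (fun x hx => ha x (by
          rw [Finsupp.support_filter, mem_filter] at hx; exact hx.1)) h0 c hc
    · exact Finsupp.filter_apply_neg _ _ hc
  rw [hz, map_zero, sub_zero] at hb
  simpa using I.add_mem (h1 hfa) hb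

end Domain

section Field

variable {K : Type u} [Field K]

theorem mem_schubertVanishing_iff {τ : Idx d n} {f : PlRing K d n} :
    f ∈ schubertVanishing K d n τ ↔ ∀ A : Matrix (Fin n) (Fin d) K,
      (∀ φ : Idx d n, ¬ φ ≤ τ → (A.submatrix φ.1 id).det = 0) → evalMinors K d n A f = 0 := by
  simp only [schubertVanishing, Ideal.mem_iInf, RingHom.mem_ker, AlgHom.toRingHom_eq_coe, RingHom.coe_coe]

theorem plIdeal_le_schubertVanishing (τ : Idx d n) : plIdeal K τ ≤ schubertVanishing K d n τ := by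
  intro f hf
  rw [mem_schubertVanishing_iff]
  intro A hA
  revert f
  change plIdeal K τ ≤ RingHom.ker (evalMinors K d n A).toRingHom
  rw [plIdeal, Ideal.span_le]
  rintro _ (⟨i, j, r, -, rfl⟩ | ⟨φ, hφ, rfl⟩)
  · exact aeval_shuffleRel K A i j r
  · exact (MvPolynomial.aeval_X _ _).trans (hA φ hφ)

variable [Infinite K] (hd : 0 < d) (hdn : d ≤ n)

include hdn in
theorem schubertVanishing_le_ker (τ : Idx d n) :
    schubertVanishing K d n τ ≤ RingHom.ker (evP K (bot hdn) τ).toRingHom := fun f hf => by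
  refine evP_eq_zero_of_points fun A hA => mem_schubertVanishing_iff.1 hf A fun φ hφ => ?_
  exact det_eq_zero_of_inPattern hA fun h => hφ h.2

include hd hdn in
theorem ker_evP_bot (τ : Idx d n) :
    plIdeal K τ = RingHom.ker (evP K (bot hdn) τ).toRingHom := by
  refine mem_ker_evP_iff hd _ _ _ (plIdealTop_le τ) (plIdeal_le_ker_evP le_rfl) fun φ hφ => ?_
  exact Ideal.subset_span (Or.inr ⟨φ, fun h => hφ ⟨bot_le hdn φ, h⟩, rfl⟩)

include hd hdn in
/-- `S11250`. -/
theorem plIdeal_eq_schubertVanishing (τ : Idx d n) : plIdeal K τ = schubertVanishing K d n τ :=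
  le_antisymm (plIdeal_le_schubertVanishing τ)
    ((schubertVanishing_le_ker hdn τ).trans (ker_evP_bot hd hdn τ).ge)

include hd hdn in
theorem schubertVanishing_eq_ker (τ : Idx d n) :
    schubertVanishing K d n τ = RingHom.ker (evP K (bot hdn) τ).toRingHom :=
  (plIdeal_eq_schubertVanishing hd hdn τ).symm.trans (ker_evP_bot hd hdn τ)

include hd hdn in
theorem isPrime_schubertVanishing (τ : Idx d n) : (schubertVanishing K d n τ).IsPrime := by
  rw [schubertVanishing_eq_ker hd hdn]
  exact RingHom.ker_isPrime _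

include hd hdn in
/-- Coefficients are detected modulo the vanishing ideal. -/
theorem coeff_eq_zero_of_mem (τ : Idx d n) (a : Tup d n →₀ K) (ha : ∀ c ∈ a.support, Antitone c.2)
    (h : comb K d n a ∈ schubertVanishing K d n τ) {m : ℕ} (c : Fin m → Idx d n) (hc : ∀ k, c k ≤ τ) :
    a ⟨m, c⟩ = 0 :=
  coeff_eq_zero hd (bot hdn) τ a ha (schubertVanishing_le_ker hdn τ h) c fun k => ⟨bot_le hdn _, hc k⟩

include hd hdn in
/-- `S11254`, first half of the argument: intersections of vanishing ideals. -/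
theorem mem_of_forall_coeff {I : Ideal (PlRing K d n)} (h1 : plIdealTop K ≤ I)
    (τs : Set (Idx d n)) (h3 : ∀ (m : ℕ) (c : Fin m → Idx d n), Antitone c →
      (∀ τ ∈ τs, ∃ k, ¬ c k ≤ τ) → chainMon K c ∈ I)
    {f : PlRing K d n} (hf : ∀ τ ∈ τs, f ∈ schubertVanishing K d n τ) : f ∈ I := by
  classical
  obtain ⟨a, ha, hfa⟩ := exists_comb K f
  have hsum : comb K d n a ∈ I := by
    rw [comb, Finsupp.linearCombination_apply]
    refine Submodule.sum_mem _ fun c hc => ?_
    simp only [Algebra.smul_def]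
    refine Ideal.mul_mem_left _ _ (h3 c.1 c.2 (ha c hc) fun τ hτ => ?_)
    by_contra hle
    push Not at hle
    refine Finsupp.mem_support_iff.1 hc (coeff_eq_zero_of_mem hd hdn τ a ha ?_ c.2 hle)
    have := (plIdealTop_le τ).trans (plIdeal_le_schubertVanishing τ) hfa
    simpa using sub_mem (hf τ hτ) this
  simpa using I.add_mem (h1 hfa) hsum

include hd hdn in
/-- `S11253`. -/
theorem sup_schubertVanishing (w₁ w₂ : Idx d n) :
    schubertVanishing K d n w₁ ⊔ schubertVanishing K d n w₂ =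
      schubertVanishing K d n (W4bk4grassmannian.inf w₁ w₂) := by
  simp only [← plIdeal_eq_schubertVanishing hd hdn]
  refine le_antisymm (sup_le ?_ ?_) ?_ <;> rw [plIdeal, Ideal.span_le]
  · rintro _ (h | ⟨φ, hφ, rfl⟩)
    · exact Ideal.subset_span (Or.inl h)
    · exact Ideal.subset_span (Or.inr ⟨φ, fun h => hφ (le_inf_iff'.1 h).1, rfl⟩)
  · rintro _ (h | ⟨φ, hφ, rfl⟩)
    · exact Ideal.subset_span (Or.inl h)
    · exact Ideal.subset_span (Or.inr ⟨φ, fun h => hφ (le_inf_iff'.1 h).2, rfl⟩)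
  · rintro _ (h | ⟨φ, hφ, rfl⟩)
    · exact Ideal.mem_sup_left (Ideal.subset_span (Or.inl h))
    · by_cases h1 : φ ≤ w₁
      · exact Ideal.mem_sup_right (Ideal.subset_span
          (Or.inr ⟨φ, fun h2 => hφ (le_inf_iff'.2 ⟨h1, h2⟩), rfl⟩))
      · exact Ideal.mem_sup_left (Ideal.subset_span (Or.inr ⟨φ, h1, rfl⟩))

end Field

end Groth.Agent.StdMon
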