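import Groth.Agent.StdMon.Quadratic
import Mathlib.RingTheory.Ideal.Quotient.Operations
import Mathlib.Algebra.Polynomial.AlgebraMap
import Mathlib.LinearAlgebra.Basis.Basic
import Mathlib.LinearAlgebra.FreeModule.Basic

/-!
# Flat degenerations of Schubert coordinate rings along straightening weights
-/

namespace Groth.Agent.StdMon

open W4bk4grassmannian Finset MvPolynomial

universe u

variable {K : Type u} [Field K] {d n : ℕ}

/-- Exponents supported on chains. -/
abbrev ChainExp (w : Idx d n) : Type :=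
  {e : Below w →₀ ℕ // ∀ a ∈ e.support, ∀ b ∈ e.support, a ≤ b ∨ b ≤ a}

theorem exists_chain_tuple {w : Idx d n} (e : ChainExp w) :
    ∃ c : Tup d n, Antitone c.2 ∧ (∀ k, c.2 k ≤ w) ∧
      chainMon K c.2 = rename Subtype.val (monomial e.1 1 : MvPolynomial (Below w) K) := by
  classical
  let l := (Finsupp.toMultiset e.1).toList
  have hmem : ∀ k, l.get k ∈ e.1.support := fun k => by
    have := List.get_mem l k
    rwa [Multiset.mem_toList, Finsupp.mem_toMultiset] at this
  obtain ⟨σ, hσ⟩ := exists_antitone_perm (fun k => (l.get k).1) fun k k' =>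
    e.2 _ (hmem k) _ (hmem k')
  refine ⟨⟨l.length, fun k => (l.get (σ k)).1⟩, hσ, fun k => (l.get (σ k)).2, ?_⟩
  have h1 : (monomial e.1 1 : MvPolynomial (Below w) K) = ∏ k, X (l.get k) := by
    have h : ((Finsupp.toMultiset e.1).map (X : Below w → MvPolynomial (Below w) K)).prod = ∏ k, X (l.get k) := by
      rw [← Multiset.coe_toList (Finsupp.toMultiset e.1), Multiset.map_coe, Multiset.prod_coe,
        ← List.prod_ofFn]
      rw [show (fun k => (X (l.get k) : MvPolynomial (Below w) K)) = X ∘ l.get from rfl,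
        ← List.map_ofFn, List.ofFn_get]
    rw [← h, Finsupp.toMultiset_map, Finsupp.prod_toMultiset, monomial_eq, C_1, one_mul]
    rw [Finsupp.prod_mapDomain_index (fun _ => pow_zero _) (fun _ _ _ => pow_add _ _ _)]
  rw [h1, map_prod]
  simp only [rename_X, chainMon]
  exact Equiv.prod_comp σ fun k => (X (l.get k).1 : PlRing K d n)

theorem lI_chainExp (hd : 0 < d) (hdn : d ≤ n) [Infinite K] (w : Idx d n) :
    LinearIndependent K fun e : ChainExp w => belowToSchubert K w (monomial e.1 1) := by
  classical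
  choose j hanti hle hj using exists_chain_tuple (K := K) (w := w)
  have hinj : Function.Injective j := fun e e' h => by
    have := congrArg (fun c : Tup d n => chainMon K c.2) h
    simp only [hj] at this
    exact Subtype.ext ((monomial_left_inj one_ne_zero).1 (rename_injective _ Subtype.val_injective this))
  have hmk : (Ideal.Quotient.mkₐ K (schubertVanishing K d n w)).comp (rename Subtype.val) =
      belowToSchubert K w := MvPolynomial.algHom_ext fun θ => by simp [belowToSchubert]
  rw [linearIndependent_iff]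
  intro l hl
  let a : Tup d n →₀ K := l.mapDomain j
  have ha : ∀ c ∈ a.support, Antitone c.2 := fun c hc => by
    obtain ⟨e, -, rfl⟩ := mem_image.1 (Finsupp.mapDomain_support hc)
    exact hanti e
  have hmem : comb K d n a ∈ schubertVanishing K d n w := by
    rw [← Ideal.Quotient.eq_zero_iff_mem, comb, Finsupp.linearCombination_mapDomain, ← hl,
      Finsupp.linearCombination_apply, Finsupp.linearCombination_apply, map_finsuppSum]
    refine Finsupp.sum_congr fun e _ => ?_
    simp only [Function.comp_apply, hj, ← hmk, AlgHom.comp_apply, Ideal.Quotient.mkₐ_eq_mk]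
    rfl
  ext e
  have h := coeff_eq_zero_of_mem hd hdn w a ha hmem (j e).2 (hle e)
  rwa [show (⟨(j e).1, (j e).2⟩ : Tup d n) = j e from rfl, Finsupp.mapDomain_apply hinj] at h

theorem belowToSchubert_surjective (w : Idx d n) :
    Function.Surjective (belowToSchubert K w) := by
  intro x
  obtain ⟨q, rfl⟩ := Ideal.Quotient.mk_surjective x
  induction q using MvPolynomial.induction_on with
  | C r => exact ⟨C r, by rw [belowToSchubert, aeval_C]; rfl⟩
  | add p q hp hq =>
    obtain ⟨p', hp'⟩ := hp
    obtain ⟨q', hq'⟩ := hq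
    exact ⟨p' + q', by rw [map_add, map_add, hp', hq']⟩
  | mul_X p θ hp =>
    obtain ⟨p', hp'⟩ := hp
    by_cases h : θ ≤ w
    · exact ⟨p' * X ⟨θ, h⟩, by simp [belowToSchubert, ← hp']⟩
    · refine ⟨0, ?_⟩
      have hX : Ideal.Quotient.mk (schubertVanishing K d n w) (X θ) = 0 := by
        rw [Ideal.Quotient.eq_zero_iff_mem, mem_schubertVanishing_iff]
        intro A hA
        simp [evalMinors, hA θ h]
      simp [hX]

/-- The straightening relation among the coordinates of a Schubert variety. -/
theorem straightening_below (hd : 0 < d) (hdn : d ≤ n) [Infinite K] {w : Idx d n} (a b : Below w) :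
    ∃ l : Below w × Below w →₀ K, (∀ p ∈ l.support, p.2.1 ≤ p.1.1 ∧
        W4bk4grassmannian.sup a.1 b.1 < p.1.1 ∧ p.2.1 < W4bk4grassmannian.inf a.1 b.1 ∧
        wgt p.1.1 + wgt p.2.1 = wgt a.1 + wgt b.1) ∧
      belowToSchubert K w (X a * X b) = belowToSchubert K w (X (Below.sup a b) * X (Below.inf a b)) +
        l.sum fun p r => r • belowToSchubert K w (X p.1 * X p.2) := by
  classical
  obtain ⟨l, hl, h⟩ := straightening hd hdn (K := K) a.1 b.1
  have hinj : Function.Injective (Prod.map Subtype.val Subtype.val : Below w × Below w → _) :=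
    Subtype.val_injective.prodMap Subtype.val_injective
  refine ⟨l.comapDomain _ hinj.injOn, fun p hp => ?_, ?_⟩
  · simp only [Finsupp.comapDomain_support, mem_preimage] at hp
    exact hl _ hp
  have hle : vanishing K d n ≤ schubertVanishing K d n w := by
    intro f hf
    rw [mem_schubertVanishing_iff]
    intro A _
    rw [vanishing, Ideal.mem_iInf] at hf
    exact hf A
  have h0 := Ideal.Quotient.eq_zero_iff_mem.2 (hle h)
  rw [map_sub, map_sub, sub_sub, sub_eq_zero] at h0
  rw [map_mul, map_mul]
  simp only [belowToSchubert, aeval_X, ← map_mul, map_mul (aeval (R := K) _)]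
  rw [h0]
  congr 1
  rw [Finsupp.sum, Finsupp.sum, map_sum, Finsupp.comapDomain_support]
  simp only [Finsupp.comapDomain_apply]
  rw [← sum_preimage (Prod.map Subtype.val Subtype.val) l.support hinj.injOn]
  · exact sum_congr rfl fun p _ => rfl
  · intro p hp hnot
    have hp1 : ¬ p.1 ≤ w := fun h1 => hnot ⟨(⟨p.1, h1⟩, ⟨p.2, (hl p hp).1.trans h1⟩), rfl⟩
    rw [Ideal.Quotient.eq_zero_iff_mem, MvPolynomial.smul_eq_C_mul]
    refine Ideal.mul_mem_left _ _ (Ideal.mul_mem_right _ _ ?_)
    rw [mem_schubertVanishing_iff]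
    intro A hA
    simp [evalMinors, hA p.1 hp1]

theorem pow_add_pow_lt (θ φ p q : Idx d n) (h1 : θ < p) (h2 : φ < p) :
    3 ^ wt θ + 3 ^ wt φ < 3 ^ wt p + 3 ^ wt q := by
  have ha : 3 ^ (wt θ + 1) ≤ 3 ^ wt p := Nat.pow_le_pow_right (by omega) (wt_lt_of_lt h1)
  have hb : 3 ^ (wt φ + 1) ≤ 3 ^ wt p := Nat.pow_le_pow_right (by omega) (wt_lt_of_lt h2)
  rw [pow_succ] at ha hb
  have : 0 < 3 ^ wt θ := by positivity
  have : 0 < 3 ^ wt q := by positivity
  omega

theorem lt_sup_of_incomparable {a b : Idx d n} (hab : ¬ a ≤ b) (hba : ¬ b ≤ a) :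
    a < W4bk4grassmannian.sup a b ∧ b < W4bk4grassmannian.sup a b :=
  ⟨lt_of_le_of_ne (fun _ => le_max_left _ _) fun e => hba (e ▸ fun _ => le_max_right _ _),
    lt_of_le_of_ne (fun _ => le_max_right _ _) fun e => hab (e ▸ fun _ => le_max_left _ _)⟩

/-- The polynomial ring of the degeneration. -/
abbrev DegRing (K : Type u) [Field K] {d n : ℕ} (w : Idx d n) : Type u := MvPolynomial (Below w) (Polynomial K)

/-- The coordinate ring of a Schubert variety. -/
abbrev SchRing (K : Type u) [Field K] {d n : ℕ} (w : Idx d n) : Type u :=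
  PlRing K d n ⧸ schubertVanishing K d n w

section Aux

open Polynomial

variable {B : Type*} [CommRing B] [Algebra K B]

theorem coeff_aux (p : Polynomial K) (m : B) (i k : ℕ) :
    (p.map (algebraMap K B) * (Polynomial.C m * Polynomial.X ^ i)).coeff k =
      (p * Polynomial.X ^ i).coeff k • m := by
  rw [mul_left_comm, Polynomial.coeff_C_mul, Algebra.smul_def, mul_comm m, ← Polynomial.coeff_map,
    Polynomial.map_mul, Polynomial.map_pow, Polynomial.map_X]

theorem eval_aux (p : Polynomial K) (m : B) (i : ℕ) (c : K) :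
    Polynomial.aeval (algebraMap K B c) (p.map (algebraMap K B) * (Polynomial.C m * Polynomial.X ^ i)) =
      (p.eval c * c ^ i) • m := by
  simp only [map_mul, Polynomial.coe_aeval_eq_eval, Polynomial.eval_map_algebraMap,
    Polynomial.aeval_algebraMap_apply_eq_algebraMap_eval, Polynomial.eval_C, Polynomial.eval_pow,
    Polynomial.eval_X, Algebra.smul_def, map_pow]
  ring

theorem term_aux (r : K) (m₁ m₂ : B) (e i j : ℕ) :
    (Polynomial.C r * Polynomial.X ^ e).map (algebraMap K B) *
        ((Polynomial.C m₁ * Polynomial.X ^ i) * (Polynomial.C m₂ * Polynomial.X ^ j)) =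
      Polynomial.C (r • (m₁ * m₂)) * Polynomial.X ^ (e + (i + j)) := by
  simp only [Polynomial.map_mul, Polynomial.map_C, Polynomial.map_pow, Polynomial.map_X, Algebra.smul_def,
    map_mul]
  ring

theorem mon_aux {σ : Type*} (e : σ →₀ ℕ) (f : σ → B) (ν : σ → ℕ) :
    (e.prod fun θ k => (Polynomial.C (f θ) * Polynomial.X ^ ν θ) ^ k) =
      (e.prod fun θ k => Polynomial.C (f θ) ^ k) * Polynomial.X ^ Finsupp.weight ν e := by
  rw [Finsupp.weight_apply, Finsupp.sum, ← prod_pow_eq_pow_sum, Finsupp.prod, Finsupp.prod, ← prod_mul_distrib]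
  refine prod_congr rfl fun θ _ => ?_
  rw [mul_pow, ← pow_mul, smul_eq_mul, mul_comm (e θ)]

end Aux

theorem exists_family (hd : 0 < d) (hdn : d ≤ n) [Infinite K] (w : Idx d n) (ν : Idx d n → ℕ)
    (hν0 : ∀ a b : Idx d n, ¬ a ≤ b → ¬ b ≤ a →
      ν (W4bk4grassmannian.sup a b) + ν (W4bk4grassmannian.inf a b) ≤ ν a + ν b)
    (hν1 : ∀ a b p q : Idx d n, W4bk4grassmannian.sup a b < p → q < W4bk4grassmannian.inf a b →
      wgt p + wgt q = wgt a + wgt b → ν p + ν q < ν a + ν b)
    (I : Ideal (MvPolynomial (Below w) K))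
    (hI : I = Ideal.span {f | ∃ a b : Below w, ¬ a ≤ b ∧ ¬ b ≤ a ∧ f = X a * X b -
      C ((0 : K) ^ (ν a.1 + ν b.1 - (ν (Below.sup a b).1 + ν (Below.inf a b).1))) *
        (X (Below.sup a b) * X (Below.inf a b))}) :
    ∃ (R : Type u) (_ : CommRing R) (_ : Algebra K R) (_ : Algebra (Polynomial K) R)
      (_ : IsScalarTower K (Polynomial K) R),
      Module.Free (Polynomial K) R ∧
      Nonempty ((R ⧸ Ideal.span {algebraMap (Polynomial K) R Polynomial.X}) ≃ₐ[K]
        (MvPolynomial (Below w) K ⧸ I)) ∧
      ∀ c : K, c ≠ 0 →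
        Nonempty ((R ⧸ Ideal.span {algebraMap (Polynomial K) R (Polynomial.X - Polynomial.C c)}) ≃ₐ[K]
          (PlRing K d n ⧸ schubertVanishing K d n w)) := by
  classical
  choose l hl hrel using straightening_below (K := K) hd hdn (w := w)
  let term : Below w → Below w → Below w × Below w → K → DegRing K w := fun a b p r =>
    C (Polynomial.C r * Polynomial.X ^ (ν a.1 + ν b.1 - (ν p.1.1 + ν p.2.1))) * (X p.1 * X p.2)
  let rel : Below w → Below w → DegRing K w := fun a b =>
    X a * X b - (term a b (Below.sup a b, Below.inf a b) 1 + (l a b).sum (term a b))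
  let J : Ideal (DegRing K w) := Ideal.span {f | ∃ a b : Below w, ¬ a ≤ b ∧ ¬ b ≤ a ∧ f = rel a b}
  let mon : ChainExp w → DegRing K w := fun e => monomial e.1 1
  let M : Submodule (Polynomial K) (DegRing K w) :=
    Submodule.span _ (Set.range mon) ⊔ J.restrictScalars (Polynomial K)
  let pot : (Below w →₀ ℕ) →+ ℕ := Finsupp.weight fun θ : Below w => 3 ^ wt θ.1
  have hpot : ∀ e, pot e ≤ e.degree * 3 ^ (d * n) := fun e => by
    simp only [pot, Finsupp.weight_apply, Finsupp.degree_apply, Finsupp.sum, smul_eq_mul, sum_mul]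
    exact sum_le_sum fun θ _ => Nat.mul_le_mul_left _ (Nat.pow_le_pow_right (by omega) (wt_le θ.1))
  have hspan : ∀ e, monomial e 1 ∈ M := by
    intro e
    induction hm : e.degree * 3 ^ (d * n) - pot e using Nat.strong_induction_on generalizing e with
    | _ m ih =>
    by_cases hc : ∀ a ∈ e.support, ∀ b ∈ e.support, a ≤ b ∨ b ≤ a
    · exact Submodule.mem_sup_left (Submodule.subset_span ⟨⟨e, hc⟩, rfl⟩)
    push Not at hc
    obtain ⟨a, ha, b, hb, hab, hba⟩ := hc
    have hne : a ≠ b := fun h => hab h.le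
    let e' := e - Finsupp.single a 1 - Finsupp.single b 1
    have he : e = e' + Finsupp.single a 1 + Finsupp.single b 1 := by
      ext x
      have h1 := Finsupp.mem_support_iff.1 ha
      have h2 := Finsupp.mem_support_iff.1 hb
      by_cases hxa : x = a
      · subst hxa; simp [e', hne.symm]; omega
      · by_cases hxb : x = b
        · subst hxb; simp [e', hne]; omega
        · simp [e', Ne.symm hxa, Ne.symm hxb]
    have hterm : ∀ p : Below w × Below w, a.1 < p.1.1 → b.1 < p.1.1 → ∀ r,
        term a b p r * monomial e' 1 ∈ M := by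
      intro p hpa hpb r
      have h' : monomial (e' + Finsupp.single p.1 1 + Finsupp.single p.2 1) 1 ∈ M := by
        refine ih _ ?_ _ rfl
        have hlt := pow_add_pow_lt a.1 b.1 p.1.1 p.2.1 hpa hpb
        have hb1 := hpot (e' + Finsupp.single p.1 1 + Finsupp.single p.2 1)
        have hb2 := hpot e
        rw [← hm, he]
        rw [he] at hb2
        simp only [map_add, Finsupp.degree_single, pot, Finsupp.weight_single, one_smul] at hb1 hb2 hlt ⊢
        omega
      have : term a b p r * monomial e' 1 =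
          (Polynomial.C r * Polynomial.X ^ (ν a.1 + ν b.1 - (ν p.1.1 + ν p.2.1))) •
            monomial (e' + Finsupp.single p.1 1 + Finsupp.single p.2 1) (1 : Polynomial K) := by
        simp only [term, MvPolynomial.smul_eq_C_mul, MvPolynomial.X, monomial_mul, mul_one, mul_assoc]
        congr 2
        congr 1
        abel
      rw [this]
      exact M.smul_mem _ h'
    have hsplit : monomial e 1 = rel a b * monomial e' 1 +
        (term a b (Below.sup a b, Below.inf a b) 1 + (l a b).sum (term a b)) * monomial e' 1 := by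
      rw [← add_mul, sub_add_cancel]
      simp only [MvPolynomial.X, monomial_mul, mul_one]
      congr 1
      rw [he, add_assoc, add_comm]
    rw [hsplit]
    refine M.add_mem (Submodule.mem_sup_right (Ideal.mul_mem_right _ _ (Ideal.subset_span ⟨a, b, hab, hba, rfl⟩))) ?_
    have hs := lt_sup_of_incomparable (a := a.1) (b := b.1) hab hba
    rw [add_mul]
    refine M.add_mem (hterm _ hs.1 hs.2 1) ?_
    rw [Finsupp.sum, sum_mul]
    exact M.sum_mem fun p hp => hterm p (hs.1.trans (hl a b p hp).2.1) (hs.2.trans (hl a b p hp).2.1) _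
  have hM : ∀ z, z ∈ M := fun z => by
    rw [z.as_sum]
    refine M.sum_mem fun e _ => ?_
    rw [← mul_one (z.coeff e), ← smul_eq_mul, ← smul_monomial]
    exact M.smul_mem _ (hspan e)
  -- the map to `SchRing K w[T]`
  let x : Below w → SchRing K w := fun θ => belowToSchubert K w (X θ)
  let Φ : DegRing K w →ₐ[K] Polynomial (SchRing K w) :=
    { eval₂Hom (Polynomial.mapRingHom (algebraMap K (SchRing K w)))
        (fun θ => Polynomial.C (x θ) * Polynomial.X ^ ν θ.1) with
      commutes' := fun r => by
        change eval₂Hom _ _ (C (Polynomial.C r)) = Polynomial.C (algebraMap K (SchRing K w) r)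
        simp }
  have hΦC : ∀ p, Φ (C p) = p.map (algebraMap K (SchRing K w)) := fun p => eval₂Hom_C _ _ p
  have hΦX : ∀ θ, Φ (X θ) = Polynomial.C (x θ) * Polynomial.X ^ ν θ.1 := fun θ => eval₂Hom_X' _ _ θ
  let wν : (Below w →₀ ℕ) →+ ℕ := Finsupp.weight fun θ : Below w => ν θ.1
  have hΦmon : ∀ e, Φ (monomial e 1) =
      Polynomial.C (belowToSchubert K w (monomial e 1)) * Polynomial.X ^ wν e := by
    intro e
    rw [monomial_eq, monomial_eq, C_1, C_1, one_mul, one_mul, map_finsuppProd, map_finsuppProd,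
      map_finsuppProd]
    simp only [map_pow, hΦX]
    exact mon_aux e x fun θ => ν θ.1
  have hΦterm : ∀ a b p r, ν p.1.1 + ν p.2.1 ≤ ν a.1 + ν b.1 → Φ (term a b p r) =
      Polynomial.C (r • belowToSchubert K w (X p.1 * X p.2)) * Polynomial.X ^ (ν a.1 + ν b.1) := by
    intro a b p r h
    change Φ (C _ * (X _ * X _)) = _
    rw [map_mul Φ, map_mul Φ, hΦC, hΦX, hΦX, term_aux, Nat.sub_add_cancel h, map_mul (belowToSchubert K w)]
  have hle : ∀ a b : Below w, ∀ p ∈ (l a b).support, ν p.1.1 + ν p.2.1 < ν a.1 + ν b.1 :=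
    fun a b p hp => hν1 _ _ _ _ (hl a b p hp).2.1 (hl a b p hp).2.2.1 (hl a b p hp).2.2.2
  have hJΦ : ∀ z ∈ J, Φ z = 0 := by
    suffices J ≤ RingHom.ker Φ by exact fun z hz => this hz
    rw [Ideal.span_le]
    rintro _ ⟨a, b, hab, hba, rfl⟩
    change Φ (rel a b) = 0
    have hsum : Φ ((l a b).sum (term a b)) = Polynomial.C ((l a b).sum fun p r =>
        r • belowToSchubert K w (X p.1 * X p.2)) * Polynomial.X ^ (ν a.1 + ν b.1) := by
      rw [map_finsuppSum, map_finsuppSum, Finsupp.sum, Finsupp.sum, sum_mul]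
      exact sum_congr rfl fun p hp => hΦterm a b p _ (hle a b p hp).le
    rw [map_sub, map_add, hsum, hΦterm a b _ _ (hν0 _ _ hab hba), one_smul, map_mul, hΦX, hΦX,
      ← add_mul, ← map_add, ← hrel, map_mul, map_mul, pow_add]
    ring
  let q := Ideal.Quotient.mkₐ (Polynomial K) J
  let bvec : ChainExp w → (DegRing K w ⧸ J) := fun e => q (mon e)
  let ΦR : (DegRing K w ⧸ J) →ₐ[K] Polynomial (SchRing K w) := Ideal.Quotient.liftₐ J Φ hJΦ
  have hΦR : ∀ (p : Polynomial K) (e : ChainExp w), ΦR (p • bvec e) =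
      p.map (algebraMap K (SchRing K w)) * (Polynomial.C (belowToSchubert K w (monomial e.1 1)) * Polynomial.X ^ wν e.1) := by
    intro p e
    rw [← map_smul q]
    change Φ (p • mon e) = _
    rw [MvPolynomial.smul_eq_C_mul, map_mul, hΦC, hΦmon]
  have hLI := lI_chainExp (K := K) hd hdn w
  have hli : LinearIndependent (Polynomial K) bvec := by
    rw [linearIndependent_iff']
    intro s g hg e he
    have h0 := congrArg ΦR hg
    rw [map_sum, map_zero, sum_congr rfl fun i _ => hΦR (g i) i] at h0
    have hk : ∀ k, (g e * Polynomial.X ^ wν e.1).coeff k = 0 := by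
      intro k
      refine linearIndependent_iff'.1 hLI s (fun i => (g i * Polynomial.X ^ wν i.1).coeff k) ?_ e he
      have hk := congrArg (fun f => Polynomial.coeff f k) h0
      simp only [Polynomial.finsetSum_coeff, Polynomial.coeff_zero] at hk
      refine Eq.trans (sum_congr rfl fun i _ => ?_) hk
      exact (coeff_aux (B := SchRing K w) (g i) _ _ k).symm
    exact (mul_eq_zero.1 (Polynomial.ext (p := g e * Polynomial.X ^ wν e.1) (q := 0) (by simpa using hk))).resolve_right
      (pow_ne_zero _ Polynomial.X_ne_zero)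
  have htop : ⊤ ≤ Submodule.span (Polynomial K) (Set.range bvec) := by
    rintro r -
    obtain ⟨z, rfl⟩ := Ideal.Quotient.mk_surjective r
    obtain ⟨m, hm, j, hj, rfl⟩ := Submodule.mem_sup.1 (hM z)
    have : q.toLinearMap m ∈ Submodule.span (Polynomial K) (q.toLinearMap '' Set.range mon) := by
      rw [← Submodule.map_span]; exact Submodule.mem_map_of_mem hm
    rw [← Set.range_comp] at this
    rw [map_add, Ideal.Quotient.eq_zero_iff_mem.2 hj, add_zero]
    exact this
  refine ⟨DegRing K w ⧸ J, inferInstance, inferInstance, inferInstance, inferInstance,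
    Module.Free.of_basis (Module.Basis.mk hli htop), ?_, fun c hc => ?_⟩
  · let g : DegRing K w →ₐ[K] MvPolynomial (Below w) K := MvPolynomial.mapAlgHom (Polynomial.aeval (0 : K))
    let f₀ := (Ideal.Quotient.mkₐ K I).comp g
    have hgC : ∀ p, g (C p) = C (p.eval 0) := fun p => by
      change MvPolynomial.map _ (C p) = _
      rw [map_C]; simp [Polynomial.coe_aeval_eq_eval]
    have hgX : ∀ θ, g (X θ) = X θ := fun θ => by simp [g]
    have hgrel : ∀ a b, g (rel a b) = X a * X b -
        C ((0 : K) ^ (ν a.1 + ν b.1 - (ν (Below.sup a b).1 + ν (Below.inf a b).1))) *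
          (X (Below.sup a b) * X (Below.inf a b)) := by
      intro a b
      have : g ((l a b).sum (term a b)) = 0 := by
        rw [map_finsuppSum]
        refine sum_eq_zero fun p hp => ?_
        have := hle a b p hp
        simp [term, hgC, zero_pow (show ν a.1 + ν b.1 - (ν p.1.1 + ν p.2.1) ≠ 0 by omega)]
      simp only [rel]
      rw [map_sub, map_add, this, add_zero]
      simp [term, hgC, hgX]
    have hgs : Function.Surjective g := MvPolynomial.map_surjective _ fun r => ⟨Polynomial.C r, by simp⟩
    have hmap : I = J.map g := by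
      rw [hI, Ideal.map_span]
      congr 1
      ext f
      simp only [Set.mem_image, Set.mem_ofPred_eq]
      constructor
      · rintro ⟨a, b, hab, hba, rfl⟩
        exact ⟨_, ⟨a, b, hab, hba, rfl⟩, hgrel a b⟩
      · rintro ⟨_, ⟨a, b, hab, hba, rfl⟩, rfl⟩
        exact ⟨a, b, hab, hba, hgrel a b⟩
    let F : (DegRing K w ⧸ J) →ₐ[K] MvPolynomial (Below w) K ⧸ I := Ideal.Quotient.liftₐ J f₀ fun z hz => by
      change Ideal.Quotient.mk I (g z) = 0
      rw [Ideal.Quotient.eq_zero_iff_mem, hmap]
      exact Ideal.mem_map_of_mem g hz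
    have hsurj : Function.Surjective F := fun y => by
      obtain ⟨y, rfl⟩ := Ideal.Quotient.mk_surjective y
      obtain ⟨z, rfl⟩ := hgs y
      exact ⟨Ideal.Quotient.mk J z, rfl⟩
    have hker : RingHom.ker F = Ideal.span {algebraMap (Polynomial K) (DegRing K w ⧸ J) Polynomial.X} := by
      refine le_antisymm (fun r hr => ?_) ?_
      · obtain ⟨z, rfl⟩ := Ideal.Quotient.mk_surjective r
        have hz : g z ∈ J.map g := by
          rw [← hmap]; exact Ideal.Quotient.eq_zero_iff_mem.1 hr
        obtain ⟨j, hj, hgj⟩ := (Ideal.mem_map_iff_of_surjective g hgs).1 hz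
        have hdvd : C (Polynomial.X : Polynomial K) ∣ z - j := by
          rw [C_dvd_iff_dvd_coeff]
          intro e
          rw [Polynomial.X_dvd_iff, Polynomial.coeff_zero_eq_eval_zero]
          have := congrArg (fun f => MvPolynomial.coeff e f) hgj
          simp only [g, mapAlgHom_apply, coeff_map, RingHom.coe_coe, Polynomial.coe_aeval_eq_eval] at this
          rw [coeff_sub, Polynomial.eval_sub, this, sub_self]
        obtain ⟨y, hy⟩ := hdvd
        rw [show z = y * C Polynomial.X + j by rw [mul_comm, ← hy, sub_add_cancel], map_add,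
          Ideal.Quotient.eq_zero_iff_mem.2 hj, add_zero, map_mul]
        exact Ideal.mul_mem_left _ _ (Ideal.subset_span rfl)
      · rw [Ideal.span_le, Set.singleton_subset_iff]
        change Ideal.Quotient.mk I (g (C Polynomial.X)) = 0
        simp [hgC]
    rw [← hker]
    exact ⟨Ideal.quotientKerAlgEquivOfSurjective hsurj⟩
  · let F : (DegRing K w ⧸ J) →ₐ[K] SchRing K w := ((Polynomial.aeval (algebraMap K (SchRing K w) c)).restrictScalars K).comp ΦR
    have hFX : ∀ θ, F (Ideal.Quotient.mk J (X θ)) = x θ * algebraMap K (SchRing K w) (c ^ ν θ.1) := fun θ => by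
      change Polynomial.aeval (algebraMap K (SchRing K w) c) (Φ (X θ)) = _
      simp [hΦX]
    have hsurj : Function.Surjective F := fun y => by
      obtain ⟨z, rfl⟩ := belowToSchubert_surjective w y
      induction z using MvPolynomial.induction_on with
      | C r => exact ⟨algebraMap K (DegRing K w ⧸ J) r, by rw [AlgHom.commutes, ← algebraMap_eq, AlgHom.commutes]⟩
      | add p q hp hq =>
        obtain ⟨p', hp'⟩ := hp
        obtain ⟨q', hq'⟩ := hq
        exact ⟨p' + q', by rw [map_add, map_add, hp', hq']⟩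
      | mul_X p θ hp =>
        obtain ⟨p', hp'⟩ := hp
        refine ⟨p' * (Ideal.Quotient.mk J (X θ) * algebraMap K (DegRing K w ⧸ J) (c ^ ν θ.1)⁻¹), ?_⟩
        rw [map_mul, map_mul, map_mul, AlgHom.commutes, hFX, mul_assoc, ← map_mul,
          mul_inv_cancel₀ (pow_ne_zero _ hc), map_one, mul_one, hp']
    have hker : RingHom.ker F =
        Ideal.span {algebraMap (Polynomial K) (DegRing K w ⧸ J) (Polynomial.X - Polynomial.C c)} := by
      have hF : ∀ (p : Polynomial K) (e : ChainExp w),
          F (p • bvec e) = (p.eval c * c ^ wν e.1) • belowToSchubert K w (monomial e.1 1) := by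
        intro p e
        change Polynomial.aeval (algebraMap K (SchRing K w) c) (ΦR (p • bvec e)) = _
        rw [hΦR]
        exact eval_aux p _ _ c
      refine le_antisymm (fun r hr => ?_) ?_
      · let B := Module.Basis.mk hli htop
        rw [← B.linearCombination_repr r, Finsupp.linearCombination_apply, Finsupp.sum] at hr ⊢
        simp only [B, Module.Basis.coe_mk] at hr ⊢
        rw [RingHom.mem_ker, map_sum, sum_congr rfl fun e _ => hF _ e] at hr
        refine Submodule.sum_mem _ fun e he => ?_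
        have := linearIndependent_iff'.1 hLI _ _ hr e he
        obtain ⟨p, hp⟩ := Polynomial.dvd_iff_isRoot.2 ((mul_eq_zero.1 this).resolve_right (pow_ne_zero _ hc))
        have hsmul : ∀ (p : Polynomial K) (z : DegRing K w ⧸ J),
            p • z = z * algebraMap (Polynomial K) (DegRing K w ⧸ J) p := fun p z =>
          (Algebra.smul_def p z).trans (Algebra.commutes p z)
        rw [hp, mul_smul, hsmul (Polynomial.X - Polynomial.C c)]
        exact Ideal.mul_mem_left _ _ (Ideal.subset_span rfl)
      · rw [Ideal.span_le, Set.singleton_subset_iff]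
        change Polynomial.aeval (algebraMap K (SchRing K w) c) (Φ (C (Polynomial.X - Polynomial.C c))) = 0
        simp [hΦC]
    rw [← hker]
    exact ⟨Ideal.quotientKerAlgEquivOfSurjective hsurj⟩

/-- Number of entries of `θ` which are at most `x`. -/
def cnt (θ : Idx d n) (x : Fin n) : ℕ := (univ.filter fun t => θ.1 t ≤ x).card

theorem cnt_le (θ : Idx d n) (x : Fin n) : cnt θ x ≤ d :=
  (card_filter_le _ _).trans (by simp)

theorem cnt_add_cnt {p q a b : Idx d n} (h : wgt p + wgt q = wgt a + wgt b) (x : Fin n) :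
    cnt p x + cnt q x = cnt a x + cnt b x := by
  classical
  have e : ∀ θ : Idx d n, Finsupp.weight (fun y => if y ≤ x then (1 : ℕ) else 0) (wgt θ) = cnt θ x := fun θ => by
    simp only [wgt, map_sum, Finsupp.weight_single, one_smul, cnt, card_filter]
  rw [← e, ← e, ← e, ← e, ← map_add, ← map_add, h]

theorem cnt_sup (a b : Idx d n) (x : Fin n) :
    cnt (W4bk4grassmannian.sup a b) x = min (cnt a x) (cnt b x) := by
  classical
  let A := univ.filter fun t => a.1 t ≤ x
  let B := univ.filter fun t => b.1 t ≤ x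
  have h : A ⊆ B ∨ B ⊆ A := by
    by_contra hh
    simp only [not_or, not_subset] at hh
    obtain ⟨⟨s, hs, hs'⟩, t, ht, ht'⟩ := hh
    simp only [A, B, mem_filter, mem_univ, true_and] at hs hs' ht ht'
    rcases le_total s t with e | e
    · exact hs' ((b.2.monotone e).trans ht)
    · exact ht' ((a.2.monotone e).trans hs)
  have hs : (univ.filter fun t => (W4bk4grassmannian.sup a b).1 t ≤ x) = A ∩ B := by
    ext t; simp [A, B, W4bk4grassmannian.sup]
  simp only [cnt, hs]
  rcases h with h | h
  · rw [inter_eq_left.2 h, min_eq_left (card_le_card h)]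
  · rw [inter_eq_right.2 h, min_eq_right (card_le_card h)]

/-- The Hibi weight. -/
def hibiW (θ : Idx d n) : ℕ := n * (d * d) - ∑ x, cnt θ x ^ 2

theorem sum_cnt_sq_le (θ : Idx d n) : ∑ x, cnt θ x ^ 2 ≤ n * (d * d) := by
  refine (sum_le_sum fun x _ => Nat.pow_le_pow_left (cnt_le θ x) 2).trans ?_
  simp [pow_two]

theorem hibiW_sup_add_inf (a b : Idx d n) :
    hibiW (W4bk4grassmannian.sup a b) + hibiW (W4bk4grassmannian.inf a b) = hibiW a + hibiW b := by
  have h : ∑ x, cnt (W4bk4grassmannian.sup a b) x ^ 2 + ∑ x, cnt (W4bk4grassmannian.inf a b) x ^ 2 =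
      ∑ x, cnt a x ^ 2 + ∑ x, cnt b x ^ 2 := by
    simp only [← sum_add_distrib]
    refine sum_congr rfl fun x _ => ?_
    have h1 := cnt_add_cnt (wgt_sup_add_inf a b) x
    rw [cnt_sup] at h1 ⊢
    rcases le_total (cnt a x) (cnt b x) with e | e
    · rw [min_eq_left e] at h1 ⊢
      rw [show cnt (W4bk4grassmannian.inf a b) x = cnt b x by omega]
    · rw [min_eq_right e] at h1 ⊢
      rw [show cnt (W4bk4grassmannian.inf a b) x = cnt a x by omega, add_comm]
  have h1 := sum_cnt_sq_le (W4bk4grassmannian.sup a b)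
  have h2 := sum_cnt_sq_le (W4bk4grassmannian.inf a b)
  have h3 := sum_cnt_sq_le a
  have h4 := sum_cnt_sq_le b
  simp only [hibiW]
  omega

theorem hibiW_lt {a b p q : Idx d n} (hp : W4bk4grassmannian.sup a b < p)
    (hw : wgt p + wgt q = wgt a + wgt b) : hibiW p + hibiW q < hibiW a + hibiW b := by
  have hmono : ∀ x, cnt p x ≤ cnt a x ∧ cnt p x ≤ cnt b x := fun x => by
    have := (idx_le_iff_count _ _).1 hp.le x
    change cnt p x ≤ cnt (W4bk4grassmannian.sup a b) x at this
    rw [cnt_sup] at this
    exact ⟨this.trans (min_le_left _ _), this.trans (min_le_right _ _)⟩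
  have h : ∑ x, cnt a x ^ 2 + ∑ x, cnt b x ^ 2 < ∑ x, cnt p x ^ 2 + ∑ x, cnt q x ^ 2 := by
    simp only [← sum_add_distrib]
    refine sum_lt_sum (fun x _ => ?_) ?_
    · obtain ⟨h1, h2⟩ := hmono x
      obtain ⟨i, hi⟩ := Nat.exists_eq_add_of_le h1
      obtain ⟨j, hj⟩ := Nat.exists_eq_add_of_le h2
      have hq : cnt q x = cnt p x + i + j := by have := cnt_add_cnt hw x; omega
      rw [hi, hj, hq]
      nlinarith [Nat.zero_le (i * j)]
    · have := hp.not_ge
      rw [idx_le_iff_count] at this
      push Not at this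
      obtain ⟨x, hx⟩ := this
      change cnt p x < cnt (W4bk4grassmannian.sup a b) x at hx
      rw [cnt_sup, lt_min_iff] at hx
      obtain ⟨i, hi⟩ := Nat.exists_eq_add_of_lt hx.1
      obtain ⟨j, hj⟩ := Nat.exists_eq_add_of_lt hx.2
      have hq : cnt q x = cnt p x + i + 1 + j + 1 := by have := cnt_add_cnt hw x; omega
      refine ⟨x, mem_univ _, ?_⟩
      rw [hi, hj, hq]
      nlinarith [Nat.zero_le (i * j)]
  have h1 := sum_cnt_sq_le p
  have h2 := sum_cnt_sq_le q
  have h3 := sum_cnt_sq_le a
  have h4 := sum_cnt_sq_le b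
  simp only [hibiW]
  omega

/-- The Stanley–Reisner weight. -/
def srW (θ : Idx d n) : ℕ := 3 ^ (d * n) - 3 ^ wt θ

theorem srW_lt {a b p q : Idx d n} (ha : a < p) (hb : b < p) : srW p + srW q < srW a + srW b := by
  have h := pow_add_pow_lt a b p q ha hb
  have h1 : ∀ θ : Idx d n, 3 ^ wt θ ≤ 3 ^ (d * n) := fun θ => Nat.pow_le_pow_right (by omega) (wt_le θ)
  have := h1 a; have := h1 b; have := h1 p; have := h1 q
  simp only [srW]
  omega

end Groth.Agent.StdMon
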