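import Groth.Agent.StdMon.RegInduct
import Groth.Agent.StdMon.FlatCM
import Groth.Agent.StdMon.Degen
import Groth.Agent.DimTrdeg.Basic

/-!
# Schubert coordinate rings are free over polynomial rings in rank sums
-/

namespace Groth.Agent.StdMon

open W4bk4grassmannian Finset MvPolynomial

universe u

variable {K : Type u} [Field K] {d n : ℕ}

theorem wt_eq_codeg_add (θ : Idx d n) : wt θ = codeg θ + ∑ t : Fin d, t.val := by
  rw [codeg, wt, ← sum_add_distrib]
  exact sum_congr rfl fun t _ => (Nat.sub_add_cancel (val_le_apply θ t)).symm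

theorem codeg_lt_of_lt {θ θ' : Idx d n} (h : θ < θ') : codeg θ < codeg θ' := by
  have := wt_lt_of_lt h
  rw [wt_eq_codeg_add, wt_eq_codeg_add] at this
  omega

theorem codeg_le_of_le {θ θ' : Idx d n} (h : θ ≤ θ') : codeg θ ≤ codeg θ' := by
  rcases h.eq_or_lt with rfl | h
  · exact le_rfl
  · exact (codeg_lt_of_lt h).le

theorem codeg_sup_add_inf (a b : Idx d n) :
    codeg (W4bk4grassmannian.sup a b) + codeg (W4bk4grassmannian.inf a b) = codeg a + codeg b := by
  have h : wt (W4bk4grassmannian.sup a b) + wt (W4bk4grassmannian.inf a b) = wt a + wt b := by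
    simp only [wt, ← sum_add_distrib]
    refine sum_congr rfl fun t _ => ?_
    rcases le_total (a.1 t) (b.1 t) with h | h <;>
      simp [W4bk4grassmannian.sup, W4bk4grassmannian.inf, h, add_comm]
  simp only [wt_eq_codeg_add] at h
  omega

theorem not_le_of_codeg {a b : Idx d n} (h : codeg a = codeg b) (hne : a ≠ b) : ¬ a ≤ b := fun hle =>
  (codeg_lt_of_lt (lt_of_le_of_ne hle hne)).ne h

theorem inf_mem_divisors {τ φ ψ : Idx d n} (hφ : φ ∈ divisors τ) (hψ : ψ ∈ divisors τ) (hne : ψ ≠ φ) :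
    W4bk4grassmannian.inf ψ φ ∈ divisors φ := by
  have hc : codeg ψ = codeg φ := by have := hφ.2; have := hψ.2; omega
  have hnle := not_le_of_codeg hc.symm (Ne.symm hne)
  have hlt : W4bk4grassmannian.inf ψ φ < φ :=
    lt_of_le_of_ne (fun _ => min_le_right _ _) fun e => hnle fun t => by rw [← e]; exact min_le_left _ _
  have hsup : W4bk4grassmannian.sup ψ φ ≤ τ := sup_le' hψ.1.le hφ.1.le
  have hlt' : φ < W4bk4grassmannian.sup ψ φ :=
    (lt_sup_of_incomparable (not_le_of_codeg hc hne) hnle).2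
  have := codeg_lt_of_lt hlt'
  have := codeg_le_of_le hsup
  have := codeg_sup_add_inf ψ φ
  have := hφ.2
  exact ⟨hlt, by omega⟩

/-- The sum of the coordinates of a given codegree. -/
noncomputable def rankSum (K : Type u) [Field K] (d n i : ℕ) : PlRing K d n :=
  ∑ φ ∈ univ.filter (fun φ : Idx d n => codeg φ = i), X φ

theorem isHomogeneous_rankSum (i : ℕ) : (rankSum K d n i).IsHomogeneous 1 :=
  IsHomogeneous.sum _ _ _ fun φ _ => isHomogeneous_X K φ

theorem X_mem_schubertVanishing {τ φ : Idx d n} (h : ¬ φ ≤ τ) :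
    (X φ : PlRing K d n) ∈ schubertVanishing K d n τ :=
  plIdeal_le_schubertVanishing τ (Ideal.subset_span (Or.inr ⟨φ, h, rfl⟩))

theorem rankSum_mem_of_codeg_lt {τ : Idx d n} {i : ℕ} (h : codeg τ < i) :
    rankSum K d n i ∈ schubertVanishing K d n τ := by
  refine Ideal.sum_mem _ fun φ hφ => X_mem_schubertVanishing fun hle => ?_
  have := codeg_le_of_le hle
  have := (mem_filter.1 hφ).2
  omega

theorem rankSum_codeg_sub_mem (τ : Idx d n) :
    rankSum K d n (codeg τ) - X τ ∈ schubertVanishing K d n τ := by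
  classical
  rw [rankSum, ← add_sum_erase (univ.filter fun φ : Idx d n => codeg φ = codeg τ) (fun φ => (X φ : PlRing K d n))
    (mem_filter.2 ⟨mem_univ τ, rfl⟩), add_sub_cancel_left]
  refine Ideal.sum_mem _ fun φ hφ => X_mem_schubertVanishing ?_
  rw [mem_erase, mem_filter] at hφ
  exact not_le_of_codeg hφ.2.2 hφ.1

variable [Infinite K] (hd : 0 < d) (hdn : d ≤ n)

include hd hdn in
theorem isHomog_schubertVanishing (τ : Idx d n) : IsHomog (schubertVanishing K d n τ) := by
  classical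
  intro f hf k
  rw [schubertVanishing_eq_ker hd hdn, RingHom.mem_ker, AlgHom.toRingHom_eq_coe, RingHom.coe_coe] at hf ⊢
  have hev : ∀ i, (evP K (bot hdn) τ (homogeneousComponent i f)).IsHomogeneous (d * i) := fun i =>
    (homogeneousComponent_isHomogeneous i f).aeval _ fun θ => by
      simpa [evP_X] using isHomogeneous_evP_X (K := K) (bot hdn) τ θ
  by_cases hk : k ≤ f.totalDegree
  · have h := congrArg (homogeneousComponent (d * k)) hf
    rw [← sum_homogeneousComponent f, map_sum, map_sum, map_zero, sum_eq_single k,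
      homogeneousComponent_eq_self (hev k)] at h
    · exact h
    · intro i _ hi
      rw [homogeneousComponent_of_mem (hev i), if_neg fun e => hi (Nat.eq_of_mul_eq_mul_left hd e).symm]
    · intro hk'
      exact absurd (mem_range.2 (Nat.lt_succ_of_le hk)) hk'
  · rw [homogeneousComponent_eq_zero _ _ (not_le.1 hk), map_zero]

include hd hdn in
theorem iInf_sup_schubertVanishing (Ω : Finset (Idx d n)) (φ : Idx d n) :
    (⨅ ψ ∈ Ω, schubertVanishing K d n ψ) ⊔ schubertVanishing K d n φ =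
      ⨅ ψ ∈ Ω.image fun ψ => W4bk4grassmannian.inf ψ φ, schubertVanishing K d n ψ := by
  classical
  refine le_antisymm (le_iInf₂ fun η hη => ?_) fun f hf => ?_
  · obtain ⟨ψ, hψ, rfl⟩ := Finset.mem_image.1 hη
    rw [← sup_schubertVanishing hd hdn]
    exact sup_le_sup_right (iInf₂_le ψ hψ) _
  · simp only [Ideal.mem_iInf] at hf
    refine mem_of_forall_coeff hd hdn (((plIdealTop_le φ).trans (plIdeal_le_schubertVanishing φ)).trans le_sup_right)
      ↑(Ω.image fun ψ => W4bk4grassmannian.inf ψ φ) (fun m c _ hno => ?_) hf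
    by_cases hle : ∀ k, c k ≤ φ
    · refine Ideal.mem_sup_left ?_
      simp only [Ideal.mem_iInf]
      intro ψ hψ
      obtain ⟨k, hk⟩ := hno _ (mem_coe.2 (Finset.mem_image_of_mem _ hψ))
      exact chainMon_mem_of_X_mem k (X_mem_schubertVanishing fun h => hk (le_inf_iff'.2 ⟨h, hle k⟩))
    · push Not at hle
      obtain ⟨k, hk⟩ := hle
      exact Ideal.mem_sup_right (chainMon_mem_of_X_mem k (X_mem_schubertVanishing hk))

include hd hdn in
theorem schubertVanishing_sup_span {τ : Idx d n} (hτ : 0 < codeg τ) [DecidablePred (· ∈ divisors τ)] :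
    schubertVanishing K d n τ ⊔ Ideal.span {rankSum K d n (codeg τ)} =
      ⨅ φ ∈ univ.filter (· ∈ divisors τ), schubertVanishing K d n φ := by
  classical
  refine le_antisymm (le_iInf₂ fun φ hφ => sup_le ?_ ?_) fun f hf => ?_
  · rw [mem_filter] at hφ
    rw [← plIdeal_eq_schubertVanishing hd hdn, ← plIdeal_eq_schubertVanishing hd hdn, plIdeal, plIdeal]
    refine Ideal.span_mono ?_
    rintro g (h | ⟨ψ, hψ, rfl⟩)
    · exact Or.inl h
    · exact Or.inr ⟨ψ, fun h => hψ (h.trans hφ.2.1.le), rfl⟩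
  · rw [mem_filter] at hφ
    rw [Ideal.span_le, Set.singleton_subset_iff]
    exact rankSum_mem_of_codeg_lt (codeg_lt_of_lt hφ.2.1)
  · simp only [Ideal.mem_iInf, mem_filter, mem_univ, true_and] at hf
    refine mem_of_forall_coeff hd hdn (((plIdealTop_le τ).trans (plIdeal_le_schubertVanishing τ)).trans le_sup_left)
      (divisors τ) (fun m c hc hno => ?_) hf
    by_cases hle : ∀ k, c k ≤ τ
    · obtain ⟨φ₀, hφ₀, -⟩ := exists_divisor_ge (lt_of_le_of_ne (bot_le hdn τ) fun e => by
        subst e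
        simp [codeg, bot] at hτ)
      obtain ⟨k₀, -⟩ := hno φ₀ hφ₀
      by_cases h0 : ∃ k, c k = τ
      · obtain ⟨k, hk⟩ := h0
        refine chainMon_mem_of_X_mem k ?_
        rw [hk, show (X τ : PlRing K d n) = rankSum K d n (codeg τ) - (rankSum K d n (codeg τ) - X τ) from
          (sub_sub_cancel _ _).symm]
        exact sub_mem (Ideal.mem_sup_right (Ideal.mem_span_singleton_self _))
          (Ideal.mem_sup_left (rankSum_codeg_sub_mem τ))
      · push Not at h0
        obtain ⟨m, rfl⟩ : ∃ m', m = m' + 1 := ⟨m - 1, by have := k₀.2; omega⟩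
        obtain ⟨φ, hφ, hle'⟩ := exists_divisor_ge (lt_of_le_of_ne (hle 0) (h0 0))
        obtain ⟨k, hk⟩ := hno φ hφ
        exact absurd ((hc (Fin.zero_le k)).trans hle') hk
    · push Not at hle
      obtain ⟨k, hk⟩ := hle
      exact Ideal.mem_sup_left (chainMon_mem_of_X_mem k (X_mem_schubertVanishing hk))

include hd hdn in
theorem X_not_mem_schubertVanishing (τ : Idx d n) :
    (X τ : PlRing K d n) ∉ schubertVanishing K d n τ := by
  rw [schubertVanishing_eq_ker hd hdn, RingHom.mem_ker, AlgHom.toRingHom_eq_coe, RingHom.coe_coe]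
  exact evP_top_ne_zero (bot_le hdn τ)

include hd hdn in
theorem reg_schubert : ∀ (e : ℕ) (τ : Idx d n), codeg τ = e →
    Reg (rankSum K d n) (schubertVanishing K d n τ) (e + 1) ∧
    ∀ Ω : Finset (Idx d n), (∀ φ ∈ Ω, φ ∈ divisors τ) →
      Reg (rankSum K d n) (⨅ φ ∈ Ω, schubertVanishing K d n φ) e := by
  classical
  intro e
  induction e using Nat.strong_induction_on with
  | _ e ih =>
  intro τ hτ
  have hQ : ∀ Ω : Finset (Idx d n), (∀ φ ∈ Ω, φ ∈ divisors τ) →
      Reg (rankSum K d n) (⨅ φ ∈ Ω, schubertVanishing K d n φ) e := by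
    intro Ω
    induction Ω using Finset.induction with
    | empty => intro _; simp [reg_top]
    | @insert φ Ω hφ ihΩ =>
      intro hΩ
      have hφd := hΩ φ (mem_insert_self φ Ω)
      have hce : codeg φ + 1 = e := hφd.2.trans hτ
      subst hce
      obtain ⟨hP, hQ'⟩ := ih (codeg φ) (Nat.lt_succ_self _) φ rfl
      rw [Finset.iInf_insert, inf_comm]
      refine Reg.glue (ihΩ fun ψ hψ => hΩ ψ (mem_insert_of_mem hψ)) hP ?_ ?_
      · rw [iInf_sup_schubertVanishing hd hdn]
        refine hQ' _ fun η hη => ?_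
        obtain ⟨ψ, hψ, rfl⟩ := Finset.mem_image.1 hη
        exact inf_mem_divisors hφd (hΩ ψ (mem_insert_of_mem hψ)) fun e => hφ (e ▸ hψ)
      · rw [iInf_sup_schubertVanishing hd hdn]
        simp only [Ideal.mem_iInf]
        intro η hη
        obtain ⟨ψ, hψ, rfl⟩ := Finset.mem_image.1 hη
        refine rankSum_mem_of_codeg_lt (codeg_lt_of_lt (inf_mem_divisors hφd (hΩ ψ (mem_insert_of_mem hψ))
          fun e => hφ (e ▸ hψ)).1)
  refine ⟨?_, hQ⟩
  subst hτ
  have hreg : ∀ f, rankSum K d n (codeg τ) * f ∈ schubertVanishing K d n τ → f ∈ schubertVanishing K d n τ := by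
    intro f hf
    refine ((isPrime_schubertVanishing hd hdn τ).mem_or_mem ?_).resolve_left (X_not_mem_schubertVanishing hd hdn τ)
    have := sub_mem hf (Ideal.mul_mem_right f _ (rankSum_codeg_sub_mem τ))
    rwa [← sub_mul, sub_sub_cancel] at this
  refine Reg.lift isHomogeneous_rankSum (isHomog_schubertVanishing hd hdn τ) hreg ?_
  rcases Nat.eq_zero_or_pos (codeg τ) with h0 | hpos
  · rw [h0]
    exact fun F _ i hi => absurd hi (Nat.not_lt_zero i)
  · rw [schubertVanishing_sup_span hd hdn hpos]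
    exact hQ _ fun φ hφ => (mem_filter.1 hφ).2

include hd hdn in
theorem X_mem_radical {τ : Idx d n} {I : Ideal (PlRing K d n)} {e : ℕ}
    (hle : schubertVanishing K d n τ ≤ I) (hθ : ∀ i, i ≤ codeg τ → i < e ∨ rankSum K d n i ∈ I)
    (φ : Idx d n) :
    (X φ : PlRing K d n) ∈ (I ⊔ Ideal.span (Set.range fun i : Fin e => rankSum K d n i)).radical := by
  classical
  rw [Ideal.radical_eq_sInf, Ideal.mem_sInf]
  rintro P ⟨hP, hPp⟩
  have hsV : schubertVanishing K d n τ ≤ P := hle.trans (le_sup_left.trans hP)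
  induction hk : codeg φ using Nat.strong_induction_on generalizing φ with
  | _ k ih =>
  by_cases hφ : φ ≤ τ
  swap
  · exact hsV (X_mem_schubertVanishing hφ)
  have hsum : rankSum K d n k ∈ P := by
    rcases hθ k (hk ▸ codeg_le_of_le hφ) with h | h
    · exact hP (Ideal.mem_sup_right (Ideal.subset_span ⟨⟨k, h⟩, rfl⟩))
    · exact hP (Ideal.mem_sup_left h)
  refine (hPp.mem_or_mem (?_ : (X φ : PlRing K d n) * X φ ∈ P)).elim id id
  have hsq := Ideal.mul_mem_left P (X φ : PlRing K d n) hsum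
  rw [rankSum, mul_sum, ← add_sum_erase _ _ (mem_filter.2 ⟨mem_univ φ, hk⟩)] at hsq
  refine (Submodule.add_mem_iff_left _ (Ideal.sum_mem P fun ψ hψ => ?_)).1 hsq
  rw [mem_erase, mem_filter] at hψ
  have hnle : ¬ φ ≤ ψ := not_le_of_codeg (hk.trans hψ.2.2.symm) (Ne.symm hψ.1)
  obtain ⟨l, hl, hrel⟩ := straightening hd hdn (K := K) φ ψ
  have hinf : (X (W4bk4grassmannian.inf φ ψ) : PlRing K d n) ∈ P := by
    have hlt : W4bk4grassmannian.inf φ ψ < φ :=
      lt_of_le_of_ne (fun _ => min_le_left _ _) fun e => hnle fun t => by rw [← e]; exact min_le_right _ _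
    exact ih _ (hk ▸ codeg_lt_of_lt hlt) _ rfl
  have hvan : vanishing K d n ≤ P := fun f hf => by
    refine hsV ?_
    rw [mem_schubertVanishing_iff]
    intro A _
    rw [vanishing, Ideal.mem_iInf] at hf
    exact hf A
  have hs : (l.sum fun p r => r • (X p.1 * X p.2 : PlRing K d n)) ∈ P := by
    refine Ideal.sum_mem _ fun p hp => ?_
    simp only [smul_eq_C_mul]
    refine Ideal.mul_mem_left _ _ (Ideal.mul_mem_left _ _ ?_)
    refine ih _ (hk ▸ codeg_lt_of_lt ?_) _ rfl
    exact (hl p hp).2.2.1.trans_le fun _ => min_le_left _ _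
  have := add_mem (add_mem (hvan hrel) hs) (Ideal.mul_mem_left P (X (W4bk4grassmannian.sup φ ψ)) hinf)
  simpa using this

theorem isCohenMacaulay_and_dim {σ : Type} [Fintype σ] {e : ℕ} (I : Ideal (MvPolynomial σ K))
    (l : Fin e → MvPolynomial σ K) (hI : IsHomog I) (hl : ∀ i, (l i).IsHomogeneous 1) (hreg : RegSeq I l)
    (hfin : ∀ x, X x ∈ (I ⊔ Ideal.span (Set.range l)).radical) :
    LocCoh.IsCohenMacaulayRing (MvPolynomial σ K ⧸ I) ∧
      (I ≠ ⊤ → ringKrullDim (MvPolynomial σ K ⧸ I) = e) := by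
  let : Algebra (MvPolynomial (Fin e) K) (MvPolynomial σ K ⧸ I) :=
    (MvPolynomial.aeval fun i => Ideal.Quotient.mk I (l i) :
      MvPolynomial (Fin e) K →ₐ[K] MvPolynomial σ K ⧸ I).toRingHom.toAlgebra
  obtain ⟨hfree, hfinite⟩ := exists_free_quotient I l hI hl hreg hfin
  have := isCohenMacaulayRing_mvPolynomial_field K e
  refine ⟨isCohenMacaulayRing_of_flat_finite (MvPolynomial (Fin e) K) _, fun hne => ?_⟩
  have : Nontrivial (MvPolynomial σ K ⧸ I) := Ideal.Quotient.nontrivial_iff.2 hne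
  have : Algebra.IsIntegral (MvPolynomial (Fin e) K) (MvPolynomial σ K ⧸ I) := Algebra.IsIntegral.of_finite _ _
  rw [Groth.Agent.DimTrdeg.ringKrullDim_eq_of_isIntegral (MvPolynomial (Fin e) K) _
    (FaithfulSMul.algebraMap_injective _ _), MvPolynomial.ringKrullDim_of_isNoetherianRing,
    ringKrullDim_eq_zero_of_field]
  simp

include hd hdn in
theorem schubert_cm_and_dim (τ : Idx d n) :
    LocCoh.IsCohenMacaulayRing (PlRing K d n ⧸ schubertVanishing K d n τ) ∧
      ringKrullDim (PlRing K d n ⧸ schubertVanishing K d n τ) = ((codeg τ + 1 : ℕ) : WithBot ℕ∞) := by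
  obtain ⟨h1, h2⟩ := isCohenMacaulay_and_dim (schubertVanishing K d n τ)
    (fun i : Fin (codeg τ + 1) => rankSum K d n i) (isHomog_schubertVanishing hd hdn τ)
    (fun i => isHomogeneous_rankSum _) ((reg_schubert hd hdn _ τ rfl).1.regSeq)
    (X_mem_radical hd hdn le_rfl fun i hi => Or.inl (Nat.lt_succ_of_le hi))
  exact ⟨h1, h2 (isPrime_schubertVanishing hd hdn τ).ne_top⟩

include hd hdn in
theorem union_cm (τ : Idx d n) (Ω : Finset (Idx d n)) (hΩ : ∀ φ ∈ Ω, φ ∈ divisors τ) :
    LocCoh.IsCohenMacaulayRing (PlRing K d n ⧸ ⨅ φ ∈ Ω, schubertVanishing K d n φ) := by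
  refine (isCohenMacaulay_and_dim _ (fun i : Fin (codeg τ) => rankSum K d n i) ?_
    (fun i => isHomogeneous_rankSum _) ((reg_schubert hd hdn _ τ rfl).2 Ω hΩ).regSeq
    (X_mem_radical hd hdn (τ := τ) ?_ fun i hi => ?_)).1
  · exact IsHomog.iInf fun φ => IsHomog.iInf fun _ => isHomog_schubertVanishing hd hdn φ
  · refine le_iInf₂ fun φ hφ => ?_
    rw [← plIdeal_eq_schubertVanishing hd hdn, ← plIdeal_eq_schubertVanishing hd hdn, plIdeal, plIdeal]
    refine Ideal.span_mono ?_
    rintro g (h | ⟨ψ, hψ, rfl⟩)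
    · exact Or.inl h
    · exact Or.inr ⟨ψ, fun h => hψ (h.trans (hΩ φ hφ).1.le), rfl⟩
  · rcases hi.lt_or_eq with h | rfl
    · exact Or.inl h
    · refine Or.inr ?_
      simp only [Ideal.mem_iInf]
      exact fun φ hφ => rankSum_mem_of_codeg_lt (codeg_lt_of_lt (hΩ φ hφ).1)

end Groth.Agent.StdMon
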