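import Groth.Agent.StdMon.SchubertCM
import Groth.Agent.StdMon.Rank
import Groth.Agent.UFDLib.Nagata
import Groth.Agent.UFDLib.IntClosed
import Mathlib.RingTheory.Polynomial.UniqueFactorization
import Mathlib.Algebra.MvPolynomial.Funext
import Mathlib.RingTheory.MvPolynomial.Basic

/-!
# The big cell of a Schubert variety
-/

namespace Groth.Agent.StdMon

open W4bk4grassmannian Finset MvPolynomial

universe u

variable {K : Type u} [Field K] {d n : ℕ}

/-- Coordinates of the big cell of `X(τ)`. -/
abbrev CellVar (τ : Idx d n) : Type :=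
  {p : Fin n × Fin d // p.1 < τ.1 p.2 ∧ ∀ s, τ.1 s ≠ p.1}

/-- The coordinate ring of the punctured cone over the big cell, before inverting the extra variable. -/
abbrev CellPoly (K : Type u) [Field K] (τ : Idx d n) : Type u := MvPolynomial (Option (CellVar τ)) K

open scoped Classical in
/-- The matrix of a point of the big cell. -/
noncomputable def cellZ {B : Type*} [Zero B] [One B] (τ : Idx d n) (z : CellVar τ → B) :
    Matrix (Fin n) (Fin d) B :=
  fun x t => if h : x < τ.1 t ∧ ∀ s, τ.1 s ≠ x then z ⟨(x, t), h⟩ else if x = τ.1 t then 1 else 0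

theorem det_eq_zero_of_upper {B : Type*} [CommRing B] {w : Idx d n} {A : Matrix (Fin n) (Fin d) B}
    (hA : ∀ x t, w.1 t < x → A x t = 0) {θ : Idx d n} (hθ : ¬ θ ≤ w) : (A.submatrix θ.1 id).det = 0 := by
  classical
  rw [Matrix.det_apply]
  refine sum_eq_zero fun σ _ => ?_
  suffices h : ∃ t, w.1 t < θ.1 (σ t) by
    obtain ⟨t, ht⟩ := h
    rw [prod_eq_zero (f := fun x => A.submatrix θ.1 id (σ x) x) (mem_univ t) (hA _ _ ht), smul_zero]
  by_contra hc
  push Not at hc
  refine hθ fun t => ?_
  by_contra h
  have := card_le_card_of_injOn (f := σ) (s := Finset.Iic t) (t := Finset.Iio t) (fun x hx => by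
    simp only [Finset.coe_Iic, Set.mem_Iic] at hx
    simp only [Finset.coe_Iio, Set.mem_Iio]
    exact θ.2.lt_iff_lt.1 (((hc x).trans (w.2.monotone hx)).trans_lt (not_le.1 h)))
    σ.injective.injOn
  rw [Fin.card_Iic, Fin.card_Iio] at this
  omega

theorem cellZ_upper {B : Type*} [Zero B] [One B] (τ : Idx d n) (z : CellVar τ → B) (x : Fin n) (t : Fin d)
    (h : τ.1 t < x) : cellZ τ z x t = 0 := by
  rw [cellZ, dif_neg fun h' => h.not_gt h'.1, if_neg h.ne']

theorem cellZ_row {B : Type*} [Zero B] [One B] (τ : Idx d n) (z : CellVar τ → B) (s t : Fin d) :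
    cellZ τ z (τ.1 s) t = if s = t then 1 else 0 := by
  rw [cellZ, dif_neg fun h' => h'.2 s rfl]
  simp only [τ.2.injective.eq_iff]

theorem cellZ_var {B : Type*} [Zero B] [One B] (τ : Idx d n) (z : CellVar τ → B) (p : CellVar τ) :
    cellZ τ z p.1.1 p.1.2 = z p := by
  rw [cellZ, dif_pos p.2]

theorem det_submatrix_self {B : Type*} [CommRing B] (τ : Idx d n) (z : CellVar τ → B) :
    ((cellZ τ z).submatrix τ.1 id).det = 1 := by
  rw [show (cellZ τ z).submatrix τ.1 id = 1 from Matrix.ext fun s t => by
    rw [Matrix.submatrix_apply, id, cellZ_row, Matrix.one_apply], Matrix.det_one]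

/-- The restriction of Plücker polynomials to the punctured cone over the big cell. -/
noncomputable def cellPsi (K : Type u) [Field K] (τ : Idx d n) : PlRing K d n →ₐ[K] CellPoly K τ :=
  MvPolynomial.aeval fun θ : Idx d n =>
    X none * ((cellZ τ fun p => (X (some p) : CellPoly K τ)).submatrix θ.1 id).det

theorem eval_cellPsi (τ : Idx d n) (v : Option (CellVar τ) → K) (f : PlRing K d n) :
    eval v (cellPsi K τ f) =
      MvPolynomial.aeval (fun θ : Idx d n => v none * ((cellZ τ fun p => v (some p)).submatrix θ.1 id).det) f := by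
  suffices h : (MvPolynomial.aeval v : CellPoly K τ →ₐ[K] K).comp (cellPsi K τ) =
      MvPolynomial.aeval fun θ : Idx d n => v none * ((cellZ τ fun p => v (some p)).submatrix θ.1 id).det by
    simpa [MvPolynomial.aeval_eq_eval] using AlgHom.congr_fun h f
  refine MvPolynomial.algHom_ext fun θ => ?_
  rw [AlgHom.comp_apply, cellPsi, MvPolynomial.aeval_X, MvPolynomial.aeval_X, map_mul, AlgHom.map_det,
    MvPolynomial.aeval_X]
  congr 2
  funext s t
  simp only [AlgHom.mapMatrix_apply, Matrix.map_apply, Matrix.submatrix_apply, id, cellZ]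
  split_ifs <;> simp

variable [Infinite K] (hd : 0 < d) (hdn : d ≤ n)

include hd in
theorem schubertVanishing_le_ker_cellPsi (τ : Idx d n) :
    schubertVanishing K d n τ ≤ RingHom.ker (cellPsi K τ).toRingHom := by
  classical
  intro f hf
  rw [RingHom.mem_ker, AlgHom.toRingHom_eq_coe, RingHom.coe_coe]
  refine MvPolynomial.funext fun v => ?_
  rw [map_zero, eval_cellPsi]
  let Z := cellZ τ fun p => v (some p)
  let A : Matrix (Fin n) (Fin d) K := fun x t => if t = ⟨0, hd⟩ then v none * Z x t else Z x t
  have hA : ∀ θ : Idx d n, (A.submatrix θ.1 id).det = v none * (Z.submatrix θ.1 id).det := by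
    intro θ
    have h := Matrix.det_mul_row (fun t : Fin d => if t = ⟨0, hd⟩ then v none else 1) (Z.submatrix θ.1 id)
    rw [prod_ite_eq' univ (⟨0, hd⟩ : Fin d) fun _ => v none, if_pos (mem_univ _)] at h
    rw [← h]
    congr 1
    ext x t
    simp only [Matrix.submatrix_apply, id, Matrix.of_apply, A]
    split_ifs <;> simp
  have h := mem_schubertVanishing_iff.1 hf A fun φ hφ => by
    rw [hA, det_eq_zero_of_upper (cellZ_upper τ _) hφ, mul_zero]
  rw [evalMinors] at h
  simpa only [hA] using h

theorem det_update_eq_zero {τ : Idx d n} {A : Matrix (Fin n) (Fin d) K}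
    (hA : ∀ φ : Idx d n, ¬ φ ≤ τ → (A.submatrix φ.1 id).det = 0) {x : Fin n} {t : Fin d} (hx : τ.1 t < x) :
    (A.submatrix (Function.update τ.1 t x) id).det = 0 := by
  classical
  rcases coord_cases K (Function.update τ.1 t x) with h | ⟨θ, hwt, h⟩
  · rw [← aeval_coord (K := K) A, h, map_zero]
  have hnle : ¬ θ ≤ τ := fun hle => by
    have h1 : wt θ ≤ wt τ := by
      rcases hle.eq_or_lt with rfl | hlt
      · exact le_rfl
      · exact (wt_lt_of_lt hlt).le
    have h2 : wt τ < wt θ := by
      rw [hwt]
      refine sum_lt_sum (fun s _ => ?_) ⟨t, mem_univ t, by simpa using Fin.lt_def.1 hx⟩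
      by_cases hs : s = t
      · subst hs; simpa using (Fin.lt_def.1 hx).le
      · simp [Function.update_of_ne hs]
    omega
  rw [← aeval_coord (K := K) A]
  rcases h with h | h <;> rw [h] <;> simp [hA θ hnle]

include hd hdn in
/-- A matrix with nonzero `τ`-minor is the translate of a point of the cell. -/
theorem eval_eq_zero_of_cellPsi {τ : Idx d n} {f : PlRing K d n} (hf : cellPsi K τ f = 0)
    (A : Matrix (Fin n) (Fin d) K) (hA : ∀ φ : Idx d n, ¬ φ ≤ τ → (A.submatrix φ.1 id).det = 0)
    (hD : (A.submatrix τ.1 id).det ≠ 0) : evalMinors K d n A f = 0 := by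
  classical
  let M := A.submatrix τ.1 id
  have hu : IsUnit M.det := isUnit_iff_ne_zero.2 hD
  let C := A * M⁻¹
  have hrow : ∀ s t, C (τ.1 s) t = if s = t then 1 else 0 := fun s t => by
    have : (M * M⁻¹) s t = if s = t then 1 else 0 := by
      rw [Matrix.mul_nonsing_inv M hu, Matrix.one_apply]
    exact this
  have hcr : ∀ x t, (A.submatrix (Function.update τ.1 t x) id).det = C x t * M.det := by
    intro x t
    have hsub : A.submatrix (Function.update τ.1 t x) id = M.updateRow t (∑ k, C x k • M k) := by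
      ext a b
      have hmul : (C * M) x b = A x b := by
        rw [Matrix.mul_assoc, Matrix.nonsing_inv_mul _ hu, Matrix.mul_one]
      rw [Matrix.updateRow_apply, Matrix.submatrix_apply, Function.update_apply]
      split_ifs
      · simpa [Matrix.mul_apply, Finset.sum_apply] using hmul.symm
      · rfl
    rw [hsub, Matrix.det_updateRow_sum, smul_eq_mul]
  have hC : C = cellZ τ fun p => C p.1.1 p.1.2 := by
    ext x t
    rw [cellZ]
    split_ifs with h1 h2
    · rfl
    · rw [h2, hrow, if_pos rfl]
    · by_cases h3 : ∀ s, τ.1 s ≠ x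
      · have hlt : τ.1 t < x := lt_of_le_of_ne (not_lt.1 fun h => h1 ⟨h, h3⟩) (h3 t)
        have := det_update_eq_zero hA hlt
        rw [hcr] at this
        exact (mul_eq_zero.1 this).resolve_right hD
      · push Not at h3
        obtain ⟨s, rfl⟩ := h3
        rw [hrow, if_neg fun e => h2 (by rw [e])]
  have h := congrArg (eval fun o : Option (CellVar τ) => o.elim M.det fun p => C p.1.1 p.1.2) hf
  rw [map_zero, eval_cellPsi] at h
  rw [evalMinors, ← h]
  congr 2
  funext θ
  simp only [Option.elim_none, Option.elim_some, ← hC]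
  rw [mul_comm, ← Matrix.det_mul]
  congr 1
  have : A = C * M := by rw [Matrix.mul_assoc, Matrix.nonsing_inv_mul _ hu, Matrix.mul_one]
  conv_lhs => rw [this]
  rfl

include hd hdn in
theorem ker_cellPsi (τ : Idx d n) :
    RingHom.ker (cellPsi K τ).toRingHom = schubertVanishing K d n τ := by
  refine le_antisymm (fun f hf => ?_) (schubertVanishing_le_ker_cellPsi hd τ)
  rw [RingHom.mem_ker, AlgHom.toRingHom_eq_coe, RingHom.coe_coe] at hf
  have h : f * X τ ∈ schubertVanishing K d n τ := by
    rw [mem_schubertVanishing_iff]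
    intro A hA
    rw [map_mul]
    by_cases hD : (A.submatrix τ.1 id).det = 0
    · simp [evalMinors, hD]
    · rw [eval_eq_zero_of_cellPsi hd hdn hf A hA hD, zero_mul]
  exact ((isPrime_schubertVanishing hd hdn τ).mem_or_mem h).resolve_right (X_not_mem_schubertVanishing hd hdn τ)

theorem cellPsi_X_self (τ : Idx d n) : cellPsi K τ (X τ) = X none := by
  rw [cellPsi, MvPolynomial.aeval_X, det_submatrix_self, mul_one]

include hd hdn in
/-- The map from the coordinate ring of the cone to the punctured big cell. -/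
noncomputable def cellMap (τ : Idx d n) : (PlRing K d n ⧸ schubertVanishing K d n τ) →ₐ[K] CellPoly K τ :=
  Ideal.Quotient.liftₐ _ (cellPsi K τ) fun f hf => by
    have := (ker_cellPsi hd hdn τ).ge hf
    exact this

theorem cellMap_injective (τ : Idx d n) : Function.Injective (cellMap (K := K) hd hdn τ) := by
  rw [injective_iff_map_eq_zero]
  intro x hx
  obtain ⟨f, rfl⟩ := Ideal.Quotient.mk_surjective x
  exact Ideal.Quotient.eq_zero_iff_mem.2 ((ker_cellPsi hd hdn τ).le hx)

theorem cellMap_X_self (τ : Idx d n) :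
    cellMap (K := K) hd hdn τ (Ideal.Quotient.mk _ (X τ)) = X none :=
  cellPsi_X_self τ

theorem exists_pow_mul_mem_range (τ : Idx d n) (q : CellPoly K τ) :
    ∃ (k : ℕ) (a : PlRing K d n), cellPsi K τ a = X none ^ k * q := by
  classical
  induction q using MvPolynomial.induction_on with
  | C r => exact ⟨0, C r, by rw [cellPsi, aeval_C, pow_zero, one_mul]; rfl⟩
  | add p q hp hq =>
    obtain ⟨k, a, ha⟩ := hp
    obtain ⟨l, b, hb⟩ := hq
    refine ⟨k + l, X τ ^ l * a + X τ ^ k * b, ?_⟩
    rw [map_add, map_mul, map_mul, map_pow, map_pow, cellPsi_X_self, ha, hb]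
    ring
  | mul_X p o hp =>
    obtain ⟨k, a, ha⟩ := hp
    obtain ⟨b, hb⟩ : ∃ b, cellPsi K τ b = X none * X o := by
      cases o with
      | none => exact ⟨X τ * X τ, by rw [map_mul, cellPsi_X_self]⟩
      | some q =>
        refine ⟨coord K d n (Function.update τ.1 q.1.2 q.1.1), ?_⟩
        · let Z := cellZ τ fun p => (X (some p) : CellPoly K τ)
          have hZ : Z.submatrix (Function.update τ.1 q.1.2 q.1.1) id =
              (1 : Matrix (Fin d) (Fin d) (CellPoly K τ)).updateRow q.1.2
                (∑ k, Z q.1.1 k • fun b => (1 : Matrix (Fin d) (Fin d) (CellPoly K τ)) k b) := by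
            ext a b
            rw [Matrix.updateRow_apply, Matrix.submatrix_apply, Function.update_apply]
            split_ifs
            · simp [Finset.sum_apply, Matrix.one_apply]
            · simp [Z, cellZ_row, Matrix.one_apply]
          have hdet : (Z.submatrix (Function.update τ.1 q.1.2 q.1.1) id).det = X (some q) := by
            rw [hZ]
            refine (Matrix.det_updateRow_sum (1 : Matrix (Fin d) (Fin d) (CellPoly K τ)) q.1.2
              fun k => Z q.1.1 k).trans ?_
            rw [Matrix.det_one, smul_eq_mul, mul_one]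
            exact cellZ_var τ _ q
          rw [← hdet, ← aeval_coord (K := K) Z, cellPsi]
          rcases coord_cases K (Function.update τ.1 q.1.2 q.1.1) with h | ⟨θ, -, h | h⟩
          · simp [h]
          · simp [h, Z]
          · simp [h, Z]
    refine ⟨k + 1, a * b, ?_⟩
    rw [map_mul, ha, hb]
    ring

/-- The punctured cone over the big cell. -/
abbrev CellLoc (K : Type u) [Field K] (τ : Idx d n) : Type u :=
  Localization.Away (X none : CellPoly K τ)

include hd hdn in
/-- The big cell as a localisation of the coordinate ring of the cone. -/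
theorem exists_isLocalization (τ : Idx d n) :
    ∃ (_ : Algebra (PlRing K d n ⧸ schubertVanishing K d n τ) (CellLoc K τ)),
      IsLocalization.Away (Ideal.Quotient.mk (schubertVanishing K d n τ) (X τ)) (CellLoc K τ) := by
  let f : (PlRing K d n ⧸ schubertVanishing K d n τ) →+* CellLoc K τ :=
    (algebraMap (CellPoly K τ) (CellLoc K τ)).comp (cellMap hd hdn τ).toRingHom
  let : Algebra (PlRing K d n ⧸ schubertVanishing K d n τ) (CellLoc K τ) := f.toAlgebra
  refine ⟨inferInstance, ?_⟩
  have hT : ∀ k : ℕ, algebraMap (PlRing K d n ⧸ schubertVanishing K d n τ) (CellLoc K τ)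
      (Ideal.Quotient.mk _ (X τ) ^ k) = algebraMap (CellPoly K τ) (CellLoc K τ) (X none) ^ k := fun k => by
    rw [map_pow]
    exact congrArg (· ^ k) (congrArg (algebraMap (CellPoly K τ) (CellLoc K τ)) (cellPsi_X_self τ))
  have hinj : Function.Injective f :=
    (IsLocalization.injective (CellLoc K τ)
      (powers_le_nonZeroDivisors_of_noZeroDivisors (X_ne_zero (R := K) none))).comp (cellMap_injective hd hdn τ)
  refine (isLocalization_iff _ _).2 ⟨?_, fun z => ?_, fun {x y} h => ⟨1, by rw [hinj h]⟩⟩
  · rintro ⟨_, k, rfl⟩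
    rw [hT]
    exact (IsLocalization.Away.algebraMap_isUnit _).pow k
  · obtain ⟨k, q, hq⟩ := IsLocalization.Away.surj (X none : CellPoly K τ) z
    obtain ⟨l, a, ha⟩ := exists_pow_mul_mem_range τ q
    refine ⟨(Ideal.Quotient.mk _ a, ⟨Ideal.Quotient.mk _ (X τ) ^ (k + l), k + l, rfl⟩), ?_⟩
    rw [hT, pow_add, ← mul_assoc, hq]
    change _ = algebraMap (CellPoly K τ) (CellLoc K τ) (cellPsi K τ a)
    rw [ha, map_mul, map_pow, mul_comm]

include hd hdn in
theorem isPrime_irrelevant {τ : Idx d n} (hτ : codeg τ = 0) :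
    (schubertVanishing K d n τ ⊔ Ideal.span {X τ}).IsPrime := by
  classical
  have hbot : τ = bot hdn := by
    by_contra hne
    have := codeg_lt_of_lt (lt_of_le_of_ne (bot_le hdn τ) (Ne.symm hne))
    omega
  have hX : ∀ φ : Idx d n, (X φ : PlRing K d n) ∈ schubertVanishing K d n τ ⊔ Ideal.span {X τ} := fun φ => by
    by_cases h : φ = τ
    · subst h; exact Ideal.mem_sup_right (Ideal.mem_span_singleton_self _)
    · refine Ideal.mem_sup_left (X_mem_schubertVanishing fun hle => h ?_)
      exact le_antisymm hle (hbot ▸ bot_le hdn φ)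
  suffices schubertVanishing K d n τ ⊔ Ideal.span {X τ} = RingHom.ker (constantCoeff : PlRing K d n →+* K) by
    rw [this]; exact RingHom.ker_isPrime _
  refine le_antisymm (sup_le (fun f hf => ?_) ?_) fun f hf => ?_
  · rw [RingHom.mem_ker]
    by_contra hc
    have := isHomog_schubertVanishing hd hdn τ f hf 0
    rw [homogeneousComponent_zero] at this
    exact (isPrime_schubertVanishing hd hdn τ).ne_top
      (Ideal.eq_top_of_isUnit_mem _ this ((isUnit_iff_ne_zero.2 hc).map C))
  · rw [Ideal.span_le, Set.singleton_subset_iff]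
    simp
  · rw [RingHom.mem_ker, constantCoeff_eq] at hf
    rw [f.as_sum]
    refine Ideal.sum_mem _ fun m hm => ?_
    obtain ⟨φ, hφ⟩ : ∃ φ, m φ ≠ 0 := by
      by_contra hc
      push Not at hc
      exact mem_support_iff.1 hm (by rw [show m = 0 from Finsupp.ext hc]; exact hf)
    have : monomial m (coeff m f) = monomial (m - Finsupp.single φ 1) (coeff m f) * X φ := by
      rw [X, monomial_mul, mul_one, tsub_add_cancel_of_le]
      rw [Finsupp.single_le_iff]
      omega
    rw [this]
    exact Ideal.mul_mem_left _ _ (hX φ)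

include hd hdn in
theorem sup_span_X (τ : Idx d n) :
    schubertVanishing K d n τ ⊔ Ideal.span {rankSum K d n (codeg τ)} =
      schubertVanishing K d n τ ⊔ Ideal.span {X τ} := by
  refine le_antisymm (sup_le le_sup_left ?_) (sup_le le_sup_left ?_) <;>
    rw [Ideal.span_le, Set.singleton_subset_iff]
  · rw [SetLike.mem_coe, show rankSum K d n (codeg τ) = (rankSum K d n (codeg τ) - X τ) + X τ from (sub_add_cancel _ _).symm]
    exact add_mem (Ideal.mem_sup_left (rankSum_codeg_sub_mem τ))
      (Ideal.mem_sup_right (Ideal.mem_span_singleton_self _))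
  · rw [SetLike.mem_coe, show (X τ : PlRing K d n) = rankSum K d n (codeg τ) - (rankSum K d n (codeg τ) - X τ) from
      (sub_sub_cancel _ _).symm]
    exact sub_mem (Ideal.mem_sup_right (Ideal.mem_span_singleton_self _))
      (Ideal.mem_sup_left (rankSum_codeg_sub_mem τ))

include hd hdn in
theorem isRadical_sup_span_X (τ : Idx d n) :
    (schubertVanishing K d n τ ⊔ Ideal.span {X τ}).IsRadical := by
  classical
  rcases Nat.eq_zero_or_pos (codeg τ) with h | h
  · exact (isPrime_irrelevant hd hdn h).isRadical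
  · rw [← sup_span_X hd hdn, schubertVanishing_sup_span hd hdn h]
    intro f ⟨m, hm⟩
    simp only [Ideal.mem_iInf] at hm ⊢
    exact fun φ hφ => (isPrime_schubertVanishing hd hdn φ).mem_of_pow_mem m (hm φ hφ)

include hd hdn in
theorem isPrime_sup_span_X_iff (τ : Idx d n) :
    (schubertVanishing K d n τ ⊔ Ideal.span {X τ}).IsPrime ↔ (divisors τ).Subsingleton := by
  classical
  rcases Nat.eq_zero_or_pos (codeg τ) with h | h
  · refine iff_of_true (isPrime_irrelevant hd hdn h) fun φ hφ => ?_
    have := hφ.2
    omega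
  rw [← sup_span_X hd hdn, schubertVanishing_sup_span hd hdn h]
  constructor
  · intro hP
    obtain ⟨φ₀, hφ₀, hle⟩ := (hP.prod_le (s := univ.filter (· ∈ divisors τ))
      (f := fun φ => schubertVanishing K d n φ)).1
      (le_iInf₂ fun φ hφ => Ideal.le_of_dvd (Finset.dvd_prod_of_mem _ hφ))
    suffices ∀ φ ∈ divisors τ, φ = φ₀ from fun a ha b hb => (this a ha).trans (this b hb).symm
    intro φ hφ
    by_contra hne
    have hnle : ¬ φ ≤ φ₀ := by
      have h1 := hφ.2
      have h2 := (mem_filter.1 hφ₀).2.2
      exact not_le_of_codeg (by omega) hne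
    have hmem : schubertVanishing K d n φ₀ ≤ schubertVanishing K d n φ :=
      hle.trans (iInf₂_le φ (mem_filter.2 ⟨mem_univ φ, hφ⟩))
    exact X_not_mem_schubertVanishing hd hdn φ (hmem (X_mem_schubertVanishing hnle))
  · intro hs
    obtain ⟨φ₀, hφ₀, -⟩ := exists_divisor_ge (lt_of_le_of_ne (bot_le hdn τ) fun e => by
      subst e
      simp [codeg, bot] at h)
    rw [show univ.filter (· ∈ divisors τ) = {φ₀} from eq_singleton_iff_unique_mem.2
      ⟨mem_filter.2 ⟨mem_univ _, hφ₀⟩, fun φ hφ => hs (mem_filter.1 hφ).2 hφ₀⟩, Finset.iInf_singleton]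
    exact isPrime_schubertVanishing hd hdn φ₀

theorem map_span_X (τ : Idx d n) :
    Ideal.span {Ideal.Quotient.mk (schubertVanishing K d n τ) (X τ)} =
      (schubertVanishing K d n τ ⊔ Ideal.span {X τ}).map (Ideal.Quotient.mk (schubertVanishing K d n τ)) := by
  rw [Ideal.map_sup, Ideal.map_quotient_self, bot_sup_eq, Ideal.map_span, Set.image_singleton]

include hd hdn in
theorem mk_X_ne_zero (τ : Idx d n) : Ideal.Quotient.mk (schubertVanishing K d n τ) (X τ) ≠ 0 := fun h =>
  X_not_mem_schubertVanishing hd hdn τ (Ideal.Quotient.eq_zero_iff_mem.1 h)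

include hd hdn in
theorem prime_X_iff (τ : Idx d n) :
    Prime (Ideal.Quotient.mk (schubertVanishing K d n τ) (X τ)) ↔ (divisors τ).Subsingleton := by
  rw [← Ideal.span_singleton_prime (mk_X_ne_zero (K := K) hd hdn τ), map_span_X, ← isPrime_sup_span_X_iff (K := K) hd hdn τ]
  constructor
  · intro h
    have := h.comap (Ideal.Quotient.mk (schubertVanishing K d n τ))
    rwa [Ideal.comap_map_of_surjective _ Ideal.Quotient.mk_surjective, ← RingHom.ker_eq_comap_bot,
      Ideal.mk_ker, sup_eq_left.2 le_sup_left] at this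
  · intro h
    exact Ideal.map_isPrime_of_surjective Ideal.Quotient.mk_surjective (by rw [Ideal.mk_ker]; exact le_sup_left)

include hd hdn in
theorem isIntegrallyClosed_schubert (τ : Idx d n) :
    IsDomain (PlRing K d n ⧸ schubertVanishing K d n τ) ∧
      IsIntegrallyClosed (PlRing K d n ⧸ schubertVanishing K d n τ) := by
  have := isPrime_schubertVanishing (K := K) hd hdn τ
  refine ⟨inferInstance, ?_⟩
  obtain ⟨alg, hloc⟩ := exists_isLocalization (K := K) hd hdn τ
  have hle := powers_le_nonZeroDivisors_of_noZeroDivisors (X_ne_zero (R := K) (σ := Option (CellVar τ)) none)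
  have : IsDomain (CellLoc K τ) := IsLocalization.isDomain_localization hle
  have : UniqueFactorizationMonoid (CellLoc K τ) :=
    UFDLib.ufm_of_isLocalization (Submonoid.powers (X none : CellPoly K τ)) _ (IsLocalization.injective _ hle)
  refine UFDLib.isIntegrallyClosed_of_away (mk_X_ne_zero hd hdn τ) ?_ (CellLoc K τ)
  intro x hx
  obtain ⟨f, rfl⟩ := Ideal.Quotient.mk_surjective x
  obtain ⟨m, hm⟩ := hx
  rw [map_span_X, ← map_pow, ← Ideal.mem_comap, Ideal.comap_map_of_surjective _ Ideal.Quotient.mk_surjective,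
    ← RingHom.ker_eq_comap_bot, Ideal.mk_ker, sup_eq_left.2 le_sup_left] at hm
  rw [map_span_X]
  exact Ideal.mem_map_of_mem _ (isRadical_sup_span_X hd hdn τ ⟨m, hm⟩)

include hd hdn in
theorem irreducible_X (τ : Idx d n) :
    Irreducible (Ideal.Quotient.mk (schubertVanishing K d n τ) (X τ)) := by
  have hT : Prime (X none : CellPoly K τ) := by
    rw [← MulEquiv.prime_iff (optionEquivLeft K (CellVar τ)).toMulEquiv]
    change Prime (optionEquivLeft K (CellVar τ) (X none))
    rw [optionEquivLeft_X_none]
    exact Polynomial.prime_X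
  refine ⟨fun hu => hT.not_isUnit (cellMap_X_self (K := K) hd hdn τ ▸ hu.map (cellMap (K := K) hd hdn τ)), fun a b hab => ?_⟩
  have hirr := hT.irreducible.isUnit_or_isUnit (a := cellMap hd hdn τ a) (b := cellMap hd hdn τ b)
    (by rw [← map_mul, ← hab, cellMap_X_self])
  have key : ∀ c, IsUnit (cellMap (K := K) hd hdn τ c) → IsUnit c := by
    intro c hc
    obtain ⟨r, hr, he⟩ := isUnit_iff_eq_C_of_isReduced.1 hc
    have hcr : c = algebraMap K _ r := cellMap_injective hd hdn τ (by rw [AlgHom.commutes, he]; rfl)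
    rw [hcr]
    exact hr.map _
  exact hirr.imp (key a) (key b)

include hd hdn in
theorem ufm_iff_prime_X (τ : Idx d n) :
    UniqueFactorizationMonoid (PlRing K d n ⧸ schubertVanishing K d n τ) ↔
      Prime (Ideal.Quotient.mk (schubertVanishing K d n τ) (X τ)) := by
  have := isPrime_schubertVanishing (K := K) hd hdn τ
  refine ⟨fun h => UniqueFactorizationMonoid.irreducible_iff_prime.1 (irreducible_X hd hdn τ), fun h => ?_⟩
  obtain ⟨alg, hloc⟩ := exists_isLocalization (K := K) hd hdn τ
  have hle := powers_le_nonZeroDivisors_of_noZeroDivisors (X_ne_zero (R := K) (σ := Option (CellVar τ)) none)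
  have : IsDomain (CellLoc K τ) := IsLocalization.isDomain_localization hle
  have : UniqueFactorizationMonoid (CellLoc K τ) :=
    UFDLib.ufm_of_isLocalization (Submonoid.powers (X none : CellPoly K τ)) _ (IsLocalization.injective _ hle)
  exact UFDLib.ufm_of_away h (CellLoc K τ)

end Groth.Agent.StdMon
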