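import Groth.Agent.StdMon.Schubert
import Mathlib.LinearAlgebra.Matrix.NonsingularInverse

/-!
# The opposite big cell: dehomogenisation
-/

namespace Groth.Agent.StdMon

open W4bk4grassmannian Finset MvPolynomial

universe u

/-- Counting form of the order on increasing tuples of possibly different lengths. -/
theorem count_le_iff {N k k' : ℕ} (a : Fin k → Fin N) (a' : Fin k' → Fin N) (ha : StrictMono a)
    (ha' : StrictMono a') :
    (k ≤ k' ∧ ∀ (j : Fin k) (j' : Fin k'), j.val = j'.val → a' j' ≤ a j) ↔
      k ≤ k' ∧ ∀ x, (univ.filter fun j => a j ≤ x).card ≤ (univ.filter fun j => a' j ≤ x).card := by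
  refine and_congr_right fun hk => ⟨fun h x => ?_, fun h j j' hj => ?_⟩
  · refine card_le_card_of_injOn (Fin.castLE hk) (fun j hj => ?_) (Fin.castLE_injective hk).injOn
    simp only [coe_filter, mem_univ, true_and, Set.mem_ofPred_eq] at hj ⊢
    exact (h j (Fin.castLE hk j) rfl).trans hj
  · by_contra hlt
    have h1 : (Finset.Iic j).card ≤ (univ.filter fun i => a i ≤ a j).card :=
      card_le_card fun i hi => mem_filter.2 ⟨mem_univ _, ha.monotone (Finset.mem_Iic.1 hi)⟩
    have h2 : (univ.filter fun i => a' i ≤ a j).card ≤ (Finset.Iio j').card :=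
      card_le_card fun i hi => Finset.mem_Iio.2 (ha'.lt_iff_lt.1 ((mem_filter.1 hi).2.trans_lt (not_le.1 hlt)))
    rw [Fin.card_Iic] at h1
    rw [Fin.card_Iio] at h2
    have := h (a j)
    omega

/-- Counting form of the order on `Idx d n`. -/
theorem idx_le_iff_count {d n : ℕ} (θ θ' : Idx d n) :
    θ ≤ θ' ↔ ∀ x, (univ.filter fun j => θ'.1 j ≤ x).card ≤ (univ.filter fun j => θ.1 j ≤ x).card := by
  have h := count_le_iff θ'.1 θ.1 θ'.2 θ.2
  constructor
  · exact fun hle => (h.1 ⟨le_rfl, fun j j' e => by rw [Fin.ext e]; exact hle j'⟩).2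
  · exact fun hc t => (h.2 ⟨le_rfl, hc⟩).2 t t rfl

/-- An increasing tuple is determined by its image. -/
theorem idx_ext {d n : ℕ} {θ θ' : Idx d n} (h : univ.image θ.1 = univ.image θ'.1) : θ = θ' := by
  have hc : (univ.image θ.1).card = d := by simp [card_image_of_injective _ θ.2.injective]
  refine Subtype.ext ?_
  rw [orderEmbOfFin_unique hc (f := θ.1) (fun x => by simp) θ.2,
    orderEmbOfFin_unique hc (f := θ'.1) (fun x => by rw [h]; simp) θ'.2]

variable {d r : ℕ}

/-- The index of the Plücker coordinate of the minor on the rows `S` and the columns `T`. -/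
def pairIdx (S : Finset (Fin r)) (T : Finset (Fin d)) (h : S.card = T.card) : Idx d (d + r) :=
  have hd : Tᶜ.card + T.card = d := by rw [card_compl_add_card, Fintype.card_fin]
  ⟨Fin.append (fun p => Fin.castAdd r (Tᶜ.orderEmbOfFin rfl p))
      (fun p => Fin.natAdd d (S.orderEmbOfFin h p)) ∘ Fin.cast hd.symm, by
    intro x y hxy
    simp only [Function.comp_apply]
    have hxy' : Fin.cast hd.symm x < Fin.cast hd.symm y := hxy
    revert hxy'
    generalize Fin.cast hd.symm x = a
    generalize Fin.cast hd.symm y = b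
    intro hab
    induction a using Fin.addCases with
    | left a =>
      induction b using Fin.addCases with
      | left b =>
        simp only [Fin.append_left]
        exact Fin.lt_def.2 (Fin.lt_def.1 ((Tᶜ.orderEmbOfFin rfl).strictMono (Fin.lt_def.2 (Fin.lt_def.1 hab))))
      | right b =>
        simp only [Fin.append_left, Fin.append_right, Fin.lt_def, Fin.val_castAdd, Fin.val_natAdd]
        have := (Tᶜ.orderEmbOfFin rfl a).isLt
        omega
    | right a =>
      induction b using Fin.addCases with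
      | left b =>
        simp only [Fin.lt_def, Fin.val_castAdd, Fin.val_natAdd] at hab
        have := b.isLt
        omega
      | right b =>
        simp only [Fin.append_right, Fin.lt_def, Fin.val_natAdd] at hab ⊢
        have := Fin.lt_def.1 ((S.orderEmbOfFin h).strictMono (Fin.lt_def.2 (Nat.lt_of_add_lt_add_left hab)))
        omega⟩

theorem image_pairIdx (S : Finset (Fin r)) (T : Finset (Fin d)) (h : S.card = T.card) :
    univ.image (pairIdx S T h).1 = Tᶜ.map (Fin.castAddEmb r) ∪ S.map (Fin.natAddEmb d) := by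
  have hd : Tᶜ.card + T.card = d := by rw [card_compl_add_card, Fintype.card_fin]
  ext x
  simp only [mem_image, mem_univ, true_and, mem_union, mem_map, Fin.castAddEmb_apply,
    Fin.natAddEmb_apply]
  constructor
  · rintro ⟨t, rfl⟩
    simp only [pairIdx, Function.comp_apply]
    generalize Fin.cast hd.symm t = a
    induction a using Fin.addCases with
    | left a => left; exact ⟨_, orderEmbOfFin_mem _ _ a, by rw [Fin.append_left]⟩
    | right a => right; exact ⟨_, orderEmbOfFin_mem _ _ a, by rw [Fin.append_right]⟩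
  · rintro (⟨y, hy, rfl⟩ | ⟨y, hy, rfl⟩)
    · obtain ⟨a, rfl⟩ : y ∈ Set.range (Tᶜ.orderEmbOfFin rfl) := by rw [range_orderEmbOfFin]; exact hy
      exact ⟨Fin.cast hd (Fin.castAdd _ a), by simp [pairIdx]⟩
    · obtain ⟨a, rfl⟩ : y ∈ Set.range (S.orderEmbOfFin h) := by rw [range_orderEmbOfFin]; exact hy
      exact ⟨Fin.cast hd (Fin.natAdd _ a), by simp [pairIdx]⟩

theorem card_filter_pairIdx (S : Finset (Fin r)) (T : Finset (Fin d)) (h : S.card = T.card)
    (p : Fin (d + r) → Prop) [DecidablePred p] :
    (univ.filter fun j => p ((pairIdx S T h).1 j)).card =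
      (Tᶜ.filter fun x => p (Fin.castAdd r x)).card + (S.filter fun y => p (Fin.natAdd d y)).card := by
  rw [← card_image_of_injective _ (pairIdx S T h).2.injective, ← filter_image, image_pairIdx, filter_union,
    card_union_of_disjoint, filter_map, filter_map, card_map, card_map]
  · rfl
  · refine Disjoint.mono (filter_subset _ _) (filter_subset _ _) (disjoint_left.2 fun x hx hx' => ?_)
    obtain ⟨a, -, rfl⟩ := mem_map.1 hx
    obtain ⟨b, -, e⟩ := mem_map.1 hx'
    have := congrArg Fin.val e
    simp at this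
    omega

/-- The number of entries in the lower block. -/
def upCount (θ : Idx d (d + r)) : ℕ := (univ.filter fun t => d ≤ (θ.1 t).val).card

theorem upCount_pairIdx (S : Finset (Fin r)) (T : Finset (Fin d)) (h : S.card = T.card) :
    upCount (pairIdx S T h) = S.card := by
  rw [upCount, card_filter_pairIdx S T h (fun x => d ≤ x.val)]
  simp

theorem exists_pairIdx (θ : Idx d (d + r)) :
    ∃ (S : Finset (Fin r)) (T : Finset (Fin d)) (h : S.card = T.card), pairIdx S T h = θ := by
  classical
  let S := univ.filter fun y => Fin.natAdd d y ∈ univ.image θ.1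
  let T := univ.filter fun x => Fin.castAdd r x ∉ univ.image θ.1
  have him : univ.image θ.1 = Tᶜ.map (Fin.castAddEmb r) ∪ S.map (Fin.natAddEmb d) := by
    ext x
    simp only [mem_union, mem_map, Fin.castAddEmb_apply, Fin.natAddEmb_apply, S, T, mem_compl, mem_filter,
      mem_univ, true_and, not_not]
    induction x using Fin.addCases with
    | left x =>
      refine ⟨fun hx => Or.inl ⟨x, hx, rfl⟩, ?_⟩
      rintro (⟨y, hy, e⟩ | ⟨y, hy, e⟩)
      · exact e ▸ hy
      · exact e ▸ hy
    | right x =>
      refine ⟨fun hx => Or.inr ⟨x, hx, rfl⟩, ?_⟩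
      rintro (⟨y, hy, e⟩ | ⟨y, hy, e⟩) <;> exact e ▸ hy
  have hdisj : Disjoint (Tᶜ.map (Fin.castAddEmb r)) (S.map (Fin.natAddEmb d)) :=
    disjoint_left.2 fun x hx hx' => by
      obtain ⟨a, -, rfl⟩ := mem_map.1 hx
      obtain ⟨b, -, e⟩ := mem_map.1 hx'
      have := congrArg Fin.val e
      simp at this
      omega
  have hc : d = Tᶜ.card + S.card := by
    have := congrArg Finset.card him
    rwa [card_image_of_injective _ θ.2.injective, card_univ, Fintype.card_fin,
      card_union_of_disjoint hdisj, card_map, card_map] at this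
  have hT : Tᶜ.card + T.card = d := by rw [card_compl_add_card, Fintype.card_fin]
  exact ⟨S, T, by omega, idx_ext (by rw [image_pairIdx, him])⟩

/-- The matrix `[1 ; Z]`. -/
def cm {B : Type*} [CommRing B] (Z : Matrix (Fin r) (Fin d) B) : Matrix (Fin (d + r)) (Fin d) B :=
  Fin.append (fun i j => if i = j then 1 else 0) Z

theorem cm_castAdd {B : Type*} [CommRing B] (Z : Matrix (Fin r) (Fin d) B) (i : Fin d) (j : Fin d) :
    cm Z (Fin.castAdd r i) j = if i = j then 1 else 0 :=
  congrFun (Fin.append_left _ _ i) j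

theorem cm_natAdd {B : Type*} [CommRing B] (Z : Matrix (Fin r) (Fin d) B) (i : Fin r) (j : Fin d) :
    cm Z (Fin.natAdd d i) j = Z i j :=
  congrFun (Fin.append_right _ _ i) j

theorem det_submatrix_equiv {B : Type*} [CommRing B] {α β : Type*} [Fintype α] [DecidableEq α]
    [Fintype β] [DecidableEq β] (M : Matrix α α B) (e₁ e₂ : β ≃ α) :
    (M.submatrix e₁ e₂).det = M.det ∨ (M.submatrix e₁ e₂).det = - M.det := by
  have : M.submatrix e₁ e₂ = (M.submatrix id (e₁.symm.trans e₂)).submatrix e₁ e₁ := by
    ext i j; simp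
  rw [this, Matrix.det_submatrix_equiv_self, Matrix.det_permute']
  rcases Int.units_eq_one_or (Equiv.Perm.sign (e₁.symm.trans e₂)) with e | e <;> simp [e]

/-- The minors of `[1 ; Z]` are the minors of `Z` up to sign. -/
theorem det_cm_pairIdx {B : Type*} [CommRing B] (Z : Matrix (Fin r) (Fin d) B) (S : Finset (Fin r))
    (T : Finset (Fin d)) (h : S.card = T.card) :
    ((cm Z).submatrix (pairIdx S T h).1 id).det = (Z.submatrix (S.orderEmbOfFin h) (T.orderEmbOfFin rfl)).det ∨
      ((cm Z).submatrix (pairIdx S T h).1 id).det =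
        - (Z.submatrix (S.orderEmbOfFin h) (T.orderEmbOfFin rfl)).det := by
  have hd : Tᶜ.card + T.card = d := by rw [card_compl_add_card, Fintype.card_fin]
  let ρ : Fin Tᶜ.card ⊕ Fin T.card ≃ Fin d := finSumFinEquiv.trans (finCongr hd)
  let c : Fin Tᶜ.card ⊕ Fin T.card → Fin d := Sum.elim (Tᶜ.orderEmbOfFin rfl) (T.orderEmbOfFin rfl)
  have hne : ∀ p q, Tᶜ.orderEmbOfFin rfl p ≠ T.orderEmbOfFin rfl q := fun p q e =>
    mem_compl.1 (e ▸ orderEmbOfFin_mem Tᶜ rfl p) (orderEmbOfFin_mem T rfl q)
  have hc : Function.Bijective c := by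
    refine (Fintype.bijective_iff_injective_and_card _).2 ⟨?_, by simp⟩
    rintro (p | p) (q | q) e
    · exact congrArg Sum.inl ((Tᶜ.orderEmbOfFin rfl).injective e)
    · exact absurd e (hne p q)
    · exact absurd e.symm (hne q p)
    · exact congrArg Sum.inr ((T.orderEmbOfFin rfl).injective e)
  have key : ((cm Z).submatrix (pairIdx S T h).1 id).submatrix ρ (Equiv.ofBijective c hc) =
      Matrix.fromBlocks (1 : Matrix (Fin Tᶜ.card) (Fin Tᶜ.card) B) 0
        (fun p q => Z (S.orderEmbOfFin h p) (Tᶜ.orderEmbOfFin rfl q))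
        (Z.submatrix (S.orderEmbOfFin h) (T.orderEmbOfFin rfl)) := by
    refine Matrix.ext fun p q => ?_
    rcases p with p | p <;> rcases q with q | q <;>
      simp only [Matrix.submatrix_apply, id, Equiv.ofBijective_apply, ρ, c, pairIdx,
        Equiv.trans_apply, finSumFinEquiv_apply_left, finSumFinEquiv_apply_right, finCongr_apply,
        Function.comp_apply, Fin.cast_cast, Fin.cast_eq_self, Fin.append_left, Fin.append_right,
        Sum.elim_inl, Sum.elim_inr, cm_castAdd, cm_natAdd, Matrix.fromBlocks_apply₁₁,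
        Matrix.fromBlocks_apply₁₂, Matrix.fromBlocks_apply₂₁, Matrix.fromBlocks_apply₂₂,
        Matrix.one_apply, Matrix.zero_apply, (Tᶜ.orderEmbOfFin rfl).injective.eq_iff, hne, if_false]
  rcases det_submatrix_equiv ((cm Z).submatrix (pairIdx S T h).1 id) ρ (Equiv.ofBijective c hc) with e | e <;>
    rw [key, Matrix.det_fromBlocks_zero₁₂, Matrix.det_one, one_mul] at e
  · exact Or.inl e.symm
  · exact Or.inr (by rw [e, neg_neg])

section Eval

variable (K : Type u) [CommRing K] {B : Type*} [CommRing B] [Algebra K B]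

/-- Evaluation of Plücker polynomials on `[1 ; Z]`. -/
noncomputable def cellEval (Z : Matrix (Fin r) (Fin d) B) : PlRing K d (d + r) →ₐ[K] B :=
  MvPolynomial.aeval fun θ : Idx d (d + r) => ((cm Z).submatrix θ.1 id).det

theorem cellEval_mem_plIdealTop (Z : Matrix (Fin r) (Fin d) B) {f : PlRing K d (d + r)}
    (hf : f ∈ plIdealTop K) : cellEval K Z f = 0 :=
  aeval_eq_zero_of_mem_plIdealTop (cm Z) hf

theorem cellEval_bot (Z : Matrix (Fin r) (Fin d) B) :
    cellEval K Z (X (bot (Nat.le_add_right d r))) = 1 := by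
  rw [cellEval, MvPolynomial.aeval_X]
  have : (cm Z).submatrix (bot (Nat.le_add_right d r)).1 id = 1 :=
    Matrix.ext fun i j => cm_castAdd Z i j
  rw [this, Matrix.det_one]

theorem cellEval_pairIdx (Z : Matrix (Fin r) (Fin d) B) (S : Finset (Fin r)) (T : Finset (Fin d))
    (h : S.card = T.card) :
    cellEval K Z (X (pairIdx S T h)) = (Z.submatrix (S.orderEmbOfFin h) (T.orderEmbOfFin rfl)).det ∨
      cellEval K Z (X (pairIdx S T h)) = - (Z.submatrix (S.orderEmbOfFin h) (T.orderEmbOfFin rfl)).det := by
  rw [cellEval, MvPolynomial.aeval_X]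
  exact det_cm_pairIdx Z S T h

theorem cellEval_surjective_aux (Z : Matrix (Fin r) (Fin d) B) (i : Fin r) (j : Fin d) :
    ∃ θ : Idx d (d + r), cellEval K Z (X θ) = Z i j ∨ cellEval K Z (X θ) = - Z i j := by
  refine ⟨pairIdx {i} {j} (by simp), ?_⟩
  have e : (Z.submatrix (({i} : Finset (Fin r)).orderEmbOfFin (by simp : ({i} : Finset (Fin r)).card = ({j} : Finset (Fin d)).card))
      (({j} : Finset (Fin d)).orderEmbOfFin rfl)).det = Z i j := by
    have h1 : ∀ p, ({j} : Finset (Fin d)).orderEmbOfFin rfl p = j := fun p =>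
      mem_singleton.1 (orderEmbOfFin_mem _ _ p)
    have h2 : ∀ p, ({i} : Finset (Fin r)).orderEmbOfFin (by simp : ({i} : Finset (Fin r)).card = ({j} : Finset (Fin d)).card) p = i :=
      fun p => mem_singleton.1 (orderEmbOfFin_mem _ _ p)
    have : Unique (Fin ({j} : Finset (Fin d)).card) := by rw [card_singleton]; infer_instance
    rw [Matrix.det_unique, Matrix.submatrix_apply, h1, h2]
  rw [← e]
  exact cellEval_pairIdx K Z {i} {j} _

end Eval

/-- Padding of a tuple by the smallest index. -/
def pad {m : ℕ} (N : ℕ) (c : Fin m → Idx d (d + r)) : Fin N → Idx d (d + r) :=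
  fun k => if h : k.val < m then c ⟨k.val, h⟩ else bot (Nat.le_add_right d r)

theorem antitone_pad {m : ℕ} (N : ℕ) {c : Fin m → Idx d (d + r)} (hc : Antitone c) : Antitone (pad N c) := by
  intro x y hxy
  unfold pad
  split_ifs with h1 h2
  · exact hc hxy
  · exact absurd (lt_of_le_of_lt (Fin.le_def.1 hxy) h1) h2
  · exact bot_le _ _
  · exact le_rfl

theorem aeval_pad {K : Type u} [CommRing K] {B : Type*} [CommRing B] [Algebra K B]
    (g : Idx d (d + r) → B) {m : ℕ} (e : ℕ) (c : Fin m → Idx d (d + r)) :
    MvPolynomial.aeval g (chainMon K (pad (m + e) c)) =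
      (∏ k, g (c k)) * g (bot (Nat.le_add_right d r)) ^ e := by
  rw [chainMon, map_prod, Fin.prod_univ_add]
  simp [pad]

section Field

variable {K : Type u} [Field K] [Infinite K]

/-- Standard monomials without the smallest index stay independent on the opposite cell of `X(w)`,
already on the matrices `[1 ; U V]` with inner dimension `s` when `w` has at most `s` low entries. -/
theorem cell_coeff_eq_zero (hd : 0 < d) (w : Idx d (d + r)) (s : ℕ) (hs : upCount w ≤ s) (hsd : s ≤ d)
    (a : Tup d (d + r) →₀ K) (ha : ∀ c ∈ a.support, Antitone c.2)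
    (hnb : ∀ c ∈ a.support, ∀ k, c.2 k ≠ bot (Nat.le_add_right d r))
    (h : ∀ (U : Matrix (Fin r) (Fin s) K) (V : Matrix (Fin s) (Fin d) K),
      (∀ φ, ¬ φ ≤ w → cellEval K (U * V) (X φ) = 0) → cellEval K (U * V) (comb K d (d + r) a) = 0)
    {m : ℕ} (c : Fin m → Idx d (d + r)) (hc : ∀ k, c k ≤ w) : a ⟨m, c⟩ = 0 := by
  classical
  by_contra hne
  have hmem : (⟨m, c⟩ : Tup d (d + r)) ∈ a.support := Finsupp.mem_support_iff.2 hne
  let M := a.support.sup fun x => x.1
  have hM : ∀ x ∈ a.support, x.1 ≤ M := fun x hx => le_sup (f := fun x : Tup d (d + r) => x.1) hx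
  let ι : Tup d (d + r) → Tup d (d + r) := fun x => ⟨M + 1, pad (M + 1) x.2⟩
  have hinj : Set.InjOn ι a.support := by
    rintro ⟨m1, c1⟩ hx ⟨m2, c2⟩ hy e
    have e' : pad (M + 1) c1 = pad (M + 1) c2 := eq_of_heq (Sigma.mk.inj_iff.1 e).2
    have key : ∀ {p q : ℕ} (c1 : Fin p → Idx d (d + r)) (c2 : Fin q → Idx d (d + r)), p ≤ M →
        (∀ k, c1 k ≠ bot (Nat.le_add_right d r)) → pad (M + 1) c1 = pad (M + 1) c2 → p ≤ q := by
      intro p q c1 c2 hp hb heq
      by_contra hlt
      have := congrFun heq ⟨q, by omega⟩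
      simp only [pad, dif_pos (not_le.1 hlt), lt_irrefl, dite_false] at this
      exact hb _ this
    obtain rfl : m1 = m2 := le_antisymm (key c1 c2 (hM _ hx) (hnb _ hx) e')
      (key c2 c1 (hM _ hy) (hnb _ hy) e'.symm)
    congr 1
    funext k
    have := congrFun e' ⟨k.val, by have := hM _ hx; have := k.isLt; simp only at *; omega⟩
    simpa [pad, k.isLt] using this
  refine hne ?_
  have h0 : evP K (bot (Nat.le_add_right d r)) w (comb K d (d + r) (a.mapDomain ι)) = 0 := by
    refine evP_eq_zero_of_points fun A hA => ?_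
    let δ := (A.submatrix (bot (Nat.le_add_right d r)).1 id).det
    rw [comb, Finsupp.linearCombination_mapDomain, Finsupp.linearCombination_apply, map_finsuppSum]
    have e1 : ∀ x ∈ a.support, evalMinors K d (d + r) A (a x • chainMon K (ι x).2) =
        a x * ((∏ k, (A.submatrix (x.2 k).1 id).det) * δ ^ (M + 1 - x.1)) := by
      intro x hx
      have hx' := hM x hx
      obtain ⟨e, he⟩ := Nat.exists_eq_add_of_le (show x.1 ≤ M + 1 by omega)
      rw [map_smul, smul_eq_mul, evalMinors]
      congr 1
      change MvPolynomial.aeval _ (chainMon K (pad (M + 1) x.2)) = _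
      rw [he, Nat.add_sub_cancel_left]
      exact aeval_pad _ e x.2
    refine (Finsupp.sum_congr (g2 := fun x _ => a x * ((∏ k, (A.submatrix (x.2 k).1 id).det) * δ ^ (M + 1 - x.1)))
      fun x hx => e1 x hx).trans ?_
    by_cases hδ : δ = 0
    · refine sum_eq_zero fun x hx => ?_
      have hx' := hM x hx
      dsimp only
      rw [hδ, zero_pow (by omega), mul_zero, mul_zero]
    let Tm : Matrix (Fin d) (Fin d) K := A.submatrix (bot (Nat.le_add_right d r)).1 id
    have hu : IsUnit Tm.det := isUnit_iff_ne_zero.2 hδ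
    let Bm : Matrix (Fin r) (Fin d) K := fun i j => A (Fin.natAdd d i) j
    let Z := Bm * Tm⁻¹
    have hA' : A = cm Z * Tm := by
      refine Matrix.ext fun i j => ?_
      induction i using Fin.addCases with
      | left i =>
        rw [Matrix.mul_apply]
        simp only [cm_castAdd, ite_mul, one_mul, zero_mul, Finset.sum_ite_eq, mem_univ, if_true]
        rfl
      | right i =>
        have e : (Z * Tm) i j = Bm i j := by rw [Matrix.mul_assoc, Matrix.nonsing_inv_mul _ hu, Matrix.mul_one]
        rw [Matrix.mul_apply] at e ⊢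
        simp only [cm_natAdd]
        exact e.symm
    have hmin : ∀ θ : Idx d (d + r), (A.submatrix θ.1 id).det = cellEval K Z (X θ) * δ := by
      intro θ
      rw [cellEval, MvPolynomial.aeval_X]
      conv_lhs => rw [hA']
      rw [show (cm Z * Tm).submatrix θ.1 id = (cm Z).submatrix θ.1 id * Tm from rfl, Matrix.det_mul]
    let U : Matrix (Fin r) (Fin s) K := fun i p => Bm i ⟨d - s + p.val, by have := p.isLt; omega⟩
    let V : Matrix (Fin s) (Fin d) K := fun p j => Tm⁻¹ ⟨d - s + p.val, by have := p.isLt; omega⟩ j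
    have hUV : Z = U * V := by
      refine Matrix.ext fun i j => ?_
      simp only [Z, Matrix.mul_apply, U, V]
      have hB : ∀ q : Fin d, q.val < d - s → Bm i q = 0 := by
        intro q hq
        refine hA _ _ fun h' => ?_
        have h1 := Fin.le_def.1 h'.2
        simp at h1
        have h2 : (Finset.Ici q).card ≤ upCount w :=
          card_le_card fun t ht => mem_filter.2 ⟨mem_univ _,
            by have := Fin.le_def.1 (w.2.monotone (Finset.mem_Ici.1 ht)); omega⟩
        rw [Fin.card_Ici] at h2
        omega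
      symm
      refine sum_of_injOn (fun p => ⟨d - s + p.val, by have := p.isLt; omega⟩) ?_ ?_ ?_ ?_
      · intro p _ q _ e
        exact Fin.ext (by simpa using congrArg Fin.val e)
      · simp
      · intro q _ hq
        rw [hB q, zero_mul]
        by_contra hlt
        exact hq ⟨⟨q.val - (d - s), by have := q.isLt; omega⟩, by simp, Fin.ext (by simp; omega)⟩
      · intros; rfl
    have hz := h U V (fun φ hφ => by
      have h3 := hmin φ
      rw [det_eq_zero_of_inPattern hA (fun h' => hφ h'.2), hUV] at h3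
      exact (mul_eq_zero.1 h3.symm).resolve_right hδ)
    rw [← hUV, comb, Finsupp.linearCombination_apply, map_finsuppSum] at hz
    calc (a.sum fun x v => a x * ((∏ k, (A.submatrix (x.2 k).1 id).det) * δ ^ (M + 1 - x.1)))
        = δ ^ (M + 1) * a.sum fun x v => cellEval K Z (v • chainMon K x.2) := by
          rw [Finsupp.mul_sum]
          refine Finsupp.sum_congr fun x hx => ?_
          have hx' := hM x hx
          rw [map_smul, smul_eq_mul, chainMon, map_prod]
          simp only [hmin, prod_mul_distrib, prod_const, card_univ, Fintype.card_fin]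
          rw [show δ ^ (M + 1) = δ ^ x.1 * δ ^ (M + 1 - x.1) by rw [← pow_add]; congr 1; omega]
          ring
      _ = 0 := by rw [hz, mul_zero]
  have h1 := coeff_eq_zero hd _ w (a.mapDomain ι) (fun x hx => by
      obtain ⟨y, hy, rfl⟩ := mem_image.1 (Finsupp.mapDomain_support hx)
      exact antitone_pad _ (ha y hy)) h0 (pad (M + 1) c) (fun k => ⟨bot_le _ _, by
      unfold pad; split_ifs with hk
      · exact hc _
      · exact bot_le _ _⟩)
  rwa [show (⟨M + 1, pad (M + 1) c⟩ : Tup d (d + r)) = ι ⟨m, c⟩ from rfl,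
    Finsupp.mapDomain_apply' (a.support : Set _) a subset_rfl hinj hmem] at h1

end Field

end Groth.Agent.StdMon
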