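import Groth.Agent.StdMon.Det
import Mathlib.FieldTheory.IsAlgClosed.Basic
import Mathlib.RingTheory.Localization.Away.Basic

/-!
# `SL_d` invariants of `n × d` matrices
-/

namespace Groth.Agent.StdMon

open W4bk4grassmannian Finset MvPolynomial

universe u

variable {d n : ℕ}

/-- The cover of the smallest index. -/
def bot₁ (hdn : d < n) : Idx d n :=
  ⟨fun t => if t.val + 1 < d then ⟨t.val, by omega⟩ else ⟨d, hdn⟩, by
    intro a b hab
    have := Fin.lt_def.1 hab
    have := b.isLt
    simp only
    split_ifs <;> simp only [Fin.lt_def] <;> omega⟩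

theorem not_bot₁_le (hd : 0 < d) (hdn : d < n) : ¬ bot₁ hdn ≤ bot hdn.le := by
  intro h
  have := h ⟨d - 1, by omega⟩
  simp [bot₁, bot, Fin.le_def, show ¬ (d - 1 + 1 < d) by omega] at this
  omega

theorem val_add_le (θ : Idx d n) {i j : Fin d} (hij : i ≤ j) : (θ.1 i).val + (j.val - i.val) ≤ (θ.1 j).val := by
  obtain ⟨k, hk⟩ : ∃ k, j.val = i.val + k := ⟨j.val - i.val, by have := Fin.le_def.1 hij; omega⟩
  induction k generalizing j with
  | zero =>
    obtain rfl : i = j := Fin.ext (by omega)
    simp
  | succ k ih =>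
    have := ih (j := ⟨i.val + k, by omega⟩) (Fin.le_def.2 (by simp)) rfl
    have h := Fin.lt_def.1 (θ.2 (show (⟨i.val + k, by omega⟩ : Fin d) < j from Fin.lt_def.2 (by simp only; omega)))
    simp only at this
    omega

theorem bot₁_le (hdn : d < n) {φ : Idx d n} (hφ : φ ≠ bot hdn.le) : bot₁ hdn ≤ φ := by
  intro t
  have h1 := val_le_apply φ t
  by_cases ht : t.val + 1 < d
  · simp [bot₁, ht, Fin.le_def, h1]
  · simp only [bot₁, ht, if_false, Fin.le_def]
    by_contra hlt
    refine hφ (Subtype.ext (funext fun s => Fin.ext ?_))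
    have h2 := val_le_apply φ s
    have := s.isLt
    have h3 := val_add_le φ (show s ≤ t from Fin.le_def.2 (by omega))
    simp [bot]
    omega

variable {K : Type u} [Field K]

theorem pluckerMap_eq_zero_of_mem {g : PlRing K d n} (hg : g ∈ plIdealTop K) : pluckerMap K d n g = 0 :=
  aeval_eq_zero_of_mem_plIdealTop (fun i t => (X (i, t) : MatRing K d n)) hg

theorem aeval_pluckerMap {B : Type*} [CommRing B] [Algebra K B] (A : Matrix (Fin n) (Fin d) B) (g : PlRing K d n) :
    MvPolynomial.aeval (fun p : Fin n × Fin d => A p.1 p.2) (pluckerMap K d n g) =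
      MvPolynomial.aeval (fun θ : Idx d n => (A.submatrix θ.1 id).det) g := by
  suffices h : (MvPolynomial.aeval (R := K) fun p : Fin n × Fin d => A p.1 p.2).comp (pluckerMap K d n) =
      MvPolynomial.aeval fun θ : Idx d n => (A.submatrix θ.1 id).det from AlgHom.congr_fun h g
  refine MvPolynomial.algHom_ext fun θ => ?_
  rw [AlgHom.comp_apply, pluckerMap, MvPolynomial.aeval_X, MvPolynomial.aeval_X, minor, AlgHom.map_det]
  congr 1
  refine Matrix.ext fun i j => ?_
  simp

theorem rightTranslate_minor (g : Matrix.SpecialLinearGroup (Fin d) K) (θ : Idx d n) :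
    rightTranslate K d n g (minor K d n θ.1) = minor K d n θ.1 := by
  rw [minor, AlgHom.map_det]
  have : (rightTranslate K d n g).mapMatrix (Matrix.of fun s t : Fin d => (X (θ.1 s, t) : MatRing K d n)) =
      (Matrix.of fun s t : Fin d => (X (θ.1 s, t) : MatRing K d n)) *
        (g : Matrix (Fin d) (Fin d) K).map C := by
    refine Matrix.ext fun i j => ?_
    simp [rightTranslate, Matrix.mul_apply]
  rw [this, Matrix.det_mul, ← RingHom.mapMatrix_apply, ← RingHom.map_det, g.2, map_one, mul_one]

theorem exists_mul_pow_SL [Infinite K] {r : ℕ} (hd : 0 < d) (f : MatRing K d (d + r))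
    (hf : ∀ g : Matrix.SpecialLinearGroup (Fin d) K, rightTranslate K d (d + r) g f = f) :
    ∃ (N : ℕ) (g : PlRing K d (d + r)),
      f * pluckerMap K d (d + r) (X (bot (Nat.le_add_right d r))) ^ N = pluckerMap K d (d + r) g := by
  classical
  let b : Idx d (d + r) := bot (Nat.le_add_right d r)
  let δ : PlRing K d (d + r) := X b
  let L := Localization.Away δ
  have hlin : ∀ (i : Fin r) (j : Fin d), ∃ (θ : Idx d (d + r)) (e : K),
      ∀ Z : Matrix (Fin r) (Fin d) K, Z i j = e * cellEval K Z (X θ) := by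
    intro i j
    obtain ⟨θ, h | h⟩ := cellEval_surjective_aux K (revGen r d K) i j
    · refine ⟨θ, 1, fun Z => ?_⟩
      rw [one_mul, ← aeval_toMinors K Z, toMinors, h]
      simp [revGen]
    · refine ⟨θ, -1, fun Z => ?_⟩
      rw [neg_one_mul, ← aeval_toMinors K Z, toMinors, h, map_neg, neg_neg]
      simp [revGen]
  choose θ e hθe using hlin
  let D : Fin d → L := fun j => if j.val = 0 then algebraMap _ L δ else 1
  let ψ : MatRing K d (d + r) →ₐ[K] L := MvPolynomial.aeval fun p =>
    Fin.append (fun i j => if i = j then D j else 0)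
      (fun i j => algebraMap (PlRing K d (d + r)) L (C (e i j) * X (θ i j)) *
        IsLocalization.Away.invSelf δ * D j) p.1 p.2
  obtain ⟨⟨g, ⟨_, N, rfl⟩⟩, hg⟩ := IsLocalization.surj (Submonoid.powers δ) (ψ f)
  simp only at hg
  refine ⟨N + 1, g * δ, MvPolynomial.funext fun x => ?_⟩
  let A : Matrix (Fin (d + r)) (Fin d) K := fun i j => x (i, j)
  have hx : x = fun p : Fin (d + r) × Fin d => A p.1 p.2 := rfl
  simp only [← MvPolynomial.aeval_eq_eval, RingHom.coe_coe, map_mul, map_pow]
  rw [hx, aeval_pluckerMap, aeval_pluckerMap]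
  let Tm : Matrix (Fin d) (Fin d) K := A.submatrix b.1 id
  let ev : PlRing K d (d + r) →ₐ[K] K := MvPolynomial.aeval fun θ : Idx d (d + r) => (A.submatrix θ.1 id).det
  have hδ : ev δ = Tm.det := MvPolynomial.aeval_X _ _
  change MvPolynomial.aeval _ f * ev δ ^ (N + 1) = ev g * ev δ
  by_cases h0 : Tm.det = 0
  · rw [hδ, h0, zero_pow (Nat.succ_ne_zero N), mul_zero, mul_zero]
  have hu : IsUnit Tm.det := isUnit_iff_ne_zero.2 h0
  have hev : IsUnit (ev δ) := hδ.symm ▸ hu
  let lift : L →+* K := IsLocalization.Away.lift δ (g := ev.toRingHom) hev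
  have hlift : ∀ z, lift (algebraMap _ L z) = ev z := fun z => IsLocalization.Away.lift_eq δ hev z
  have hinv : lift (IsLocalization.Away.invSelf δ) = Tm.det⁻¹ := by
    have h1 := congrArg lift (IsLocalization.Away.mul_invSelf (S := L) δ)
    rw [map_mul, hlift, map_one, hδ] at h1
    exact eq_inv_of_mul_eq_one_right h1
  let w : Fin d → K := fun j => if j.val = 0 then Tm.det else 1
  have hw : ∀ j, w j ≠ 0 := fun j => by simp only [w]; split_ifs <;> simp [h0]
  let S : Matrix (Fin d) (Fin d) K := Matrix.diagonal (fun j => (w j)⁻¹) * Tm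
  have hS : S.det = 1 := by
    rw [Matrix.det_mul, Matrix.det_diagonal, prod_eq_single (⟨0, hd⟩ : Fin d) (fun j _ hj => ?_) (by simp)]
    · simp [w, h0]
    · have : j.val ≠ 0 := fun e => hj (Fin.ext e)
      simp [w, this]
  let Z : Matrix (Fin r) (Fin d) K := (A.submatrix (Fin.natAdd d) id) * Tm⁻¹
  have hAZ : A = cm Z * Tm := by
    refine Matrix.ext fun i j => ?_
    induction i using Fin.addCases with
    | left i =>
      rw [Matrix.mul_apply]
      simp only [cm_castAdd, ite_mul, one_mul, zero_mul, Finset.sum_ite_eq, mem_univ, if_true]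
      rfl
    | right i =>
      have e : (Z * Tm) i j = A (Fin.natAdd d i) j := by
        rw [Matrix.mul_assoc, Matrix.nonsing_inv_mul _ hu, Matrix.mul_one]
        rfl
      rw [Matrix.mul_apply] at e ⊢
      simp only [cm_natAdd]
      exact e.symm
  have hmin : ∀ θ : Idx d (d + r), ev (X θ) = cellEval K Z (X θ) * Tm.det := by
    intro θ
    rw [show ev (X θ) = _ from MvPolynomial.aeval_X _ _, cellEval, MvPolynomial.aeval_X]
    conv_lhs => rw [hAZ]
    rw [show (cm Z * Tm).submatrix θ.1 id = (cm Z).submatrix θ.1 id * Tm from rfl, Matrix.det_mul]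
  have hψ : lift (ψ f) = MvPolynomial.aeval (fun p : Fin (d + r) × Fin d => A p.1 p.2) f := by
    let A' : Matrix (Fin (d + r)) (Fin d) K := cm Z * Matrix.diagonal w
    have hA' : ∀ p : Fin (d + r) × Fin d, lift (ψ (X p)) = A' p.1 p.2 := by
      rintro ⟨i, j⟩
      have hD : lift (D j) = w j := by
        simp only [D, w]
        split_ifs
        · rw [hlift, hδ]
        · exact map_one _
      simp only [ψ, MvPolynomial.aeval_X, A']
      rw [Matrix.mul_diagonal]
      induction i using Fin.addCases with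
      | left i =>
        rw [Fin.append_left, cm_castAdd]
        split_ifs <;> simp [hD]
      | right i =>
        rw [Fin.append_right, cm_natAdd, map_mul, map_mul, hlift, hinv, hD, map_mul, hmin, ← mul_assoc,
          show ev (C (e i j)) = e i j from MvPolynomial.aeval_C _ _, ← hθe i j Z, mul_assoc (Z i j),
          mul_inv_cancel₀ h0, mul_one]
    have h1 : ∀ h : MatRing K d (d + r), lift (ψ h) =
        MvPolynomial.aeval (fun p : Fin (d + r) × Fin d => A' p.1 p.2) h := by
      intro h
      induction h using MvPolynomial.induction_on with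
      | C c =>
        simp only [ψ, MvPolynomial.aeval_C]
        rw [IsScalarTower.algebraMap_apply K (PlRing K d (d + r)) L, hlift]
        exact ev.commutes c
      | add p r hp hr => simp only [map_add, hp, hr]
      | mul_X p z hp => simp only [map_mul, hp, hA', MvPolynomial.aeval_X]
    rw [h1]
    conv_lhs => rw [← hf ⟨S, hS⟩]
    have h2 : ∀ h : MatRing K d (d + r),
        MvPolynomial.aeval (fun p : Fin (d + r) × Fin d => A' p.1 p.2) (rightTranslate K d (d + r) ⟨S, hS⟩ h) =
          MvPolynomial.aeval (fun p : Fin (d + r) × Fin d => (A' * S) p.1 p.2) h := by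
      intro h
      rw [← AlgHom.comp_apply]
      congr 1
      refine MvPolynomial.algHom_ext fun p => ?_
      simp [rightTranslate, Matrix.mul_apply]
    rw [h2]
    congr 2
    funext p
    have : A' * S = A := by
      rw [Matrix.mul_assoc, ← Matrix.mul_assoc (Matrix.diagonal w), Matrix.diagonal_mul_diagonal]
      simp only [mul_inv_cancel₀ (hw _), Matrix.diagonal_one, Matrix.one_mul]
      exact hAZ.symm
    rw [this]
  have h3 := congrArg lift hg
  simp only [map_mul, hlift, hψ, map_pow] at h3
  rw [pow_succ, ← mul_assoc, h3]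

theorem mem_range_of_mul_bot [Infinite K] (hd : 0 < d) (hdn : d < n) (f : MatRing K d n) (g : PlRing K d n)
    (h : f * pluckerMap K d n (X (bot hdn.le)) = pluckerMap K d n g) :
    ∃ g', pluckerMap K d n g' = f := by
  classical
  obtain ⟨a, ha, hga⟩ := exists_comb K g
  have hpa : f * pluckerMap K d n (X (bot hdn.le)) = pluckerMap K d n (comb K d n a) := by
    rw [h, ← sub_eq_zero, ← map_sub]
    exact pluckerMap_eq_zero_of_mem hga
  have hbot : ∀ c ∈ a.support, ∃ k, c.2 k = bot hdn.le := by
    intro c hc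
    by_contra hne
    push Not at hne
    obtain ⟨w, hw⟩ : ∃ w, ∀ k, bot₁ hdn ≤ c.2 k ∧ c.2 k ≤ w := by
      rcases Nat.eq_zero_or_pos c.1 with h0 | h0
      · exact ⟨bot hdn.le, fun k => absurd k.pos (by omega)⟩
      · exact ⟨c.2 ⟨0, h0⟩, fun k => ⟨bot₁_le hdn (hne k), ha c hc (Nat.zero_le _)⟩⟩
    refine Finsupp.mem_support_iff.1 hc (coeff_eq_zero hd (bot₁ hdn) w a ha ?_ c.2 hw)
    have e : ∀ p, MvPolynomial.aeval (fun q : Fin n × Fin d => pat K (bot₁ hdn) w q.1 q.2)
        (pluckerMap K d n p) = evP K (bot₁ hdn) w p := aeval_pluckerMap (pat K (bot₁ hdn) w)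
    rw [← e, ← hpa, map_mul, e, evP_X_eq_zero fun h => not_bot₁_le hd hdn h.1, mul_zero]
  have hmul : ∀ c ∈ a.support, ∃ Q, chainMon K c.2 = X (bot hdn.le) * Q := by
    intro c hc
    obtain ⟨k, hk⟩ := hbot c hc
    rw [chainMon, ← mul_prod_erase univ _ (mem_univ k), hk]
    exact ⟨_, rfl⟩
  choose! Q hQ using hmul
  have hfac : comb K d n a = X (bot hdn.le) * ∑ c ∈ a.support, a c • Q c := by
    rw [comb, Finsupp.linearCombination_apply, mul_sum]
    refine sum_congr rfl fun c hc => ?_
    dsimp only
    rw [hQ c hc, mul_smul_comm]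
  have hne : pluckerMap K d n (X (bot hdn.le)) ≠ 0 := by
    intro h0
    have h1 := congrArg (MvPolynomial.aeval fun p : Fin n × Fin d =>
      if p.1 = Fin.castLE hdn.le p.2 then (1 : K) else 0) h0
    rw [aeval_pluckerMap (fun i j => if i = Fin.castLE hdn.le j then (1 : K) else 0), MvPolynomial.aeval_X,
      map_zero] at h1
    refine one_ne_zero (α := K) ?_
    rw [← h1, ← Matrix.det_one (n := Fin d) (R := K)]
    congr 1
    refine Matrix.ext fun i j => ?_
    simp [bot, Matrix.one_apply, Fin.castLE_inj]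
  rw [hfac, map_mul, mul_comm f] at hpa
  exact ⟨_, (mul_left_cancel₀ hne hpa).symm⟩

/-- `S11263`. -/
theorem invariants_SL [Infinite K] (hd : 0 < d) (hdn : d < n) (f : MatRing K d n) :
    (∀ g : Matrix.SpecialLinearGroup (Fin d) K, rightTranslate K d n g f = f) ↔
      f ∈ Algebra.adjoin K (Set.range fun θ : Idx d n => minor K d n θ.1) := by
  have hrange : Algebra.adjoin K (Set.range fun θ : Idx d n => minor K d n θ.1) = (pluckerMap K d n).range :=
    Algebra.adjoin_range_eq_range_aeval K _
  constructor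
  · intro hf
    rw [hrange]
    obtain ⟨r, rfl⟩ := Nat.exists_eq_add_of_le hdn.le
    obtain ⟨N, g, hg⟩ := exists_mul_pow_SL hd f hf
    clear hf
    induction N generalizing g with
    | zero => exact ⟨g, by rw [AlgHom.toRingHom_eq_coe, RingHom.coe_coe, ← hg, pow_zero, mul_one]⟩
    | succ N ih =>
      rw [pow_succ, ← mul_assoc] at hg
      obtain ⟨g', hg'⟩ := mem_range_of_mul_bot hd hdn _ g hg
      exact ih g' hg'.symm
  · intro hf g
    induction hf using Algebra.adjoin_induction with
    | mem x hx => obtain ⟨θ, rfl⟩ := hx; exact rightTranslate_minor g θ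
    | algebraMap c => exact AlgHom.commutes _ c
    | add x y _ _ hx hy => rw [map_add, hx, hy]
    | mul x y _ _ hx hy => rw [map_mul, hx, hy]

end Groth.Agent.StdMon
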