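import Groth.Agent.StdMon.Det
import Mathlib.FieldTheory.IsAlgClosed.Basic

/-!
# The standard monomial basis of a determinantal ring
-/

namespace Groth.Agent.StdMon

open W4bk4grassmannian Finset MvPolynomial

universe u

variable {K : Type u} [Field K] [Infinite K] {m n : ℕ}

theorem std_coeff_zero (hn : 0 < n) (s : ℕ) (hsm : s ≤ m) (hsn : s ≤ n) (a : Tup n (n + m) →₀ K)
    (ha : ∀ c ∈ a.support, Antitone c.2 ∧ ∀ k, c.2 k ≠ bot (Nat.le_add_right n m) ∧ upCount (c.2 k) ≤ s)
    (h : ∀ (U : Matrix (Fin m) (Fin s) K) (V : Matrix (Fin s) (Fin n) K),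
      MvPolynomial.aeval (fun p : Fin m × Fin n => (U * V) p.1 p.2) (toMinors m n K (comb K n (n + m) a)) = 0) :
    a = 0 := by
  obtain ⟨w, hw, hwtop⟩ := exists_top (m := m) (n := n) s hsm hsn
  ext ⟨k, c⟩
  rw [Finsupp.coe_zero, Pi.zero_apply]
  by_contra hne
  have hmem := Finsupp.mem_support_iff.2 hne
  refine hne (cell_coeff_eq_zero hn w s hw hsn a (fun x hx => (ha x hx).1) (fun x hx i => ((ha x hx).2 i).1)
    (fun U V _ => ?_) c fun i => hwtop _ ((ha _ hmem).2 i).2)
  rw [← aeval_toMinors]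
  exact h (U.submatrix Fin.rev id) V

omit [Infinite K] in
theorem exists_sign {k : ℕ} (c : Fin k → MinorIdx m n) :
    ∃ ε : K, ε ≠ 0 ∧ toMinors m n K (chainMon K fun i => thetaOf (c (Fin.rev i))) =
      ε • ∏ i, minorOf K (c i) := by
  classical
  have h : ∀ M : MinorIdx m n, ∃ ε : K, ε ≠ 0 ∧ toMinors m n K (X (thetaOf M)) = ε • minorOf K M := by
    intro M
    rcases toMinors_thetaOf K M with e | e
    · exact ⟨1, one_ne_zero, by rw [e, one_smul]⟩
    · exact ⟨-1, neg_ne_zero.2 one_ne_zero, by rw [e, neg_one_smul]⟩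
  choose ε hε0 hε using h
  refine ⟨∏ i, ε (c i), prod_ne_zero_iff.2 fun i _ => hε0 _, ?_⟩
  rw [chainMon, map_prod, ← Equiv.prod_comp Fin.revPerm]
  simp only [Fin.revPerm_apply, Fin.rev_rev, hε, Algebra.smul_def, prod_mul_distrib, map_prod]

/-- `S11265`. -/
theorem bitableaux_basis (hn : 0 < n) (t : ℕ) (ht : 1 ≤ t) (htmn : t ≤ min m n + 1) :
    LinearIndependent K (fun c : (Σ k : ℕ, {c : Fin k → MinorIdx m n //
        (∀ i, (c i).1 + 1 ≤ t - 1) ∧ ∀ i j, i < j → MinorGE (c i) (c j)}) =>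
        Ideal.Quotient.mk (CAlgX.minorIdeal (genMatrix K m n) t)
          (Finset.univ.prod fun i => minorOf K (c.2.1 i))) ∧
      Submodule.span K (Set.range fun c : (Σ k : ℕ, {c : Fin k → MinorIdx m n //
        (∀ i, (c i).1 + 1 ≤ t - 1) ∧ ∀ i j, i < j → MinorGE (c i) (c j)}) =>
        Ideal.Quotient.mk (CAlgX.minorIdeal (genMatrix K m n) t)
          (Finset.univ.prod fun i => minorOf K (c.2.1 i))) = ⊤ := by
  classical
  let J := CAlgX.minorIdeal (genMatrix K m n) t
  let Ch := Σ k : ℕ, {c : Fin k → MinorIdx m n //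
        (∀ i, (c i).1 + 1 ≤ t - 1) ∧ ∀ i j, i < j → MinorGE (c i) (c j)}
  let ι : Ch → Tup n (n + m) := fun c => ⟨c.1, fun i => thetaOf (c.2.1 (Fin.rev i))⟩
  choose ε hε0 hε using fun c : Ch => exists_sign (K := K) c.2.1
  have hanti : ∀ c : Ch, Antitone (ι c).2 := by
    intro c a b hab
    rcases hab.lt_or_eq with hab | rfl
    · exact (minorGE_iff _ _).1 (c.2.2.2 _ _ (Fin.rev_lt_rev.2 hab))
    · exact le_rfl
  constructor
  · rw [linearIndependent_iff]
    intro l hl
    have hinj : Function.Injective ι := by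
      rintro ⟨k, c, hc⟩ ⟨k', c', hc'⟩ e
      simp only [ι, Sigma.mk.inj_iff] at e
      obtain ⟨rfl, e⟩ := e
      have : c = c' := funext fun i => by
        simpa using thetaOf_injective (congrFun (eq_of_heq e) (Fin.rev i))
      subst this
      rfl
    let l' : Ch →₀ K := Finsupp.onFinset l.support (fun c => l c * (ε c)⁻¹) fun c hc =>
      Finsupp.mem_support_iff.2 (left_ne_zero_of_mul hc)
    have hJ : toMinors m n K (comb K n (n + m) (l'.mapDomain ι)) ∈ J := by
      rw [← Ideal.Quotient.eq_zero_iff_mem, ← hl, comb, Finsupp.linearCombination_mapDomain,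
        Finsupp.linearCombination_apply, Finsupp.linearCombination_apply, map_finsuppSum,
        Finsupp.onFinset_sum _ (fun c => by simp), Finsupp.sum, map_sum]
      refine sum_congr rfl fun c _ => ?_
      rw [Function.comp_apply, map_smul, show (ι c).2 = fun i => thetaOf (c.2.1 (Fin.rev i)) from rfl, hε,
        smul_smul, mul_assoc, inv_mul_cancel₀ (hε0 c), mul_one]
      exact map_smul (Ideal.Quotient.mkₐ K J) _ _
    have hz := std_coeff_zero hn (t - 1) (by omega) (by omega) (l'.mapDomain ι) (fun x hx => ?_) fun U V =>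
      minorIdeal_le_ker K (by omega : t - 1 < t) U V hJ
    · refine Finsupp.ext fun c => ?_
      have h1 := congrArg (fun f => f (ι c)) hz
      simp only [Finsupp.mapDomain_apply hinj, Finsupp.coe_zero, Pi.zero_apply, l', Finsupp.onFinset_apply] at h1
      simpa [hε0 c] using h1
    · obtain ⟨c, -, rfl⟩ := mem_image.1 (Finsupp.mapDomain_support hx)
      exact ⟨hanti c, fun i => ⟨thetaOf_ne_bot _, by rw [upCount_thetaOf]; exact c.2.2.1 _⟩⟩
  · rw [eq_top_iff]
    intro x _
    obtain ⟨f, rfl⟩ := Ideal.Quotient.mk_surjective x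
    obtain ⟨a, ha, hfa⟩ := exists_std K t ht f
    rw [Ideal.Quotient.eq.2 hfa, comb, Finsupp.linearCombination_apply, map_finsuppSum, map_finsuppSum]
    refine Submodule.sum_mem _ fun x hx => ?_
    dsimp only
    rw [map_smul, show (Ideal.Quotient.mk J) (a x • toMinors m n K (chainMon K x.2)) =
      a x • Ideal.Quotient.mk J (toMinors m n K (chainMon K x.2)) from map_smul (Ideal.Quotient.mkₐ K J) _ _]
    refine Submodule.smul_mem _ _ ?_
    obtain ⟨k, c⟩ := x
    obtain ⟨hc, hall⟩ := ha _ hx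
    choose M hM using fun i => exists_thetaOf (hall i).1
    let c' : Ch := ⟨k, fun i => M (Fin.rev i), fun i => by
        have := (hall (Fin.rev i)).2
        rw [← hM, upCount_thetaOf] at this
        dsimp only
        omega, fun i j hij => by
        rw [minorGE_iff, hM, hM]
        exact hc (Fin.rev_le_rev.2 hij.le)⟩
    have : c = (ι c').2 := funext fun i => by
      change c i = thetaOf (M (Fin.rev (Fin.rev i)))
      rw [Fin.rev_rev, hM]
    rw [this, show (ι c').2 = fun i => thetaOf (c'.2.1 (Fin.rev i)) from rfl, hε]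
    rw [show (Ideal.Quotient.mk J) (ε c' • ∏ i, minorOf K (c'.2.1 i)) =
      ε c' • Ideal.Quotient.mk J (∏ i, minorOf K (c'.2.1 i)) from map_smul (Ideal.Quotient.mkₐ K J) _ _]
    exact Submodule.smul_mem _ _ (Submodule.subset_span ⟨c', rfl⟩)

end Groth.Agent.StdMon
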