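import Groth.Agent.StdMon.Bitableau
import Mathlib.RingTheory.Localization.Away.Basic

/-!
# Invariant theory of `GL_n` on pairs of matrices
-/

namespace Groth.Agent.StdMon

open W4bk4grassmannian Finset MvPolynomial

universe u

variable {K : Type u} [Field K] {m n q : ℕ}

/-- The values at a point `(U, W)`. -/
def pairPt (U : Matrix (Fin m) (Fin n) K) (W : Matrix (Fin n) (Fin q) K) :
    (Fin m × Fin n) ⊕ (Fin n × Fin q) → K :=
  Sum.elim (fun p => U p.1 p.2) (fun p => W p.1 p.2)

theorem aeval_pairingMap (U : Matrix (Fin m) (Fin n) K) (W : Matrix (Fin n) (Fin q) K)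
    (g : MvPolynomial (Fin m × Fin q) K) :
    MvPolynomial.aeval (pairPt U W) (pairingMap K n m q g) =
      MvPolynomial.aeval (fun p : Fin m × Fin q => (U * W) p.1 p.2) g := by
  suffices h : (MvPolynomial.aeval (R := K) (pairPt U W)).comp (pairingMap K n m q) =
      MvPolynomial.aeval fun p : Fin m × Fin q => (U * W) p.1 p.2 from AlgHom.congr_fun h g
  refine MvPolynomial.algHom_ext fun p => ?_
  simp [pairingMap, pairPt, Matrix.mul_apply]

theorem minorIdeal_le_ker_pairing :
    CAlgX.minorIdeal (genMatrix K m q) (n + 1) ≤ RingHom.ker (pairingMap K n m q).toRingHom :=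
  minorIdeal_le_ker K (Nat.lt_succ_self n) (fun i k => X (Sum.inl (i, k)))
    (fun k j => (X (Sum.inr (k, j)) : PairRing K n m q))

theorem upCount_le_rows (θ : Idx q (q + m)) : upCount θ ≤ m ∧ upCount θ ≤ q := by
  obtain ⟨S, T, hST, rfl⟩ := exists_pairIdx θ
  rw [upCount_pairIdx]
  exact ⟨(card_le_univ S).trans_eq (Fintype.card_fin m), hST.trans_le ((card_le_univ T).trans_eq (Fintype.card_fin q))⟩

/-- `S11267`: the second fundamental theorem. -/
theorem ker_pairingMap [Infinite K] :
    RingHom.ker (pairingMap K n m q).toRingHom = CAlgX.minorIdeal (genMatrix K m q) (n + 1) := by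
  classical
  refine le_antisymm (fun f hf => ?_) minorIdeal_le_ker_pairing
  rcases Nat.eq_zero_or_pos q with rfl | hq
  · have hf' : pairingMap K n m 0 f = 0 := hf
    rw [MvPolynomial.eq_C_of_isEmpty f, pairingMap, MvPolynomial.aeval_C] at hf'
    rw [MvPolynomial.eq_C_of_isEmpty f, (map_eq_zero_iff _ (C_injective _ K)).1 hf', map_zero]
    exact Ideal.zero_mem _
  obtain ⟨a, ha, hfa⟩ := exists_std K (n + 1) (Nat.le_add_left 1 n) f
  let s := min n (min m q)
  have hsn : s ≤ n := min_le_left _ _
  suffices a = 0 by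
    rw [this, map_zero, map_zero, sub_zero] at hfa
    exact hfa
  refine std_coeff_zero hq s ((min_le_right _ _).trans (min_le_left _ _))
    ((min_le_right _ _).trans (min_le_right _ _)) a (fun c hc => ⟨(ha c hc).1, fun k => ⟨((ha c hc).2 k).1, ?_⟩⟩)
    fun U V => ?_
  · have := upCount_le_rows (c.2 k)
    exact le_min (Nat.le_of_succ_le_succ ((ha c hc).2 k).2) (le_min this.1 this.2)
  let U' : Matrix (Fin m) (Fin n) K := fun i k => if h : k.val < s then U i ⟨k.val, h⟩ else 0
  let V' : Matrix (Fin n) (Fin q) K := fun k j => if h : k.val < s then V ⟨k.val, h⟩ j else 0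
  have hUV : U' * V' = U * V := by
    refine Matrix.ext fun i j => ?_
    rw [Matrix.mul_apply, Matrix.mul_apply]
    symm
    refine sum_of_injOn (Fin.castLE hsn) (Fin.castLE_injective _).injOn (by simp) ?_ ?_
    · intro x _ hx
      have : ¬ x.val < s := fun hlt => hx ⟨⟨x.val, hlt⟩, by simp, rfl⟩
      simp [U', this]
    · intro p _
      simp [U', V']
  have h1 : pairingMap K n m q (f - toMinors m q K (comb K q (q + m) a)) = 0 := minorIdeal_le_ker_pairing hfa
  have hf' : pairingMap K n m q f = 0 := hf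
  rw [map_sub, hf', zero_sub, neg_eq_zero] at h1
  rw [← hUV, ← aeval_pairingMap, h1, map_zero]

/-- The top left minor. -/
noncomputable def topMinor (K : Type u) [Field K] {m n q : ℕ} (hm : n ≤ m) (hq : n ≤ q) :
    MvPolynomial (Fin m × Fin q) K :=
  ((genMatrix K m q).submatrix (Fin.castLE hm) (Fin.castLE hq)).det

theorem aeval_topMinor {B : Type*} [CommRing B] [Algebra K B] (hm : n ≤ m) (hq : n ≤ q)
    (P : Matrix (Fin m) (Fin q) B) :
    MvPolynomial.aeval (fun p : Fin m × Fin q => P p.1 p.2) (topMinor K hm hq) =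
      (P.submatrix (Fin.castLE hm) (Fin.castLE hq)).det := by
  rw [topMinor, AlgHom.map_det]
  congr 1
  refine Matrix.ext fun i j => ?_
  simp [genMatrix]

theorem pairing_topMinor_ne_zero (hm : n ≤ m) (hq : n ≤ q) :
    pairingMap K n m q (topMinor K hm hq) ≠ 0 := by
  classical
  intro h
  have h1 := congrArg (MvPolynomial.aeval (pairPt
    (fun (i : Fin m) (k : Fin n) => if i = Fin.castLE hm k then (1 : K) else 0)
    (fun (k : Fin n) (j : Fin q) => if j = Fin.castLE hq k then (1 : K) else 0))) h
  rw [aeval_pairingMap, aeval_topMinor, map_zero] at h1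
  refine one_ne_zero (α := K) ?_
  rw [← h1, ← Matrix.det_one (n := Fin n) (R := K)]
  congr 1
  refine Matrix.ext fun i j => ?_
  simp [Matrix.mul_apply, Matrix.one_apply, Fin.castLE_inj, eq_comm]

/-- An invariant becomes a polynomial in the products after multiplying by a power of the top minor. -/
theorem exists_mul_pow_mem [Infinite K] (hm : n ≤ m) (hq : n ≤ q) (f : PairRing K n m q)
    (hf : ∀ A : GL (Fin n) K, glTranslate K n m q A f = f) :
    ∃ (N : ℕ) (g : MvPolynomial (Fin m × Fin q) K),
      f * pairingMap K n m q (topMinor K hm hq) ^ N = pairingMap K n m q g := by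
  classical
  let δ := topMinor K hm hq
  let L := Localization.Away δ
  let P : Matrix (Fin n) (Fin n) (MvPolynomial (Fin m × Fin q) K) :=
    (genMatrix K m q).submatrix (Fin.castLE hm) (Fin.castLE hq)
  let left : Matrix (Fin m) (Fin n) (MvPolynomial (Fin m × Fin q) K) :=
    (genMatrix K m q).submatrix id (Fin.castLE hq) * P.adjugate
  let ψ : PairRing K n m q →ₐ[K] L := MvPolynomial.aeval (Sum.elim
    (fun p : Fin m × Fin n => algebraMap _ L (left p.1 p.2) * IsLocalization.Away.invSelf δ)
    (fun p : Fin n × Fin q => algebraMap (MvPolynomial (Fin m × Fin q) K) L (X (Fin.castLE hm p.1, p.2))))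
  obtain ⟨⟨g, ⟨_, N, rfl⟩⟩, hg⟩ := IsLocalization.surj (Submonoid.powers δ) (ψ f)
  simp only at hg
  refine ⟨N + 1, g * δ, MvPolynomial.funext fun x => ?_⟩
  let U : Matrix (Fin m) (Fin n) K := fun i k => x (Sum.inl (i, k))
  let W : Matrix (Fin n) (Fin q) K := fun k j => x (Sum.inr (k, j))
  have hx : x = pairPt U W := funext fun z => by rcases z with z | z <;> rfl
  simp only [← MvPolynomial.aeval_eq_eval, RingHom.coe_coe]
  rw [map_mul, map_pow, hx, aeval_pairingMap, aeval_pairingMap, map_mul, aeval_topMinor]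
  let UA : Matrix (Fin n) (Fin n) K := U.submatrix (Fin.castLE hm) id
  let WB : Matrix (Fin n) (Fin n) K := W.submatrix id (Fin.castLE hq)
  have hd : ((U * W).submatrix (Fin.castLE hm) (Fin.castLE hq)) = UA * WB := by
    refine Matrix.ext fun i j => ?_
    simp [UA, WB, Matrix.mul_apply]
  by_cases h0 : (UA * WB).det = 0
  · rw [hd, h0, zero_pow (Nat.succ_ne_zero N), mul_zero, mul_zero]
  have hUA : IsUnit UA.det := by
    rw [Matrix.det_mul] at h0
    exact isUnit_iff_ne_zero.2 (left_ne_zero_of_mul h0)
  let A : GL (Fin n) K := Matrix.GeneralLinearGroup.mk'' UA hUA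
  let ev : MvPolynomial (Fin m × Fin q) K →ₐ[K] K := MvPolynomial.aeval fun p => (U * W) p.1 p.2
  have hev : IsUnit (ev δ) := by
    rw [show ev δ = _ from aeval_topMinor hm hq (U * W), hd]
    exact isUnit_iff_ne_zero.2 h0
  let lift : L →+* K := IsLocalization.Away.lift δ (g := ev.toRingHom) hev
  have hlift : ∀ z, lift (algebraMap _ L z) = ev z := fun z => IsLocalization.Away.lift_eq δ hev z
  have hinv : lift (IsLocalization.Away.invSelf δ) = ((UA * WB).det)⁻¹ := by
    have h1 := congrArg lift (IsLocalization.Away.mul_invSelf (S := L) δ)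
    rw [map_mul, hlift, map_one, show ev δ = _ from aeval_topMinor hm hq (U * W), hd] at h1
    exact eq_inv_of_mul_eq_one_right h1
  have hψ : lift (ψ f) = MvPolynomial.aeval (pairPt U W) f := by
    have hcomp : ∀ h : PairRing K n m q, lift (ψ h) =
        MvPolynomial.aeval (pairPt U W) (glTranslate K n m q A h) := by
      intro h
      induction h using MvPolynomial.induction_on with
      | C c =>
        simp only [ψ, glTranslate, MvPolynomial.aeval_C, MvPolynomial.algebraMap_eq]
        rw [IsScalarTower.algebraMap_apply K (MvPolynomial (Fin m × Fin q) K) L, hlift,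
          MvPolynomial.algebraMap_eq, ev.commutes' c |> fun e => (show ev (C c) = _ from MvPolynomial.aeval_C _ c)]
      | add p r hp hr => simp only [map_add, hp, hr]
      | mul_X p z hp =>
        simp only [map_mul, hp]
        congr 1
        rcases z with ⟨i, k⟩ | ⟨k, j⟩
        · simp only [ψ, glTranslate, MvPolynomial.aeval_X, Sum.elim_inl, map_mul, hlift, hinv, map_sum,
            MvPolynomial.aeval_C, pairPt, Sum.elim_inl]
          have e1 : ev (left i k) = ((U * W).submatrix id (Fin.castLE hq) * (UA * WB).adjugate) i k := by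
            have : ev.mapMatrix P = UA * WB := by
              rw [← hd]
              refine Matrix.ext fun a b => ?_
              simp [P, genMatrix, ev]
            rw [← this, ← AlgHom.map_adjugate]
            simp only [left, Matrix.mul_apply, map_sum, map_mul]
            refine sum_congr rfl fun b _ => ?_
            simp [genMatrix, ev, P]
          rw [e1]
          change _ = (U * ((A⁻¹ : GL (Fin n) K) : Matrix (Fin n) (Fin n) K)) i k
          rw [Matrix.GeneralLinearGroup.coe_inv]
          change _ = (U * UA⁻¹) i k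
          have key : (((UA * WB).det)⁻¹ • ((U * W).submatrix id (Fin.castLE hq) * (UA * WB).adjugate)) =
              U * UA⁻¹ := by
            have hWB : IsUnit WB.det := by
              rw [Matrix.det_mul] at h0
              exact isUnit_iff_ne_zero.2 (right_ne_zero_of_mul h0)
            rw [show (U * W).submatrix id (Fin.castLE hq) = U * WB from rfl, Matrix.mul_assoc,
              ← Matrix.mul_smul, ← Matrix.mul_smul]
            congr 1
            have e2 : ((UA * WB).det)⁻¹ • (UA * WB).adjugate = (UA * WB)⁻¹ := by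
              rw [Matrix.inv_def, Ring.inverse_eq_inv']
            rw [e2, Matrix.mul_inv_rev, ← Matrix.mul_assoc, Matrix.mul_nonsing_inv WB hWB, Matrix.one_mul]
          rw [← key, Matrix.smul_apply, smul_eq_mul, mul_comm]
        · simp only [ψ, glTranslate, MvPolynomial.aeval_X, Sum.elim_inr, hlift, map_sum, map_mul,
            MvPolynomial.aeval_C, pairPt]
          simp [ev, Matrix.mul_apply, A, UA]
    rw [hcomp, hf A]
  have h2 := congrArg lift hg
  simp only [map_mul, hlift, hψ, map_pow] at h2
  rw [show ev δ = _ from aeval_topMinor hm hq (U * W)] at h2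
  rw [pow_succ, ← mul_assoc, h2]

/-- Polynomials in the products are saturated with respect to the top minor. -/
theorem mem_range_of_mul_mem [Infinite K] (hn : 0 < n) (hm : n ≤ m) (hq : n ≤ q) (f : PairRing K n m q)
    (g : MvPolynomial (Fin m × Fin q) K)
    (h : f * pairingMap K n m q (topMinor K hm hq) = pairingMap K n m q g) :
    f ∈ (pairingMap K n m q).range := by
  classical
  obtain ⟨s, rfl⟩ : ∃ s, n = s + 1 := ⟨n - 1, by omega⟩
  have hq0 : 0 < q := by omega
  obtain ⟨a, ha, hga⟩ := exists_std K (s + 1 + 1) (by omega) g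
  have hpa : f * pairingMap K (s + 1) m q (topMinor K hm hq) =
      pairingMap K (s + 1) m q (toMinors m q K (comb K q (q + m) a)) := by
    rw [h, ← sub_eq_zero, ← map_sub]
    exact minorIdeal_le_ker_pairing hga
  let M₀ : MinorIdx m q := corner (show s < m by omega) (show s < q by omega)
  let τ := thetaOf M₀
  have htop : minorOf K M₀ = topMinor K hm hq := rfl
  have hfirst : ∀ c ∈ a.support, ∃ h0 : 0 < c.1, c.2 ⟨0, h0⟩ = τ := by
    intro c hc
    by_contra hne
    push Not at hne
    obtain ⟨w, hw, hwc, hwlt⟩ : ∃ w, upCount w ≤ s + 1 ∧ (∀ k, c.2 k ≤ w) ∧ ¬ τ ≤ w := by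
      have hbound : ∀ k, upCount (c.2 k) ≤ s + 1 := fun k => Nat.le_of_succ_le_succ ((ha c hc).2 k).2
      rcases Nat.eq_zero_or_pos c.1 with h0 | h0
      · refine ⟨bot _, by rw [upCount_bot]; omega, fun k => absurd k.pos (by omega), fun hle => ?_⟩
        exact thetaOf_ne_bot M₀ (le_antisymm hle (bot_le _ _))
      · refine ⟨c.2 ⟨0, h0⟩, hbound _, fun k => (ha c hc).1 (Nat.zero_le _), fun hle => hne h0 ?_⟩
        exact le_antisymm (le_corner _ _ _ (hbound _)) hle
    refine Finsupp.mem_support_iff.1 hc (cell_coeff_eq_zero hq0 w (s + 1) hw (by omega) a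
      (fun x hx => (ha x hx).1) (fun x hx k => ((ha x hx).2 k).1) (fun U V hUV => ?_) c.2 hwc)
    have hτ := hUV τ hwlt
    rw [← aeval_toMinors] at hτ ⊢
    have e : ∀ p : MvPolynomial (Fin m × Fin q) K,
        MvPolynomial.aeval (fun p : Fin m × Fin q => (U * V) (Fin.rev p.1) p.2) p =
          MvPolynomial.aeval (pairPt (U.submatrix Fin.rev id) V) (pairingMap K (s + 1) m q p) := fun p => by
      rw [aeval_pairingMap]; rfl
    rw [e] at hτ ⊢
    have hδ : MvPolynomial.aeval (pairPt (U.submatrix Fin.rev id) V)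
        (pairingMap K (s + 1) m q (topMinor K hm hq)) = 0 := by
      rcases toMinors_thetaOf K M₀ with e' | e' <;> rw [e'] at hτ
      · rwa [htop] at hτ
      · rw [map_neg, map_neg, neg_eq_zero] at hτ
        rwa [htop] at hτ
    rw [← hpa, map_mul, hδ, mul_zero]
  have hmul : ∀ c ∈ a.support, ∃ Q, toMinors m q K (chainMon K c.2) = topMinor K hm hq * Q := by
    intro c hc
    obtain ⟨h0, e⟩ := hfirst c hc
    rw [chainMon, map_prod, ← mul_prod_erase univ _ (mem_univ (⟨0, h0⟩ : Fin c.1)), e]
    rcases toMinors_thetaOf K M₀ with e' | e' <;> rw [show τ = thetaOf M₀ from rfl, e', htop]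
    · exact ⟨_, rfl⟩
    · exact ⟨_, neg_mul_comm _ _⟩
  choose! Q hQ using hmul
  have hfac : toMinors m q K (comb K q (q + m) a) = topMinor K hm hq * ∑ c ∈ a.support, a c • Q c := by
    rw [comb, Finsupp.linearCombination_apply, map_finsuppSum, mul_sum]
    refine sum_congr rfl fun c hc => ?_
    dsimp only
    rw [map_smul, hQ c hc, mul_smul_comm]
  rw [hfac, map_mul, mul_comm f] at hpa
  exact ⟨_, (mul_left_cancel₀ (pairing_topMinor_ne_zero hm hq) hpa).symm⟩

theorem invariants_mem_range_of_le [Infinite K] (hn : 0 < n) (hm : n ≤ m) (hq : n ≤ q) (f : PairRing K n m q)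
    (hf : ∀ A : GL (Fin n) K, glTranslate K n m q A f = f) : f ∈ (pairingMap K n m q).range := by
  obtain ⟨N, g, hg⟩ := exists_mul_pow_mem hm hq f hf
  clear hf
  induction N generalizing g with
  | zero => exact ⟨g, by rw [AlgHom.toRingHom_eq_coe, RingHom.coe_coe, ← hg, pow_zero, mul_one]⟩
  | succ N ih =>
    rw [pow_succ, ← mul_assoc] at hg
    obtain ⟨g', hg'⟩ := mem_range_of_mul_mem hn hm hq _ g hg
    exact ih g' hg'.symm

theorem glTranslate_pairingMap (A : GL (Fin n) K) (g : MvPolynomial (Fin m × Fin q) K) :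
    glTranslate K n m q A (pairingMap K n m q g) = pairingMap K n m q g := by
  suffices h : (glTranslate K n m q A).comp (pairingMap K n m q) = pairingMap K n m q from AlgHom.congr_fun h g
  refine MvPolynomial.algHom_ext fun ⟨i, j⟩ => ?_
  simp only [AlgHom.comp_apply, pairingMap, MvPolynomial.aeval_X, map_sum, map_mul, glTranslate,
    Sum.elim_inl, Sum.elim_inr]
  let L : Matrix (Fin m) (Fin n) (PairRing K n m q) := fun i k => X (Sum.inl (i, k))
  let R : Matrix (Fin n) (Fin q) (PairRing K n m q) := fun k j => X (Sum.inr (k, j))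
  let a : Matrix (Fin n) (Fin n) (PairRing K n m q) := (A : Matrix (Fin n) (Fin n) K).map C
  let b : Matrix (Fin n) (Fin n) (PairRing K n m q) := ((A⁻¹ : GL (Fin n) K) : Matrix (Fin n) (Fin n) K).map C
  change ((L * b) * (a * R)) i j = (L * R) i j
  rw [Matrix.mul_assoc, ← Matrix.mul_assoc b, ← Matrix.map_mul, Units.inv_mul,
    Matrix.map_one C (map_zero C) (map_one C), Matrix.one_mul]

theorem invariants_GL [Infinite K] (f : PairRing K n m q) :
    (∀ A : GL (Fin n) K, glTranslate K n m q A f = f) ↔ f ∈ (pairingMap K n m q).range := by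
  refine ⟨fun hf => ?_, ?_⟩
  swap
  · rintro ⟨g, rfl⟩ A
    exact glTranslate_pairingMap A g
  rcases Nat.eq_zero_or_pos n with rfl | hn
  · exact ⟨C (coeff 0 f), by
      rw [AlgHom.toRingHom_eq_coe, RingHom.coe_coe, pairingMap, MvPolynomial.aeval_C]
      exact (MvPolynomial.eq_C_of_isEmpty f).symm⟩
  let m' := max m n
  let q' := max q n
  let ι : (Fin m × Fin n) ⊕ (Fin n × Fin q) → (Fin m' × Fin n) ⊕ (Fin n × Fin q') :=
    Sum.map (fun p => (Fin.castLE (le_max_left m n) p.1, p.2)) (fun p => (p.1, Fin.castLE (le_max_left q n) p.2))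
  have hι : ∀ A : GL (Fin n) K, (glTranslate K n m' q' A).comp (rename ι) =
      (rename ι).comp (glTranslate K n m q A) := by
    intro A
    refine MvPolynomial.algHom_ext fun z => ?_
    rcases z with ⟨i, k⟩ | ⟨k, j⟩ <;>
      simp [glTranslate, ι, map_sum, rename_X, rename_C]
  obtain ⟨g, hg⟩ := invariants_mem_range_of_le hn (le_max_right m n) (le_max_right q n) (rename ι f) fun A => by
    rw [← AlgHom.comp_apply, hι, AlgHom.comp_apply, hf A]
  let r : PairRing K n m' q' →ₐ[K] PairRing K n m q := MvPolynomial.aeval (Sum.elim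
    (fun p : Fin m' × Fin n => if h : p.1.val < m then X (Sum.inl (⟨p.1.val, h⟩, p.2)) else 0)
    (fun p : Fin n × Fin q' => if h : p.2.val < q then X (Sum.inr (p.1, ⟨p.2.val, h⟩)) else 0))
  let r' : MvPolynomial (Fin m' × Fin q') K →ₐ[K] MvPolynomial (Fin m × Fin q) K := MvPolynomial.aeval
    fun p => if h : p.1.val < m ∧ p.2.val < q then X (⟨p.1.val, h.1⟩, ⟨p.2.val, h.2⟩) else 0
  have h1 : r.comp (rename ι) = AlgHom.id K _ := by
    refine MvPolynomial.algHom_ext fun z => ?_
    rcases z with ⟨i, k⟩ | ⟨k, j⟩ <;> simp [r, ι, rename_X]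
  have h2 : r.comp (pairingMap K n m' q') = (pairingMap K n m q).comp r' := by
    refine MvPolynomial.algHom_ext fun ⟨i, j⟩ => ?_
    by_cases hi : i.val < m <;> by_cases hj : j.val < q <;> simp [r, r', pairingMap, hi, hj]
  refine ⟨r' g, ?_⟩
  calc pairingMap K n m q (r' g) = r (pairingMap K n m' q' g) := (AlgHom.congr_fun h2 g).symm
    _ = r (rename ι f) := congrArg r hg
    _ = f := AlgHom.congr_fun h1 f

end Groth.Agent.StdMon
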