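import Groth.Prelude.Def_W4bk4grassmannianPl
import Mathlib.Data.Fintype.Pi
import Mathlib.Data.Fintype.Powerset
import Mathlib.Data.Fin.Tuple.Sort
import Mathlib.Algebra.Order.BigOperators.Group.Finset

/-!
# Standard monomial theory: the poset `Idx d n`
-/

namespace Groth.Agent.StdMon

open W4bk4grassmannian Finset

variable {d n : ℕ}

noncomputable instance : Fintype (Idx d n) := Fintype.ofFinite _

/-- The sum of the entries of an index. -/
def wt (θ : Idx d n) : ℕ := ∑ t, (θ.1 t).val

theorem wt_lt_of_lt {θ θ' : Idx d n} (h : θ < θ') : wt θ < wt θ' := by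
  obtain ⟨t, ht⟩ : ∃ t, θ.1 t < θ'.1 t := by
    by_contra hc
    push Not at hc
    exact h.not_ge fun t => hc t
  exact Finset.sum_lt_sum (fun s _ => Fin.le_def.1 (h.le s)) ⟨t, mem_univ _, Fin.lt_def.1 ht⟩

theorem wt_le (θ : Idx d n) : wt θ ≤ d * n := by
  refine (Finset.sum_le_card_nsmul _ _ n fun t _ => (θ.1 t).isLt.le).trans ?_
  simp

theorem val_le_apply (θ : Idx d n) (t : Fin d) : t.val ≤ (θ.1 t).val := by
  have key : ∀ k : ℕ, ∀ hk : k < d, k ≤ (θ.1 ⟨k, hk⟩).val := by
    intro k
    induction k with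
    | zero => intros; exact Nat.zero_le _
    | succ k ih =>
      intro hk
      have h1 := ih (by omega)
      have h2 : (θ.1 ⟨k, by omega⟩).val < (θ.1 ⟨k + 1, hk⟩).val :=
        Fin.lt_def.1 (θ.2 (show (⟨k, by omega⟩ : Fin d) < ⟨k + 1, hk⟩ from Nat.lt_succ_self k))
      omega
  exact key t.val t.isLt

/-- The smallest index `(0, 1, …, d - 1)`. -/
def bot (h : d ≤ n) : Idx d n := ⟨fun t => Fin.castLE h t, Fin.strictMono_castLE h⟩

theorem bot_le (h : d ≤ n) (θ : Idx d n) : bot h ≤ θ := fun t => Fin.le_def.2 (val_le_apply θ t)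

theorem le_of_antitone {m : ℕ} {c : Fin m → Idx d n} (hc : Antitone c) {w : Idx d n}
    (h : ∀ hm : 0 < m, c ⟨0, hm⟩ ≤ w) (k : Fin m) : c k ≤ w :=
  (hc (show (⟨0, k.pos⟩ : Fin m) ≤ k from Nat.zero_le _)).trans (h k.pos)

/-- A tuple with pairwise comparable entries can be rearranged into a chain. -/
theorem exists_antitone_perm {m : ℕ} (c : Fin m → Idx d n) (h : ∀ k l, c k ≤ c l ∨ c l ≤ c k) :
    ∃ σ : Equiv.Perm (Fin m), Antitone (c ∘ σ) := by
  refine ⟨Fin.revPerm.trans (Tuple.sort (wt ∘ c)), fun a b hab => ?_⟩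
  have hm := Tuple.monotone_sort (wt ∘ c) (Fin.rev_le_rev.2 hab)
  simp only [Function.comp_apply, Equiv.trans_apply, Fin.revPerm_apply] at hm ⊢
  rcases h (Tuple.sort (wt ∘ c) (Fin.rev b)) (Tuple.sort (wt ∘ c) (Fin.rev a)) with h1 | h1
  · exact h1
  · rcases h1.lt_or_eq with h2 | h2
    · exact absurd (wt_lt_of_lt h2) (not_lt.2 hm)
    · exact h2.ge

/-- `S11268`: a cover below `w` above a given smaller index. -/
theorem exists_divisor_ge {τ w : Idx d n} (h : τ < w) : ∃ φ ∈ divisors w, τ ≤ φ := by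
  classical
  obtain ⟨t₀, ht₀⟩ : ∃ t, τ.1 t < w.1 t := by
    by_contra hc
    push Not at hc
    exact h.not_ge fun t => hc t
  let S := univ.filter fun t => τ.1 t < w.1 t
  have hS : S.Nonempty := ⟨t₀, by simp [S, ht₀]⟩
  let t := S.min' hS
  have ht : τ.1 t < w.1 t := (mem_filter.1 (S.min'_mem hS)).2
  have hbef : ∀ s : Fin d, s < t → w.1 s = τ.1 s := by
    intro s hs
    refine le_antisymm (not_lt.1 fun hlt => ?_) (h.le s)
    exact (S.min'_le s (mem_filter.2 ⟨mem_univ _, hlt⟩)).not_gt hs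
  have ht' : (τ.1 t).val < (w.1 t).val := Fin.lt_def.1 ht
  have hwt := (w.1 t).isLt
  let f : Fin d → Fin n := Function.update w.1 t ⟨(w.1 t).val - 1, by omega⟩
  have hf : StrictMono f := by
    intro a b hab
    by_cases ha : a = t
    · subst ha
      simp only [f, Function.update_self, Function.update_of_ne hab.ne']
      have := Fin.lt_def.1 (w.2 hab)
      exact Fin.lt_def.2 (by simp; omega)
    · by_cases hb : b = t
      · subst hb
        simp only [f, Function.update_self, Function.update_of_ne ha]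
        rw [hbef a hab]
        have := Fin.lt_def.1 (τ.2 hab)
        exact Fin.lt_def.2 (by simp; omega)
      · simpa [f, Function.update_of_ne ha, Function.update_of_ne hb] using w.2 hab
  have hle : f ≤ w.1 := by
    intro s
    by_cases hs : s = t
    · subst hs; simp [f, Fin.le_def]
    · simp [f, Function.update_of_ne hs]
  have hne : f ≠ w.1 := by
    intro he
    have := congrArg Fin.val (congrFun he t)
    simp [f] at this
    omega
  refine ⟨⟨f, hf⟩, ⟨lt_of_le_of_ne hle fun he => hne (congrArg Subtype.val he), ?_⟩, ?_⟩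
  · have h1 : ∀ s : Fin d, s.val ≤ (f s).val := val_le_apply ⟨f, hf⟩
    have h2 : (w.1 t).val - t.val = ((f t).val - t.val) + 1 := by
      have := val_le_apply τ t
      simp [f]
      omega
    have h3 : ∑ s ∈ univ.erase t, ((f s).val - s.val) = ∑ s ∈ univ.erase t, ((w.1 s).val - s.val) :=
      sum_congr rfl fun s hs => by simp [f, Function.update_of_ne (mem_erase.1 hs).1]
    simp only [codeg]
    rw [← add_sum_erase univ _ (mem_univ t), ← add_sum_erase univ _ (mem_univ t), h3, h2]
    ring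
  · intro s
    by_cases hs : s = t
    · subst hs; simp [f, Fin.le_def]; omega
    · simpa [f, Function.update_of_ne hs] using h.le s

theorem sup_le' {a b c : Idx d n} (ha : a ≤ c) (hb : b ≤ c) : W4bk4grassmannian.sup a b ≤ c :=
  fun t => max_le (ha t) (hb t)

theorem le_inf_iff' {a b c : Idx d n} : a ≤ W4bk4grassmannian.inf b c ↔ a ≤ b ∧ a ≤ c :=
  ⟨fun h => ⟨fun t => (h t).trans (min_le_left _ _), fun t => (h t).trans (min_le_right _ _)⟩,
    fun h t => le_min (h.1 t) (h.2 t)⟩

end Groth.Agent.StdMon
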