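import Groth.Agent.StdMon.Span
import Mathlib.RingTheory.MvPolynomial.Homogeneous
import Mathlib.Algebra.MvPolynomial.Funext

/-!
# Standard monomials are linearly independent on the pattern matrices
-/

namespace Groth.Agent.StdMon

open W4bk4grassmannian Finset MvPolynomial

universe u

variable {d n : ℕ} {K : Type u} [CommRing K]

/-- A matrix supported in the pattern of `[v, w]`. -/
def InPattern {R : Type*} [Zero R] (v w : Idx d n) (A : Matrix (Fin n) (Fin d) R) : Prop :=
  ∀ i t, ¬ (v.1 t ≤ i ∧ i ≤ w.1 t) → A i t = 0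

/-- The generic matrix in the pattern of `[v, w]`. -/
noncomputable def pat (K : Type u) [CommRing K] (v w : Idx d n) :
    Matrix (Fin n) (Fin d) (MatRing K d n) :=
  fun i t => if v.1 t ≤ i ∧ i ≤ w.1 t then X (i, t) else 0

/-- Evaluation of Plücker polynomials at the generic pattern matrix. -/
noncomputable def evP (K : Type u) [CommRing K] (v w : Idx d n) : PlRing K d n →ₐ[K] MatRing K d n :=
  MvPolynomial.aeval fun θ : Idx d n => ((pat K v w).submatrix θ.1 id).det

theorem inPattern_pat (v w : Idx d n) : InPattern v w (pat K v w) := fun _ _ h => if_neg h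

theorem evP_X (v w θ : Idx d n) : evP K v w (X θ) = ((pat K v w).submatrix θ.1 id).det :=
  MvPolynomial.aeval_X _ _

theorem det_eq_zero_of_inPattern {R : Type*} [CommRing R] {v w : Idx d n}
    {A : Matrix (Fin n) (Fin d) R} (hA : InPattern v w A) {θ : Idx d n} (hθ : ¬ (v ≤ θ ∧ θ ≤ w)) :
    (A.submatrix θ.1 id).det = 0 := by
  classical
  rw [Matrix.det_apply]
  refine sum_eq_zero fun σ _ => ?_
  suffices h : ∃ t, ¬ (v.1 t ≤ θ.1 (σ t) ∧ θ.1 (σ t) ≤ w.1 t) by
    obtain ⟨t, ht⟩ := h
    rw [prod_eq_zero (mem_univ t) (by exact hA _ _ ht), smul_zero]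
  by_contra hc
  push Not at hc
  refine hθ ⟨fun t => ?_, fun t => ?_⟩
  · by_contra h
    have := card_le_card_of_injOn (f := σ) (s := Finset.Ici t) (t := Finset.Ioi t) (fun x hx => by
      simp only [Finset.coe_Ici, Set.mem_Ici] at hx
      simp only [Finset.coe_Ioi, Set.mem_Ioi]
      exact θ.2.lt_iff_lt.1 ((not_le.1 h).trans_le ((v.2.monotone hx).trans (hc x).1)))
      σ.injective.injOn
    rw [Fin.card_Ici, Fin.card_Ioi] at this
    have := t.isLt
    omega
  · by_contra h
    have := card_le_card_of_injOn (f := σ) (s := Finset.Iic t) (t := Finset.Iio t) (fun x hx => by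
      simp only [Finset.coe_Iic, Set.mem_Iic] at hx
      simp only [Finset.coe_Iio, Set.mem_Iio]
      exact θ.2.lt_iff_lt.1 (((hc x).2.trans (w.2.monotone hx)).trans_lt (not_le.1 h)))
      σ.injective.injOn
    rw [Fin.card_Iic, Fin.card_Iio] at this
    omega

theorem evP_X_eq_zero {v w θ : Idx d n} (hθ : ¬ (v ≤ θ ∧ θ ≤ w)) : evP K v w (X θ) = 0 := by
  rw [evP_X]; exact det_eq_zero_of_inPattern (inPattern_pat v w) hθ

theorem evP_chainMon_eq_zero {v w : Idx d n} {m : ℕ} {c : Fin m → Idx d n} {k : Fin m}
    (hk : ¬ (v ≤ c k ∧ c k ≤ w)) : evP K v w (chainMon K c) = 0 := by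
  rw [chainMon, map_prod]
  exact prod_eq_zero (mem_univ k) (evP_X_eq_zero hk)

theorem isHomogeneous_evP_X (v w θ : Idx d n) : (evP K v w (X θ)).IsHomogeneous d := by
  rw [evP_X, Matrix.det_apply]
  refine IsHomogeneous.sum _ _ _ fun σ _ => ?_
  have h : (∏ t, (pat K v w).submatrix θ.1 id (σ t) t).IsHomogeneous d := by
    have e : d = ∑ _t : Fin d, 1 := by simp
    conv => arg 2; rw [e]
    refine IsHomogeneous.prod _ _ _ fun t _ => ?_
    simp only [Matrix.submatrix_apply, pat, id]
    split_ifs
    · exact isHomogeneous_X K _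
    · exact isHomogeneous_zero _ _ _
  rcases Int.units_eq_one_or (Equiv.Perm.sign σ) with e | e <;> rw [e]
  · simpa using h
  · simpa using h.neg

theorem isHomogeneous_evP_chainMon (v w : Idx d n) {m : ℕ} (c : Fin m → Idx d n) :
    (evP K v w (chainMon K c)).IsHomogeneous (d * m) := by
  rw [chainMon, map_prod]
  have e : d * m = ∑ _k : Fin m, d := by simp [mul_comm]
  rw [e]
  exact IsHomogeneous.prod _ _ _ fun k _ => isHomogeneous_evP_X v w (c k)

/-- Specialisation to a smaller pattern. -/
noncomputable def restrict (v φ : Idx d n) : MatRing K d n →ₐ[K] MatRing K d n :=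
  MvPolynomial.aeval fun p : Fin n × Fin d => pat K v φ p.1 p.2

theorem restrict_evP {v φ w : Idx d n} (h : φ ≤ w) (f : PlRing K d n) :
    restrict v φ (evP K v w f) = evP K v φ f := by
  suffices h' : (restrict v φ).comp (evP K v w) = evP K v φ from AlgHom.congr_fun h' f
  refine MvPolynomial.algHom_ext fun θ => ?_
  rw [AlgHom.comp_apply, evP_X, evP_X, AlgHom.map_det]
  congr 1
  funext s t
  simp only [AlgHom.mapMatrix_apply, Matrix.map_apply, Matrix.submatrix_apply, id, pat]
  split_ifs with h1 h2 h2
  · simp [restrict, pat, h2]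
  · simp [restrict, pat, h2]
  · exact absurd ⟨h2.1, h2.2.trans (h t)⟩ h1
  · exact map_zero _

theorem evP_top_ne_zero [Nontrivial K] {v w : Idx d n} (hvw : v ≤ w) : evP K v w (X w) ≠ 0 := by
  classical
  intro h
  have := congrArg (MvPolynomial.eval fun p : Fin n × Fin d => if p.1 = w.1 p.2 then (1 : K) else 0) h
  rw [evP_X, RingHom.map_det, map_zero] at this
  have e : (MvPolynomial.eval fun p : Fin n × Fin d => if p.1 = w.1 p.2 then (1 : K) else 0).mapMatrix
      ((pat K v w).submatrix w.1 id) = 1 := by
    funext s t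
    simp only [RingHom.mapMatrix_apply, Matrix.map_apply, Matrix.submatrix_apply, id, pat]
    by_cases hst : s = t
    · subst hst
      have hs : v.1 s ≤ w.1 s := hvw s
      simp [hs]
    · rw [Matrix.one_apply_ne hst]
      split_ifs with h1
      · simp [w.2.injective.ne hst]
      · exact map_zero _
  rw [e, Matrix.det_one] at this
  exact one_ne_zero this

variable [IsDomain K]

theorem indep_aux : ∀ (N : ℕ) (v w : Idx d n), wt w = N → ∀ (m : ℕ) (a : (Fin m → Idx d n) → K),
    (∀ c, a c ≠ 0 → Antitone c ∧ ∀ k, v ≤ c k ∧ c k ≤ w) →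
    ∑ c, a c • evP K v w (chainMon K c) = 0 → ∀ c, a c = 0 := by
  classical
  intro N
  induction N using Nat.strong_induction_on with
  | _ N ihN =>
    intro v w hN m
    induction m with
    | zero =>
      intro a _ hsum c
      rw [Fintype.sum_subsingleton _ c] at hsum
      simp only [chainMon, univ_eq_empty, prod_empty, map_one, Algebra.smul_def, mul_one] at hsum
      exact (map_eq_zero_iff _ (C_injective (Fin n × Fin d) K)).1 hsum
    | succ m ih =>
      intro a hsupp hsum
      have hlow : ∀ c, c 0 ≠ w → a c = 0 := by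
        intro c hc0
        by_contra hne
        have hcs := hsupp c hne
        have hφ : c 0 < w := lt_of_le_of_ne (hcs.2 0).2 hc0
        let a' : (Fin (m + 1) → Idx d n) → K := fun c' =>
          if ∀ k, c' k ≤ c 0 then a c' else 0
        have h0 : ∑ c', a' c' • evP K v (c 0) (chainMon K c') = 0 := by
          have := congrArg (restrict v (c 0)) hsum
          rw [map_sum, map_zero] at this
          rw [← this]
          refine sum_congr rfl fun c' _ => ?_
          rw [map_smul, restrict_evP hφ.le]
          simp only [a']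
          split_ifs with h
          · rfl
          · push Not at h
            obtain ⟨k, hk⟩ := h
            simp [evP_chainMon_eq_zero (k := k) (fun h' => hk h'.2)]
        have := ihN (wt (c 0)) (hN ▸ wt_lt_of_lt hφ) v (c 0) rfl (m + 1) a' (fun c' hc' => by
          simp only [a', ne_eq, ite_eq_right_iff, Classical.not_imp] at hc'
          exact ⟨(hsupp c' hc'.2).1, fun k => ⟨((hsupp c' hc'.2).2 k).1, hc'.1 k⟩⟩) h0 c
        simp only [a', if_pos (fun k => hcs.1 (Fin.zero_le k))] at this
        exact hne this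
      by_cases hvw : v ≤ w
      · have hsum' : evP K v w (X w) * ∑ c', a (Fin.cons w c') • evP K v w (chainMon K c') = 0 := by
          rw [← hsum, ← (Fin.consEquiv fun _ => Idx d n).sum_comp, Fintype.sum_prod_type,
            sum_eq_single w]
          · rw [mul_sum]
            refine sum_congr rfl fun c' _ => ?_
            simp [chainMon, Fin.prod_univ_succ, Fin.consEquiv]
          · intro x _ hx
            refine sum_eq_zero fun c' _ => ?_
            rw [hlow _ (by simpa [Fin.consEquiv] using hx), zero_smul]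
          · simp
        have h' := ih (fun c' => a (Fin.cons w c')) (fun c' hc' => by
            obtain ⟨h1, h2⟩ := hsupp _ hc'
            refine ⟨fun x y hxy => ?_, fun k => by simpa using h2 k.succ⟩
            simpa using h1 (Fin.succ_le_succ_iff.2 hxy))
          ((mul_eq_zero.1 hsum').resolve_left (evP_top_ne_zero hvw))
        intro c
        by_cases hc : c 0 = w
        · rw [← Fin.cons_self_tail c, hc]; exact h' _
        · exact hlow c hc
      · intro c
        by_contra hne
        exact hvw (((hsupp c hne).2 0).1.trans ((hsupp c hne).2 0).2)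

theorem evP_comb (v w : Idx d n) (a : Tup d n →₀ K) :
    evP K v w (comb K d n a) = a.sum fun c r => r • evP K v w (chainMon K c.2) := by
  rw [comb, Finsupp.linearCombination_apply, map_finsuppSum]
  exact Finsupp.sum_congr fun c _ => map_smul _ _ _

/-- The coefficient of a standard monomial in `[v, w]` is detected on the pattern matrices. -/
theorem coeff_eq_zero (hd : 0 < d) (v w : Idx d n) (a : Tup d n →₀ K)
    (ha : ∀ c ∈ a.support, Antitone c.2) (h : evP K v w (comb K d n a) = 0)
    {m : ℕ} (c : Fin m → Idx d n) (hc : ∀ k, v ≤ c k ∧ c k ≤ w) : a ⟨m, c⟩ = 0 := by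
  classical
  let b : (Fin m → Idx d n) → K := fun c' => if ∀ k, v ≤ c' k ∧ c' k ≤ w then a ⟨m, c'⟩ else 0
  have hb := indep_aux (wt w) v w rfl m b (fun c' hc' => by
    simp only [b, ne_eq, ite_eq_right_iff, Classical.not_imp] at hc'
    exact ⟨ha ⟨m, c'⟩ (Finsupp.mem_support_iff.2 hc'.2), hc'.1⟩) ?_ c
  · simpa only [b, if_pos hc] using hb
  have h1 := congrArg (homogeneousComponent (d * m)) h
  rw [evP_comb, Finsupp.sum, map_sum, map_zero] at h1
  rw [← h1]
  have h2 : ∀ x ∈ a.support, homogeneousComponent (d * m) (a x • evP K v w (chainMon K x.2)) =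
      if x.1 = m then a x • evP K v w (chainMon K x.2) else 0 := by
    intro x _
    rw [map_smul, homogeneousComponent_of_mem (isHomogeneous_evP_chainMon v w x.2)]
    have : d * m = d * x.1 ↔ x.1 = m := by
      rw [Nat.mul_left_cancel_iff hd]; exact eq_comm
    simp only [this]
    split_ifs <;> simp
  rw [sum_congr rfl h2, ← sum_filter]
  have h3 : ∀ c' : Fin m → Idx d n, b c' • evP K v w (chainMon K c') =
      a ⟨m, c'⟩ • evP K v w (chainMon K c') := by
    intro c'
    simp only [b]
    split_ifs with hh
    · rfl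
    · push Not at hh
      obtain ⟨k, hk⟩ := hh
      rw [evP_chainMon_eq_zero (k := k) (fun h' => hk h'.1 h'.2), smul_zero, smul_zero]
  rw [sum_congr rfl fun c' _ => h3 c']
  refine (sum_bij_ne_zero (fun c' _ _ => (⟨m, c'⟩ : Tup d n)) ?_ ?_ ?_ ?_)
  · intro c' _ hne
    refine mem_filter.2 ⟨Finsupp.mem_support_iff.2 fun h0 => hne (by rw [h0, zero_smul]), rfl⟩
  · intro x _ _ y _ _ hxy
    exact eq_of_heq (Sigma.mk.inj_iff.1 hxy).2
  · rintro ⟨x1, x2⟩ hx hne
    obtain rfl : x1 = m := (mem_filter.1 hx).2
    exact ⟨x2, mem_univ _, hne, rfl⟩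
  · intros; rfl

/-- Pattern points detect `evP`. -/
theorem evP_eq_zero_of_points [Infinite K] {v w : Idx d n} {f : PlRing K d n}
    (h : ∀ A : Matrix (Fin n) (Fin d) K, InPattern v w A → evalMinors K d n A f = 0) :
    evP K v w f = 0 := by
  classical
  refine MvPolynomial.funext fun x => ?_
  rw [map_zero]
  let A : Matrix (Fin n) (Fin d) K := fun i t => if v.1 t ≤ i ∧ i ≤ w.1 t then x (i, t) else 0
  rw [← h A fun i t hit => if_neg hit]
  suffices h' : (MvPolynomial.aeval x : MatRing K d n →ₐ[K] K).comp (evP K v w) = evalMinors K d n A from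
    (by simpa [MvPolynomial.aeval_eq_eval] using AlgHom.congr_fun h' f)
  refine MvPolynomial.algHom_ext fun θ => ?_
  rw [AlgHom.comp_apply, evP_X, evalMinors, MvPolynomial.aeval_X, AlgHom.map_det]
  congr 1
  funext s t
  simp only [AlgHom.mapMatrix_apply, Matrix.map_apply, Matrix.submatrix_apply, id, pat, A]
  split_ifs <;> simp

end Groth.Agent.StdMon
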