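import Groth.Agent.StdMon.GradedFree

/-!
# Gluing and lifting order-free regular sequences
-/

namespace Groth.Agent.StdMon

open Finset

universe u v

variable {S : Type u} [CommRing S]

/-- The ideal of a set of members of a sequence. -/
def theta (θ : ℕ → S) (F : Finset ℕ) : Ideal S := Ideal.span (θ '' ↑F)

theorem theta_empty (θ : ℕ → S) : theta θ ∅ = ⊥ := by simp [theta]

theorem theta_insert (θ : ℕ → S) (j : ℕ) (F : Finset ℕ) :
    theta θ (insert j F) = Ideal.span {θ j} ⊔ theta θ F := by
  rw [theta, theta, coe_insert, Set.image_insert_eq, Ideal.span_insert]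

theorem mem_sup_mono {I J C : Ideal S} (h : I ≤ J) {x : S} (hx : x ∈ I ⊔ C) : x ∈ J ⊔ C :=
  (sup_le_sup_right h C : I ⊔ C ≤ J ⊔ C) hx

theorem mem_theta_insert {θ : ℕ → S} {I : Ideal S} {j : ℕ} {F : Finset ℕ} {x : S}
    (h : x ∈ I ⊔ theta θ (insert j F)) : ∃ a ∈ I ⊔ theta θ F, ∃ g, x = a + θ j * g := by
  rw [theta_insert, sup_comm (Ideal.span {θ j}), ← sup_assoc] at h
  obtain ⟨a, ha, b, hb, rfl⟩ := Submodule.mem_sup.1 h
  obtain ⟨g, rfl⟩ := Ideal.mem_span_singleton'.1 hb
  exact ⟨a, ha, g, by rw [mul_comm]⟩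

theorem mem_sup_theta_insert {θ : ℕ → S} {I : Ideal S} {j : ℕ} {F : Finset ℕ} {a : S}
    (ha : a ∈ I ⊔ theta θ F) (g : S) : a + θ j * g ∈ I ⊔ theta θ (insert j F) := by
  rw [theta_insert, sup_comm (Ideal.span {θ j}), ← sup_assoc]
  exact Submodule.add_mem_sup ha (Ideal.mul_mem_right _ _ (Ideal.mem_span_singleton_self _))

/-- `θ 0, …, θ (e - 1)` form a regular sequence on `S/I` in any order. -/
def Reg (θ : ℕ → S) (I : Ideal S) (e : ℕ) : Prop :=
  ∀ F : Finset ℕ, F ⊆ range e → ∀ i < e, i ∉ F → ∀ f, θ i * f ∈ I ⊔ theta θ F → f ∈ I ⊔ theta θ F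

theorem reg_top (θ : ℕ → S) (e : ℕ) : Reg θ ⊤ e := fun _ _ _ _ _ _ _ => by simp

theorem Reg.glue {θ : ℕ → S} {I J : Ideal S} {e : ℕ} (hI : Reg θ I (e + 1)) (hJ : Reg θ J (e + 1))
    (hIJ : Reg θ (I ⊔ J) e) (hmem : θ e ∈ I ⊔ J) : Reg θ (I ⊓ J) (e + 1) := by
  have key : ∀ F : Finset ℕ, F ⊆ range e → ∀ x, x ∈ I ⊔ theta θ F → x ∈ J ⊔ theta θ F →
      x ∈ (I ⊓ J) ⊔ theta θ F := by
    intro F
    induction F using Finset.induction with
    | empty => simp +contextual [theta_empty]
    | @insert j F hj ih =>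
      intro hF x hxI hxJ
      obtain ⟨a, ha, g, rfl⟩ := mem_theta_insert hxI
      obtain ⟨b, hb, g', hbg⟩ := mem_theta_insert hxJ
      have hsub : F ⊆ range e := (subset_insert j F).trans hF
      have h1 : θ j * (g - g') ∈ (I ⊔ J) ⊔ theta θ F := by
        rw [show θ j * (g - g') = b - a by rw [mul_sub, sub_eq_sub_iff_add_eq_add, add_comm, hbg]]
        exact sub_mem (mem_sup_mono le_sup_right hb) (mem_sup_mono le_sup_left ha)
      have h2 := hIJ F hsub j (mem_range.1 (hF (mem_insert_self j F))) hj _ h1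
      rw [show (I ⊔ J) ⊔ theta θ F = (I ⊔ theta θ F) ⊔ (J ⊔ theta θ F) by
        rw [sup_sup_sup_comm, sup_idem]] at h2
      obtain ⟨p, hp, q, hq, hpq⟩ := Submodule.mem_sup.1 h2
      have h3 : a + θ j * g - θ j * (g - p) ∈ (I ⊓ J) ⊔ theta θ F := by
        refine ih hsub _ ?_ ?_
        · rw [show a + θ j * g - θ j * (g - p) = a + θ j * p by ring]
          exact add_mem ha (Ideal.mul_mem_left _ _ hp)
        · rw [hbg, show g - p = g' + q by rw [sub_eq_iff_eq_add, add_assoc, add_comm q, hpq, add_sub_cancel],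
            show b + θ j * g' - θ j * (g' + q) = b - θ j * q by ring]
          exact sub_mem hb (Ideal.mul_mem_left _ _ hq)
      have := mem_sup_theta_insert (j := j) h3 (g - p)
      rwa [sub_add_cancel] at this
  have base : ∀ F : Finset ℕ, F ⊆ range e → ∀ i < e + 1, i ∉ F → ∀ f,
      θ i * f ∈ (I ⊓ J) ⊔ theta θ F → f ∈ (I ⊓ J) ⊔ theta θ F := fun F hF i hi hiF f hf =>
    key F hF f (hI F (hF.trans (range_subset_range.2 e.le_succ)) i hi hiF f (mem_sup_mono inf_le_left hf))
      (hJ F (hF.trans (range_subset_range.2 e.le_succ)) i hi hiF f (mem_sup_mono inf_le_right hf))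
  intro F hF i hi hiF f hf
  by_cases he : e ∈ F
  · obtain ⟨G, heG, rfl⟩ : ∃ G, e ∉ G ∧ F = insert e G :=
      ⟨F.erase e, notMem_erase e F, (insert_erase he).symm⟩
    have hG : G ⊆ range e := fun x hx => by
      have := mem_range.1 (hF (mem_insert_of_mem hx))
      have : x ≠ e := fun h => heG (h ▸ hx)
      exact mem_range.2 (by omega)
    have hie : i < e := by
      have : i ≠ e := fun h => hiF (h ▸ mem_insert_self _ _)
      omega
    have hiG : i ∉ G := fun h => hiF (mem_insert_of_mem h)
    obtain ⟨a, ha, h, hah⟩ := mem_theta_insert hf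
    have h1 : θ e * h ∈ (I ⊓ J) ⊔ theta θ (insert i G) := by
      rw [show θ e * h = -a + θ i * f by rw [hah]; ring]
      exact mem_sup_theta_insert (neg_mem ha) f
    have h2 := base (insert i G) (insert_subset (mem_range.2 hie) hG) e (by omega)
      (by simp only [mem_insert]; rintro (h | h) <;> [omega; exact heG h]) h h1
    obtain ⟨a', ha', h', rfl⟩ := mem_theta_insert h2
    have h3 : θ i * (f - θ e * h') ∈ (I ⊓ J) ⊔ theta θ G := by
      rw [show θ i * (f - θ e * h') = a + θ e * a' by rw [mul_sub, hah]; ring]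
      exact add_mem ha (Ideal.mul_mem_left _ _ ha')
    have := mem_sup_theta_insert (j := e) (base G hG i (by omega) hiG _ h3) h'
    rwa [sub_add_cancel] at this
  · refine base F (fun x hx => ?_) i hi hiF f hf
    have := mem_range.1 (hF hx)
    have : x ≠ e := fun h => he (h ▸ hx)
    exact mem_range.2 (by omega)

open MvPolynomial in
theorem Reg.lift {K : Type u} [Field K] {σ : Type v} {θ : ℕ → MvPolynomial σ K}
    (hθ : ∀ i, (θ i).IsHomogeneous 1) {I : Ideal (MvPolynomial σ K)} {e : ℕ} (hI : IsHomog I)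
    (hreg : ∀ f, θ e * f ∈ I → f ∈ I) (h : Reg θ (I ⊔ Ideal.span {θ e}) e) : Reg θ I (e + 1) := by
  have hext : ∀ F : Finset ℕ, (I ⊔ Ideal.span {θ e}) ⊔ theta θ F = I ⊔ theta θ (insert e F) := fun F => by
    rw [theta_insert, sup_assoc]
  have hhom : ∀ F : Finset ℕ, IsHomog (I ⊔ theta θ F) := by
    intro F
    induction F using Finset.induction with
    | empty => simpa [theta_empty] using hI
    | @insert j F hj ih =>
      rw [theta_insert, sup_comm (Ideal.span {θ j}), ← sup_assoc]
      exact ih.sup_span (hθ j)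
  have claimA : ∀ F : Finset ℕ, F ⊆ range e → ∀ g, θ e * g ∈ I ⊔ theta θ F → g ∈ I ⊔ theta θ F := by
    intro F
    induction F using Finset.induction with
    | empty => simpa [theta_empty] using hreg
    | @insert j F hj ih =>
      intro hF g hg
      have hsub : F ⊆ range e := (subset_insert j F).trans hF
      obtain ⟨a, ha, h', hah⟩ := mem_theta_insert hg
      have h1 : θ j * h' ∈ (I ⊔ Ideal.span {θ e}) ⊔ theta θ F := by
        rw [hext, show θ j * h' = -a + θ e * g by rw [hah]; ring]
        exact mem_sup_theta_insert (neg_mem ha) g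
      have h2 := h F hsub j (mem_range.1 (hF (mem_insert_self j F))) hj _ h1
      rw [hext] at h2
      obtain ⟨a', ha', h'', rfl⟩ := mem_theta_insert h2
      have h3 : g - θ j * h'' ∈ I ⊔ theta θ F := by
        refine ih hsub _ ?_
        rw [show θ e * (g - θ j * h'') = a + θ j * a' by rw [mul_sub, hah]; ring]
        exact add_mem ha (Ideal.mul_mem_left _ _ ha')
      have := mem_sup_theta_insert (j := j) h3 h''
      rwa [sub_add_cancel] at this
  have claimB : ∀ F : Finset ℕ, F ⊆ range e → ∀ i < e, i ∉ F →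
      ∀ f, θ i * f ∈ I ⊔ theta θ F → f ∈ I ⊔ theta θ F := by
    intro F hF i hi hiF
    have key : ∀ k f, f.IsHomogeneous k → θ i * f ∈ I ⊔ theta θ F → f ∈ I ⊔ theta θ F := by
      intro k
      induction k using Nat.strong_induction_on with
      | _ k ih =>
      intro f hf hif
      have h1 := h F hF i hi hiF f (mem_sup_mono le_sup_left hif)
      rw [hext] at h1
      obtain ⟨a, ha, g, hag⟩ := mem_theta_insert h1
      have h2 := congrArg (homogeneousComponent k) hag
      rw [homogeneousComponent_eq_self hf, map_add] at h2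
      rcases Nat.eq_zero_or_pos k with rfl | hk
      · rw [homogeneousComponent_zero (φ := θ e * g), show coeff 0 (θ e * g) = constantCoeff (θ e) * constantCoeff g
          from map_mul constantCoeff (θ e) g, constantCoeff_eq, (hθ e).coeff_eq_zero (by simp), zero_mul, C_0,
          add_zero] at h2
        rw [h2]
        exact hhom F a ha 0
      · rcases homogeneousComponent_linear_mul (hθ e) g k with h3 | h3 <;> rw [h3] at h2
        · rw [h2, add_zero]
          exact hhom F a ha k
        · rw [h2] at hif ⊢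
          refine add_mem (hhom F a ha k) (Ideal.mul_mem_left _ _ ?_)
          refine ih (k - 1) (by omega) _ (homogeneousComponent_isHomogeneous _ g) (claimA F hF _ ?_)
          rw [mul_left_comm]
          rw [mul_add] at hif
          simpa using sub_mem hif (Ideal.mul_mem_left _ (θ i) (hhom F a ha k))
    intro f hif
    rw [← sum_homogeneousComponent f]
    refine Submodule.sum_mem _ fun k _ => key k _ (homogeneousComponent_isHomogeneous k f) ?_
    have h4 := hhom F _ hif (k + 1)
    have : homogeneousComponent (k + 1) (θ i * f) = θ i * homogeneousComponent k f := by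
      conv_lhs => rw [← sum_homogeneousComponent f, mul_sum, map_sum]
      rw [sum_congr rfl fun j _ => homogeneousComponent_of_mem
        (show θ i * homogeneousComponent j f ∈ homogeneousSubmodule σ K (1 + j) from
          (hθ i).mul (homogeneousComponent_isHomogeneous j f))]
      rw [sum_eq_single k]
      · rw [if_pos (by omega)]
      · intro j _ hj
        rw [if_neg (by omega)]
      · intro hj
        rw [homogeneousComponent_eq_zero, mul_zero, ite_self]
        simp only [mem_range, not_lt] at hj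
        omega
    rwa [this] at h4
  intro F hF i hi hiF f hf
  by_cases he : e ∈ F
  · have hie : i < e := by
      have : i ≠ e := fun h => hiF (h ▸ he)
      omega
    have hG : F.erase e ⊆ range e := fun x hx => by
      rw [mem_erase] at hx
      have := mem_range.1 (hF hx.2)
      exact mem_range.2 (by omega)
    rw [← insert_erase he, ← hext] at hf ⊢
    exact h _ hG i hie (fun h => hiF (mem_of_mem_erase h)) f hf
  · have hG : F ⊆ range e := fun x hx => by
      have := mem_range.1 (hF hx)
      have : x ≠ e := fun h => he (h ▸ hx)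
      exact mem_range.2 (by omega)
    rcases Nat.lt_succ_iff_lt_or_eq.1 hi with hie | rfl
    · exact claimB F hG i hie hiF f hf
    · exact claimA F hG f hf

theorem Reg.regSeq {K : Type u} [Field K] {σ : Type v} {θ : ℕ → MvPolynomial σ K}
    {I : Ideal (MvPolynomial σ K)} {e : ℕ} (h : Reg θ I e) : RegSeq I fun i : Fin e => θ i := by
  classical
  intro i f hf
  have hset : (fun j : Fin e => θ j) '' Set.Ioi i = θ '' ↑((Finset.Ioi i).map Fin.valEmbedding) := by
    rw [coe_map, Set.image_image, coe_Ioi]
    rfl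
  rw [hset] at hf ⊢
  refine h ((Finset.Ioi i).map Fin.valEmbedding) (fun x hx => ?_) i i.2 (fun hx => ?_) f hf
  · obtain ⟨j, -, rfl⟩ := Finset.mem_map.1 hx
    exact mem_range.2 j.2
  · obtain ⟨j, hj, hji⟩ := Finset.mem_map.1 hx
    exact (Finset.mem_Ioi.1 hj).ne' (Fin.ext hji)

end Groth.Agent.StdMon
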