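import Groth.Agent.StdMon.Basic
import Mathlib.GroupTheory.Perm.Fin
import Mathlib.LinearAlgebra.Multilinear.Basic
import Mathlib.LinearAlgebra.StdBasis

/-!
# The shuffle relations hold for the maximal minors of any matrix
-/

namespace Groth.Agent.StdMon

open W4bk4grassmannian Finset

universe u

variable {d n : ℕ}

section Shuffle

variable {R : Type u} [CommRing R] (r : Fin d)

/-- Rows of the first determinant of a shuffle term. -/
def shI (v : Fin (d + 1) → Fin d → R) (a : Fin d → Fin d → R) (A : Finset (Fin (d + 1)))
    (hA : A.card = r.val + 1) : Matrix (Fin d) (Fin d) R :=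
  fun t => if h : t.val ≤ r.val then v (A.orderEmbOfFin hA ⟨t.val, by omega⟩) else a t

theorem card_compl_eq (A : Finset (Fin (d + 1))) (hA : A.card = r.val + 1) : Aᶜ.card = d - r.val := by
  rw [Finset.card_compl, hA, Fintype.card_fin]; omega

/-- Rows of the second determinant of a shuffle term. -/
def shJ (v : Fin (d + 1) → Fin d → R) (b : Fin d → Fin d → R) (A : Finset (Fin (d + 1)))
    (hA : A.card = r.val + 1) : Matrix (Fin d) (Fin d) R :=
  fun t => if h : t.val < r.val then b t
    else v (Aᶜ.orderEmbOfFin (card_compl_eq r A hA) ⟨t.val - r.val, by have := t.isLt; omega⟩)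

/-- A shuffle term. -/
def term (v : Fin (d + 1) → Fin d → R) (a b : Fin d → Fin d → R) (A : Finset (Fin (d + 1))) : R :=
  if hA : A.card = r.val + 1 then
    (-1 : R) ^ shuffleSign r A * (shI r v a A hA).det * (shJ r v b A hA).det
  else 0

theorem shI_update_of_mem (v : Fin (d + 1) → Fin d → R) (a : Fin d → Fin d → R)
    (A : Finset (Fin (d + 1))) (hA : A.card = r.val + 1) (k : Fin (d + 1)) (hk : k ∈ A) :
    ∃ s : Fin d, ∀ x, shI r (Function.update v k x) a A hA = (shI r v a A hA).updateRow s x := by
  obtain ⟨p, hp⟩ : k ∈ Set.range (A.orderEmbOfFin hA) := by rw [range_orderEmbOfFin]; exact hk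
  refine ⟨⟨p.val, by omega⟩, fun x => funext fun t => ?_⟩
  change _ = Function.update (β := fun _ => Fin d → R) _ _ x t
  simp only [shI]
  by_cases ht : t = ⟨p.val, by omega⟩
  · subst ht
    rw [Function.update_self, dif_pos (Nat.lt_succ_iff.1 p.isLt)]
    simp [hp]
  · rw [Function.update_of_ne ht]
    unfold shI
    split_ifs with h
    · rw [Function.update_of_ne]
      rw [← hp]
      exact fun he => ht (Fin.ext (congrArg Fin.val ((A.orderEmbOfFin hA).injective he) :))
    · rfl

theorem shI_update_of_not_mem (v : Fin (d + 1) → Fin d → R) (a : Fin d → Fin d → R)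
    (A : Finset (Fin (d + 1))) (hA : A.card = r.val + 1) (k : Fin (d + 1)) (hk : k ∉ A) (x : Fin d → R) :
    shI r (Function.update v k x) a A hA = shI r v a A hA := by
  funext t
  simp only [shI]
  split_ifs with h
  · rw [Function.update_of_ne]
    exact fun he => hk (he ▸ Finset.orderEmbOfFin_mem A hA _)
  · rfl

theorem shJ_update_of_not_mem (v : Fin (d + 1) → Fin d → R) (b : Fin d → Fin d → R)
    (A : Finset (Fin (d + 1))) (hA : A.card = r.val + 1) (k : Fin (d + 1)) (hk : k ∉ A) :
    ∃ s : Fin d, ∀ x, shJ r (Function.update v k x) b A hA = (shJ r v b A hA).updateRow s x := by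
  obtain ⟨p, hp⟩ : k ∈ Set.range (Aᶜ.orderEmbOfFin (card_compl_eq r A hA)) := by
    rw [range_orderEmbOfFin]; exact Finset.mem_coe.2 (Finset.mem_compl.2 hk)
  have hlt := p.isLt
  refine ⟨⟨r.val + p.val, by omega⟩, fun x => funext fun t => ?_⟩
  change _ = Function.update (β := fun _ => Fin d → R) _ _ x t
  simp only [shJ]
  by_cases ht : t = ⟨r.val + p.val, by omega⟩
  · subst ht
    rw [Function.update_self, dif_neg (by simp)]
    simp [hp]
  · rw [Function.update_of_ne ht]
    unfold shJ
    split_ifs with h
    · rfl
    · rw [Function.update_of_ne]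
      rw [← hp]
      intro he
      have := congrArg Fin.val ((Aᶜ.orderEmbOfFin _).injective he)
      simp only at this
      exact ht (Fin.ext (by simp only; omega))

theorem shJ_update_of_mem (v : Fin (d + 1) → Fin d → R) (b : Fin d → Fin d → R)
    (A : Finset (Fin (d + 1))) (hA : A.card = r.val + 1) (k : Fin (d + 1)) (hk : k ∈ A) (x : Fin d → R) :
    shJ r (Function.update v k x) b A hA = shJ r v b A hA := by
  funext t
  simp only [shJ]
  split_ifs with h
  · rfl
  · rw [Function.update_of_ne]
    intro he
    exact Finset.mem_compl.1 (he ▸ Finset.orderEmbOfFin_mem Aᶜ (card_compl_eq r A hA) _) hk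

theorem term_update_add (v : Fin (d + 1) → Fin d → R) (a b : Fin d → Fin d → R)
    (A : Finset (Fin (d + 1))) (k : Fin (d + 1)) (x y : Fin d → R) :
    term r (Function.update v k (x + y)) a b A =
      term r (Function.update v k x) a b A + term r (Function.update v k y) a b A := by
  unfold term
  split_ifs with hA
  · by_cases hk : k ∈ A
    · obtain ⟨s, hs⟩ := shI_update_of_mem r v a A hA k hk
      simp only [hs, shJ_update_of_mem r v b A hA k hk, Matrix.det_updateRow_add]
      ring
    · obtain ⟨s, hs⟩ := shJ_update_of_not_mem r v b A hA k hk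
      simp only [hs, shI_update_of_not_mem r v a A hA k hk, Matrix.det_updateRow_add]
      ring
  · simp

theorem term_update_smul (v : Fin (d + 1) → Fin d → R) (a b : Fin d → Fin d → R)
    (A : Finset (Fin (d + 1))) (k : Fin (d + 1)) (c : R) (x : Fin d → R) :
    term r (Function.update v k (c • x)) a b A = c • term r (Function.update v k x) a b A := by
  unfold term
  split_ifs with hA
  · by_cases hk : k ∈ A
    · obtain ⟨s, hs⟩ := shI_update_of_mem r v a A hA k hk
      simp only [hs, shJ_update_of_mem r v b A hA k hk, Matrix.det_updateRow_smul, smul_eq_mul]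
      ring
    · obtain ⟨s, hs⟩ := shJ_update_of_not_mem r v b A hA k hk
      simp only [hs, shI_update_of_not_mem r v a A hA k hk, Matrix.det_updateRow_smul, smul_eq_mul]
      ring
  · simp

theorem swap_lt_swap {m : ℕ} {p q x y : Fin m} (hpq : q.val = p.val + 1) (hxy : x < y)
    (h : ¬ (x = p ∧ y = q)) : Equiv.swap p q x < Equiv.swap p q y := by
  rw [Fin.lt_def] at hxy ⊢
  simp only [Equiv.swap_apply_def]
  simp only [Fin.ext_iff] at h ⊢
  split_ifs <;> omega

theorem orderEmb_image_swap {m l : ℕ} (A : Finset (Fin m)) {p q : Fin m} (hpq : q.val = p.val + 1)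
    (h : ¬ (p ∈ A ∧ q ∈ A)) (hA : A.card = l) (hA' : (A.image (Equiv.swap p q)).card = l) (t : Fin l) :
    (A.image (Equiv.swap p q)).orderEmbOfFin hA' t = Equiv.swap p q (A.orderEmbOfFin hA t) := by
  refine congrFun (orderEmbOfFin_unique hA' (f := fun t => Equiv.swap p q (A.orderEmbOfFin hA t))
    (fun t => mem_image_of_mem _ (orderEmbOfFin_mem A hA t)) fun x y hxy => ?_).symm t
  refine swap_lt_swap hpq ((A.orderEmbOfFin hA).strictMono hxy) fun ⟨h1, h2⟩ => h ⟨?_, ?_⟩
  · exact h1 ▸ orderEmbOfFin_mem A hA x
  · exact h2 ▸ orderEmbOfFin_mem A hA y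

theorem sum_range_le_sum_card {m l : ℕ} (A : Finset (Fin m)) (hA : A.card = l) :
    ∑ i ∈ Finset.range l, i ≤ A.sum fun a => a.val := by
  have e : A.sum (fun a => a.val) = ∑ t : Fin l, (A.orderEmbOfFin hA t).val := by
    conv_lhs => rw [← image_orderEmbOfFin_univ A hA]
    rw [sum_image fun x _ y _ h => (A.orderEmbOfFin hA).injective h]
  rw [e, ← Fin.sum_univ_eq_sum_range (fun i => i)]
  exact sum_le_sum fun t _ => val_le_apply ⟨_, (A.orderEmbOfFin hA).strictMono⟩ t

/-- The signed sum over the shuffles as a multilinear map. -/
noncomputable def shuffleMul (a b : Fin d → Fin d → R) :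
    MultilinearMap R (fun _ : Fin (d + 1) => Fin d → R) R where
  toFun v := ∑ A, term r v a b A
  map_update_add' {inst} v k x y := by
    obtain rfl := Subsingleton.elim inst (instDecidableEqFin _)
    simp only [term_update_add, sum_add_distrib]
  map_update_smul' {inst} v k c x := by
    obtain rfl := Subsingleton.elim inst (instDecidableEqFin _)
    simp only [term_update_smul, smul_sum]

theorem shuffleMul_adjacent (a b : Fin d → Fin d → R) (v : Fin (d + 1) → Fin d → R) (p q : Fin (d + 1))
    (hpq : q.val = p.val + 1) (hv : v p = v q) : shuffleMul r a b v = 0 := by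
  classical
  change ∑ A, term r v a b A = 0
  have hne : p ≠ q := fun he => by rw [he] at hpq; omega
  have hσv : ∀ x, v (Equiv.swap p q x) = v x := by
    intro x
    rw [Equiv.swap_apply_def]
    split_ifs with h1 h2
    · rw [h1, hv]
    · rw [h2, hv]
    · rfl
  have hzero : ∀ A : Finset (Fin (d + 1)), (p ∈ A ↔ q ∈ A) → term r v a b A = 0 := by
    intro A hiff
    unfold term
    split_ifs with hA
    · by_cases hp : p ∈ A
      · have hq := hiff.1 hp
        obtain ⟨s, hs⟩ : p ∈ Set.range (A.orderEmbOfFin hA) := by rw [range_orderEmbOfFin]; exact hp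
        obtain ⟨t, ht⟩ : q ∈ Set.range (A.orderEmbOfFin hA) := by rw [range_orderEmbOfFin]; exact hq
        have hst : s ≠ t := fun he => hne (by rw [← hs, ← ht, he])
        rw [Matrix.det_zero_of_row_eq (i := ⟨s.val, by omega⟩) (j := ⟨t.val, by omega⟩)
          (M := shI r v a A hA) (fun he => hst (Fin.ext (congrArg Fin.val he :))) ?_]
        · ring
        · funext c
          simp [shI, Nat.lt_succ_iff.1 s.isLt, Nat.lt_succ_iff.1 t.isLt, hs, ht, hv]
      · have hq : q ∉ A := fun hq => hp (hiff.2 hq)
        obtain ⟨s, hs⟩ : p ∈ Set.range (Aᶜ.orderEmbOfFin (card_compl_eq r A hA)) := by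
          rw [range_orderEmbOfFin]; exact mem_coe.2 (mem_compl.2 hp)
        obtain ⟨t, ht⟩ : q ∈ Set.range (Aᶜ.orderEmbOfFin (card_compl_eq r A hA)) := by
          rw [range_orderEmbOfFin]; exact mem_coe.2 (mem_compl.2 hq)
        have hst : s ≠ t := fun he => hne (by rw [← hs, ← ht, he])
        have h1 := s.isLt
        have h2 := t.isLt
        rw [Matrix.det_zero_of_row_eq (i := ⟨r.val + s.val, by omega⟩) (j := ⟨r.val + t.val, by omega⟩)
          (M := shJ r v b A hA) (fun he => hst (Fin.ext (by have := congrArg Fin.val he; simp at this; omega))) ?_]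
        · ring
        · funext c
          simp [shJ, hs, ht, hv]
    · rfl
  refine sum_ninvolution (fun A => A.image (Equiv.swap p q)) (fun A => ?_) (fun A hA he => ?_)
    (fun A => mem_univ _) (fun A => ?_)
  · by_cases hiff : p ∈ A ↔ q ∈ A
    · have hfix : A.image (Equiv.swap p q) = A := by
        ext x
        simp only [mem_image, Equiv.swap_apply_def]
        constructor
        · rintro ⟨y, hy, rfl⟩
          split_ifs with h1 h2
          · exact hiff.1 (h1 ▸ hy)
          · exact hiff.2 (h2 ▸ hy)
          · exact hy
        · intro hx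
          refine ⟨Equiv.swap p q x, ?_, ?_⟩
          · rw [Equiv.swap_apply_def]
            split_ifs with h1 h2
            · exact hiff.1 (h1 ▸ hx)
            · exact hiff.2 (h2 ▸ hx)
            · exact hx
          · rw [← Equiv.swap_apply_def, Equiv.swap_apply_self]
      rw [hfix, hzero A hiff, add_zero]
    · have hnb : ¬ (p ∈ A ∧ q ∈ A) := fun h => hiff ⟨fun _ => h.2, fun _ => h.1⟩
      have hnbc : ¬ (p ∈ Aᶜ ∧ q ∈ Aᶜ) := fun h =>
        hiff ⟨fun hp => absurd hp (mem_compl.1 h.1), fun hq => absurd hq (mem_compl.1 h.2)⟩
      unfold term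
      by_cases hA : A.card = r.val + 1
      · have hA' : (A.image (Equiv.swap p q)).card = r.val + 1 := by
          rw [card_image_of_injective _ (Equiv.injective _), hA]
        rw [dif_pos hA, dif_pos hA']
        have hI : shI r v a (A.image (Equiv.swap p q)) hA' = shI r v a A hA := by
          funext t
          simp only [shI]
          split_ifs with h
          · rw [orderEmb_image_swap A hpq hnb hA hA', hσv]
          · rfl
        have hJ : shJ r v b (A.image (Equiv.swap p q)) hA' = shJ r v b A hA := by
          funext t
          have hc : (A.image (Equiv.swap p q))ᶜ = Aᶜ.image (Equiv.swap p q) := by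
            ext x
            simp only [mem_compl, mem_image]
            exact ⟨fun hx => ⟨Equiv.swap p q x, fun hm => hx ⟨_, hm, Equiv.swap_apply_self p q x⟩,
              Equiv.swap_apply_self p q x⟩, fun ⟨y, hy, e⟩ ⟨z, hz, e'⟩ =>
              hy ((Equiv.swap p q).injective (e'.trans e.symm) ▸ hz)⟩
          simp only [shJ]
          split_ifs with h
          · rfl
          · simp only [hc]
            rw [orderEmb_image_swap Aᶜ hpq hnbc (card_compl_eq r A hA) _, hσv]
        rw [hI, hJ]
        have hc : r.val * (r.val + 1) / 2 = ∑ i ∈ Finset.range (r.val + 1), i := by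
          rw [sum_range_id, Nat.add_sub_cancel, mul_comm]
        have h1 := sum_range_le_sum_card A hA
        have h2 := sum_range_le_sum_card _ hA'
        have hsum : (A.image (Equiv.swap p q)).sum (fun x => x.val) + 1 = A.sum (fun x => x.val) ∨
            A.sum (fun x => x.val) + 1 = (A.image (Equiv.swap p q)).sum (fun x => x.val) := by
          rw [sum_image fun x _ y _ h => (Equiv.swap p q).injective h]
          by_cases hp : p ∈ A
          · right
            have hq : q ∉ A := fun hq => hnb ⟨hp, hq⟩
            rw [← add_sum_erase A _ hp, ← add_sum_erase A _ hp, Equiv.swap_apply_left, hpq]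
            have e2 : ∀ x ∈ A.erase p, (Equiv.swap p q x).val = x.val := fun x hx => by
              rw [Equiv.swap_apply_of_ne_of_ne (mem_erase.1 hx).1
                (fun he : x = q => hq (he ▸ (mem_erase.1 hx).2))]
            rw [sum_congr rfl e2]
            ring
          · left
            have hq : q ∈ A := by
              by_contra hq
              exact hiff ⟨fun h => absurd h hp, fun h => absurd h hq⟩
            rw [← add_sum_erase A _ hq, ← add_sum_erase A _ hq, Equiv.swap_apply_right, hpq]
            have e2 : ∀ x ∈ A.erase q, (Equiv.swap p q x).val = x.val := fun x hx => by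
              rw [Equiv.swap_apply_of_ne_of_ne (fun he : x = p => hp (he ▸ (mem_erase.1 hx).2))
                (mem_erase.1 hx).1]
            rw [sum_congr rfl e2]
            ring
        rcases hsum with e | e
        · have : shuffleSign r A = shuffleSign r (A.image (Equiv.swap p q)) + 1 := by
            simp only [shuffleSign, hc]; omega
          rw [this, pow_succ]; ring
        · have : shuffleSign r (A.image (Equiv.swap p q)) = shuffleSign r A + 1 := by
            simp only [shuffleSign, hc]; omega
          rw [this, pow_succ]; ring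
      · have hA' : ¬ (A.image (Equiv.swap p q)).card = r.val + 1 := by
          rwa [card_image_of_injective _ (Equiv.injective _)]
        rw [dif_neg hA, dif_neg hA', add_zero]
  · by_cases hiff : p ∈ A ↔ q ∈ A
    · exact hA (hzero A hiff)
    · apply hiff
      constructor
      · intro hp
        have := mem_image_of_mem (Equiv.swap p q) hp
        rw [he, Equiv.swap_apply_left] at this
        exact this
      · intro hq
        have := mem_image_of_mem (Equiv.swap p q) hq
        rw [he, Equiv.swap_apply_right] at this
        exact this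
  · simp [image_image, Function.comp_def]

/-- The shuffle identity. -/
theorem sum_term_eq_zero (a b : Fin d → Fin d → R) (v : Fin (d + 1) → Fin d → R) :
    ∑ A, term r v a b A = 0 := by
  classical
  let F := shuffleMul r a b
  have hswap : ∀ (w : Fin (d + 1) → Fin d → R) (p q : Fin (d + 1)), q.val = p.val + 1 →
      F (w ∘ Equiv.swap p q) = - F w := by
    intro w p q hpq
    have hne : p ≠ q := fun he => by rw [he] at hpq; omega
    let u : (Fin d → R) → (Fin d → R) → Fin (d + 1) → Fin d → R := fun x y =>
      Function.update (Function.update w p x) q y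
    have hu : ∀ x, F (u x x) = 0 := fun x =>
      shuffleMul_adjacent r a b _ p q hpq (by simp [u, hne])
    have hadd1 : ∀ x x' y, F (u (x + x') y) = F (u x y) + F (u x' y) := by
      intro x x' y
      simp only [u, Function.update_comm hne]
      exact F.map_update_add _ p x x'
    have hadd2 : ∀ x y y', F (u x (y + y')) = F (u x y) + F (u x y') := fun x y y' =>
      F.map_update_add _ q y y'
    have e1 : w ∘ Equiv.swap p q = u (w q) (w p) := by
      funext x
      simp only [u, Function.comp_apply, Equiv.swap_apply_def, Function.update_apply]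
      split_ifs with h1 h2 <;> simp_all
    have e2 : w = u (w p) (w q) := by simp [u]
    have h := hu (w p + w q)
    rw [hadd1, hadd2, hadd2, hu, hu, ← e1, ← e2, zero_add, add_zero] at h
    exact eq_neg_of_add_eq_zero_right h
  have halt : ∀ (g : ℕ) (w : Fin (d + 1) → Fin d → R) (i j : Fin (d + 1)), j.val = i.val + 1 + g →
      w i = w j → F w = 0 := by
    intro g
    induction g with
    | zero => exact fun w i j hg hw => shuffleMul_adjacent r a b w i j hg hw
    | succ g ih =>
      intro w i j hg hw
      let j' : Fin (d + 1) := ⟨j.val - 1, by omega⟩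
      have h1 := hswap w j' j (by simp [j']; omega)
      have h2 := ih (w ∘ Equiv.swap j' j) i j' (by simp [j']; omega) (by
        rw [Function.comp_apply, Function.comp_apply, Equiv.swap_apply_left,
          Equiv.swap_apply_of_ne_of_ne]
        · exact hw
        · exact fun he => by have := congrArg Fin.val he; simp [j'] at this; omega
        · exact fun he => by have := congrArg Fin.val he; omega)
      rw [h2] at h1
      exact neg_eq_zero.1 h1.symm
  let F' : (Fin d → R) [⋀^Fin (d + 1)]→ₗ[R] R :=
    { F with
      map_eq_zero_of_eq' := fun w i j hw hij => by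
        rcases lt_or_gt_of_ne hij with h | h
        · have := Fin.lt_def.1 h
          exact halt (j.val - i.val - 1) w i j (by omega) hw
        · have := Fin.lt_def.1 h
          exact halt (i.val - j.val - 1) w j i (by omega) hw.symm }
  have hF : F' = 0 := by
    refine Module.Basis.ext_alternating (Pi.basisFun R (Fin d)) fun f hf => ?_
    have := Fintype.card_le_of_injective f hf
    simp at this
  exact congrArg (fun G : (Fin d → R) [⋀^Fin (d + 1)]→ₗ[R] R => G v) hF

end Shuffle

section Coord

variable (K : Type u) [CommRing K]

theorem exists_perm_sortIdx (a : Fin d → Fin n) (h : (Finset.univ.image a).card = d) :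
    ∃ σ : Equiv.Perm (Fin d), (∀ t, a t = (sortIdx d n a h).1 (σ t)) ∧
      ((Equiv.Perm.sign σ : ℤˣ) : ℤ) = (-1) ^ invCount d n a := by
  classical
  have hinj : Function.Injective a := by
    have hio := Finset.card_image_iff.1 (h.trans (by simp : d = (Finset.univ : Finset (Fin d)).card))
    exact fun x y hxy => hio (by simp) (by simp) hxy
  have hmem : ∀ t, ∃ s, (sortIdx d n a h).1 s = a t := by
    intro t
    have : a t ∈ Set.range ((Finset.univ.image a).orderEmbOfFin h) := by
      rw [range_orderEmbOfFin]; simp
    exact this
  choose f hf using hmem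
  have hfb : Function.Bijective f := Finite.injective_iff_bijective.1 fun x y he =>
    hinj (by rw [← hf x, ← hf y, he])
  refine ⟨Equiv.ofBijective f hfb, fun t => (hf t).symm, ?_⟩
  have hlt : ∀ x y, a y < a x ↔ f y < f x := by
    intro x y
    rw [← hf x, ← hf y, (sortIdx d n a h).2.lt_iff_lt]
  rw [Equiv.Perm.sign_eq_prod_prod_Ioi, Units.coe_prod]
  simp only [Units.coe_prod, Equiv.ofBijective_apply, invCount]
  rw [Finset.prod_congr rfl (fun i _ => show ∏ j ∈ Finset.Ioi i,
      (((if f i < f j then (1 : ℤˣ) else -1) : ℤˣ) : ℤ) =
      ∏ j : Fin d, if i < j ∧ a j < a i then (-1 : ℤ) else 1 from ?_)]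
  · rw [← Finset.prod_product' (f := fun i j => if i < j ∧ a j < a i then (-1 : ℤ) else 1),
      Finset.univ_product_univ, Finset.prod_ite, Finset.prod_const, Finset.prod_const_one, mul_one]
  · rw [show (Finset.Ioi i) = Finset.univ.filter (fun j => i < j) by ext; simp, Finset.prod_filter]
    refine Finset.prod_congr rfl fun j _ => ?_
    by_cases hij : i < j
    · simp only [hij, if_true, true_and, hlt]
      rcases lt_or_gt_of_ne (hfb.1.ne hij.ne) with e | e <;> simp [e, e.not_gt]
    · simp [hij]

/-- The Plücker comorphism sends a signed coordinate to the minor on the rows in the given order. -/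
theorem aeval_coord {B : Type*} [CommRing B] [Algebra K B] (M : Matrix (Fin n) (Fin d) B) (a : Fin d → Fin n) :
    MvPolynomial.aeval (fun θ : Idx d n => (M.submatrix θ.1 id).det) (coord K d n a) =
      (M.submatrix a id).det := by
  classical
  unfold coord
  split_ifs with h
  · obtain ⟨σ, hσ, hs⟩ := exists_perm_sortIdx a h
    rw [map_mul, map_pow, map_neg, map_one, MvPolynomial.aeval_X]
    have : M.submatrix a id = (M.submatrix (sortIdx d n a h).1 id).submatrix σ id := by
      ext x y; simp [hσ x]
    rw [this, Matrix.det_permute]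
    congr 1
    rw [hs]
    simp
  · have hni : ¬ Function.Injective a := fun hi => h (by simp [Finset.card_image_of_injective _ hi])
    simp only [Function.Injective, not_forall] at hni
    obtain ⟨x, y, hxy, hne⟩ := hni
    rw [map_zero, Matrix.det_zero_of_row_eq hne]
    funext c
    simp [hxy]

/-- The maximal minors of any matrix satisfy the shuffle relations. -/
theorem aeval_shuffleRel {B : Type*} [CommRing B] [Algebra K B] (M : Matrix (Fin n) (Fin d) B)
    (i j : Idx d n) (r : Fin d) :
    MvPolynomial.aeval (fun θ : Idx d n => (M.submatrix θ.1 id).det) (shuffleRel K i j r) = 0 := by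
  classical
  rw [shuffleRel, map_sum,
    ← sum_term_eq_zero r (fun t => M (i.1 t)) (fun t => M (j.1 t)) fun k => M (movingRows i j r k)]
  refine Finset.sum_congr rfl fun A _ => ?_
  unfold shuffleTerm term
  split_ifs with hA
  · rw [map_mul, map_mul, map_pow, map_neg, map_one, aeval_coord, aeval_coord]
    congr 2
    · congr 1
      funext t c
      simp only [shI, shuffleI, Matrix.submatrix_apply, id]
      split_ifs <;> rfl
    · funext t c
      simp only [shJ, shuffleJ, Matrix.submatrix_apply, id]
      split_ifs <;> rfl
  · simp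

theorem plIdealTop_le_ker {B : Type*} [CommRing B] [Algebra K B] (M : Matrix (Fin n) (Fin d) B) :
    plIdealTop (d := d) (n := n) K ≤
      RingHom.ker (MvPolynomial.aeval (R := K) fun θ : Idx d n => (M.submatrix θ.1 id).det).toRingHom := by
  rw [plIdealTop, Ideal.span_le]
  rintro _ ⟨i, j, r, _, rfl⟩
  exact aeval_shuffleRel K M i j r

end Coord

end Groth.Agent.StdMon
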