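import Groth.Agent.StdMon.Relation
import Mathlib.LinearAlgebra.Finsupp.LinearCombination

/-!
# Straightening: standard monomials span modulo the shuffle relations
-/

namespace Groth.Agent.StdMon

open W4bk4grassmannian Finset MvPolynomial

universe u

variable {d n : ℕ} (K : Type u) [CommRing K]

theorem coord_strictMono (θ : Idx d n) : coord K d n θ.1 = X θ := by
  classical
  have hc : (univ.image θ.1).card = d := by simp [card_image_of_injective _ θ.2.injective]
  have h0 : invCount d n θ.1 = 0 := by
    simp only [invCount, card_eq_zero, filter_eq_empty_iff]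
    exact fun p _ hp => (θ.2 hp.1).not_gt hp.2
  have hs : sortIdx d n θ.1 hc = θ := by
    refine Subtype.ext (funext fun t => ?_)
    exact (congrFun (orderEmbOfFin_unique hc (f := θ.1) (fun x => by simp) θ.2) t).symm
  rw [coord, dif_pos hc, h0, pow_zero, one_mul, hs]

theorem coord_cases (a : Fin d → Fin n) :
    coord K d n a = 0 ∨ ∃ θ : Idx d n, wt θ = ∑ t, (a t).val ∧ (coord K d n a = X θ ∨ coord K d n a = - X θ) := by
  classical
  by_cases h : (univ.image a).card = d
  · refine Or.inr ⟨sortIdx d n a h, ?_, ?_⟩
    · have hio := Finset.card_image_iff.1 (h.trans (by simp : d = (univ : Finset (Fin d)).card))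
      have e1 : ∑ x ∈ univ.image a, x.val = ∑ t, (a t).val := sum_image fun x _ y _ he => hio (by simp) (by simp) he
      have e2 : ∑ x ∈ univ.image a, x.val = ∑ t, ((univ.image a).orderEmbOfFin h t).val := by
        conv_lhs => rw [← image_orderEmbOfFin_univ (univ.image a) h]
        exact sum_image fun x _ y _ he => (orderEmbOfFin _ h).injective he
      exact e2.symm.trans e1
    · rw [coord, dif_pos h]
      rcases neg_one_pow_eq_or (PlRing K d n) (invCount d n a) with e | e <;> simp [e]
  · exact Or.inl (dif_neg h)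

theorem movingRows_strictMono (i j : Idx d n) (r : Fin d) (h : i.1 r < j.1 r) :
    StrictMono (movingRows i j r) := by
  intro a b hab
  have hab' := Fin.lt_def.1 hab
  have hb := b.isLt
  unfold movingRows
  split_ifs with ha hb'
  · exact i.2 hab
  · refine lt_of_le_of_lt (i.2.monotone (show (⟨a.val, _⟩ : Fin d) ≤ r from ha)) (lt_of_lt_of_le h ?_)
    exact j.2.monotone (show r ≤ (⟨b.val - 1, by omega⟩ : Fin d) from by simp [Fin.le_def]; omega)
  · omega
  · exact j.2 (show (⟨a.val - 1, by omega⟩ : Fin d) < ⟨b.val - 1, by omega⟩ from by simp [Fin.lt_def]; omega)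

/-- The positions of the identity shuffle. -/
def idSet (r : Fin d) : Finset (Fin (d + 1)) := univ.filter fun x => x.val ≤ r.val

theorem card_idSet (r : Fin d) : (idSet r).card = r.val + 1 := by
  have : idSet r = univ.map (Fin.castLEEmb (show r.val + 1 ≤ d + 1 by omega)) := by
    ext x
    simp only [idSet, mem_filter, mem_univ, true_and, mem_map, Fin.castLEEmb_apply]
    exact ⟨fun h => ⟨⟨x.val, by omega⟩, rfl⟩, fun ⟨y, hy⟩ => hy ▸ Nat.lt_succ_iff.1 y.isLt⟩
  rw [this, card_map, card_univ, Fintype.card_fin]

theorem orderEmb_idSet (r : Fin d) (hA : (idSet r).card = r.val + 1) (t : Fin (r.val + 1)) :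
    ((idSet r).orderEmbOfFin hA t).val = t.val := by
  have := congrFun (orderEmbOfFin_unique hA (f := fun t : Fin (r.val + 1) => Fin.castLE (show r.val + 1 ≤ d + 1 by omega) t)
    (fun x => by simpa [idSet] using Nat.lt_succ_iff.1 x.isLt) (Fin.strictMono_castLE (show r.val + 1 ≤ d + 1 by omega))) t
  rw [← this]; rfl

theorem orderEmb_idSet_compl (r : Fin d) (hA : (idSet r)ᶜ.card = d - r.val) (t : Fin (d - r.val)) :
    ((idSet r)ᶜ.orderEmbOfFin hA t).val = r.val + 1 + t.val := by
  have := congrFun (orderEmbOfFin_unique hA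
    (f := fun t : Fin (d - r.val) => (⟨r.val + 1 + t.val, by have := t.isLt; omega⟩ : Fin (d + 1)))
    (fun x => by simp only [idSet, mem_compl, mem_filter, mem_univ, true_and]; omega) (fun x y hxy => Fin.lt_def.2 (Nat.add_lt_add_left (Fin.lt_def.1 hxy) _))) t
  rw [← this]

theorem shuffleTerm_idSet (i j : Idx d n) (r : Fin d) :
    shuffleTerm K i j r (idSet r) = X i * X j := by
  rw [shuffleTerm, dif_pos (card_idSet r)]
  have hs : shuffleSign r (idSet r) = 0 := by
    have e : (idSet r).sum (fun a => a.val) = ∑ t : Fin (r.val + 1), t.val := by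
      conv_lhs => rw [← image_orderEmbOfFin_univ (idSet r) (card_idSet r)]
      rw [sum_image fun x _ y _ he => (orderEmbOfFin _ _).injective he]
      exact sum_congr rfl fun t _ => orderEmb_idSet r _ t
    rw [shuffleSign, e, Fin.sum_univ_eq_sum_range (fun t => t), sum_range_id, Nat.add_sub_cancel,
      mul_comm]
    exact Nat.sub_self _
  have hI : shuffleI i j r (idSet r) (card_idSet r) = i.1 := by
    funext t
    unfold shuffleI
    split_ifs with h
    · have := orderEmb_idSet r (card_idSet r) ⟨t.val, by omega⟩
      unfold movingRows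
      rw [dif_pos (by rw [this]; exact h)]
      exact congrArg i.1 (Fin.ext this)
    · rfl
  have hJ : shuffleJ i j r (idSet r) (card_idSet r) = j.1 := by
    funext t
    unfold shuffleJ
    split_ifs with h
    · rfl
    · have := orderEmb_idSet_compl r (card_compl_eq r _ (card_idSet r))
        ⟨t.val - r.val, by have := t.isLt; omega⟩
      unfold movingRows
      rw [dif_neg (by simp only [this]; omega)]
      refine congrArg j.1 (Fin.ext ?_)
      simp only at this ⊢
      omega
  rw [hs, hI, hJ, coord_strictMono, coord_strictMono, pow_zero, one_mul]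

theorem wt_lt_sum_shuffleI (i j : Idx d n) (r : Fin d) (h : i.1 r < j.1 r) (A : Finset (Fin (d + 1)))
    (hA : A.card = r.val + 1) (hne : A ≠ idSet r) : wt i < ∑ t, (shuffleI i j r A hA t).val := by
  have hge : ∀ t : Fin (r.val + 1), t.val ≤ (A.orderEmbOfFin hA t).val :=
    val_le_apply ⟨_, (A.orderEmbOfFin hA).strictMono⟩
  obtain ⟨t₀, ht₀⟩ : ∃ t : Fin (r.val + 1), t.val < (A.orderEmbOfFin hA t).val := by
    by_contra hc
    push Not at hc
    refine hne (eq_of_subset_of_card_le (fun x hx => ?_) (by rw [card_idSet, hA]))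
    obtain ⟨t, rfl⟩ : x ∈ Set.range (A.orderEmbOfFin hA) := by rw [range_orderEmbOfFin]; exact hx
    simp only [idSet, mem_filter, mem_univ, true_and]
    exact (hc t).trans (Nat.lt_succ_iff.1 t.isLt)
  have hmv := movingRows_strictMono i j r h
  have key : ∀ (t : Fin d) (_ : t.val ≤ r.val), movingRows i j r ⟨t.val, by omega⟩ = i.1 t := by
    intro t ht
    unfold movingRows
    rw [dif_pos ht]
  refine sum_lt_sum (fun t _ => ?_) ⟨⟨t₀.val, by omega⟩, mem_univ _, ?_⟩
  · unfold shuffleI
    split_ifs with ht
    · rw [← key t ht]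
      exact Fin.le_def.1 (hmv.monotone (hge ⟨t.val, by omega⟩))
    · exact le_rfl
  · unfold shuffleI
    rw [dif_pos (Nat.lt_succ_iff.1 t₀.isLt), ← key ⟨t₀.val, by omega⟩ (Nat.lt_succ_iff.1 t₀.isLt)]
    exact Fin.lt_def.1 (hmv ht₀)

theorem exists_pivot {i j : Idx d n} (h : ¬ j ≤ i) : ∃ r, IsPivot i j r := by
  classical
  obtain ⟨t, ht⟩ : ∃ t, i.1 t < j.1 t := by
    by_contra hc
    push Not at hc
    exact h fun t => hc t
  let S := univ.filter fun t => i.1 t < j.1 t
  have hS : S.Nonempty := ⟨t, by simp [S, ht]⟩
  exact ⟨S.min' hS, fun s hs => not_lt.1 fun hlt =>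
    (S.min'_le s (mem_filter.2 ⟨mem_univ _, hlt⟩)).not_gt hs, (mem_filter.1 (S.min'_mem hS)).2⟩

/-- Tuples of indices, of any length. -/
abbrev Tup (d n : ℕ) := Σ m : ℕ, Fin m → Idx d n

/-- A linear combination of monomials. -/
noncomputable def comb (K : Type u) [CommRing K] (d n : ℕ) : (Tup d n →₀ K) →ₗ[K] PlRing K d n :=
  Finsupp.linearCombination K fun c : Tup d n => chainMon K c.2

theorem prod_X_update {m : ℕ} (c : Fin m → Idx d n) {k l : Fin m} (hkl : k ≠ l) (x y : Idx d n) :
    chainMon K (Function.update (Function.update c k x) l y) =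
      X x * X y * ∏ s ∈ (univ.erase k).erase l, X (c s) := by
  rw [chainMon, ← mul_prod_erase univ _ (mem_univ k),
    ← mul_prod_erase (univ.erase k) _ (mem_erase.2 ⟨hkl.symm, mem_univ l⟩)]
  rw [Function.update_self, Function.update_of_ne hkl, Function.update_self, mul_assoc]
  congr 2
  refine prod_congr rfl fun s hs => ?_
  rw [mem_erase, mem_erase] at hs
  rw [Function.update_of_ne hs.1, Function.update_of_ne hs.2.1]

theorem mk_chainMon_mem_span {m : ℕ} (c : Fin m → Idx d n) :
    Ideal.Quotient.mk (plIdealTop (d := d) (n := n) K) (chainMon K c) ∈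
      Submodule.span K (Set.range fun c : (Σ m : ℕ, {c : Fin m → Idx d n // Antitone c}) =>
        Ideal.Quotient.mk (plIdealTop (d := d) (n := n) K) (chainMon K c.2.1)) := by
  classical
  let S := Submodule.span K (Set.range fun c : (Σ m : ℕ, {c : Fin m → Idx d n // Antitone c}) =>
        Ideal.Quotient.mk (plIdealTop (d := d) (n := n) K) (chainMon K c.2.1))
  generalize hN : m * 3 ^ (d * n) - ∑ k, 3 ^ wt (c k) = N
  induction N using Nat.strong_induction_on generalizing c with
  | _ N ih =>
    by_cases hcomp : ∀ k l, c k ≤ c l ∨ c l ≤ c k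
    · obtain ⟨σ, hσ⟩ := exists_antitone_perm c hcomp
      have : chainMon K c = chainMon K (c ∘ σ) := (Equiv.prod_comp σ fun k => X (c k)).symm
      rw [this]
      exact Submodule.subset_span ⟨⟨m, c ∘ σ, hσ⟩, rfl⟩
    · push Not at hcomp
      obtain ⟨k₀, l₀, h1, h2⟩ := hcomp
      obtain ⟨k, l, hw, hnle⟩ : ∃ k l, wt (c l) ≤ wt (c k) ∧ ¬ c l ≤ c k := by
        rcases le_total (wt (c l₀)) (wt (c k₀)) with h | h
        · exact ⟨k₀, l₀, h, h2⟩
        · exact ⟨l₀, k₀, h, h1⟩
      have hkl : k ≠ l := fun e => hnle (e ▸ le_rfl)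
      obtain ⟨r, hr⟩ := exists_pivot hnle
      let R : PlRing K d n := ∏ s ∈ (univ.erase k).erase l, X (c s)
      let q := Ideal.Quotient.mkₐ K (plIdealTop (d := d) (n := n) K)
      have hcc : chainMon K c = X (c k) * X (c l) * R := by
        rw [← prod_X_update K c hkl (c k) (c l), Function.update_eq_self, Function.update_eq_self]
      have hrel : q (shuffleRel K (c k) (c l) r * R) = 0 :=
        (Ideal.Quotient.eq_zero_iff_mem).2 (Ideal.mul_mem_right _ _
          (Ideal.subset_span ⟨_, _, _, hr, rfl⟩))
      rw [shuffleRel, ← add_sum_erase univ _ (mem_univ (idSet r)), shuffleTerm_idSet, add_mul, map_add,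
        sum_mul, map_sum, add_eq_zero_iff_eq_neg] at hrel
      change q (chainMon K c) ∈ S
      rw [hcc, hrel]
      refine Submodule.neg_mem _ (Submodule.sum_mem _ fun A hA => ?_)
      rw [shuffleTerm]
      split_ifs with hAc
      · rcases coord_cases K (shuffleI (c k) (c l) r A hAc) with e | ⟨α, hα, eα⟩
        · simp [e]
        · rcases coord_cases K (shuffleJ (c k) (c l) r A hAc) with e | ⟨β, -, eβ⟩
          · simp [e]
          · have hwt : wt (c k) < wt α :=
              hα ▸ wt_lt_sum_shuffleI (c k) (c l) r hr.2 A hAc (mem_erase.1 hA).1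
            let c' := Function.update (Function.update c k α) l β
            have hc' : q (chainMon K c') ∈ S := by
              refine ih _ ?_ c' rfl
              subst hN
              have hb : ∀ g : Fin m → Idx d n, ∑ s, 3 ^ wt (g s) ≤ m * 3 ^ (d * n) := fun g => by
                refine (sum_le_card_nsmul _ _ (3 ^ (d * n)) fun s _ =>
                  Nat.pow_le_pow_right (by norm_num) (wt_le _)).trans ?_
                simp
              have e1 : ∑ s, 3 ^ wt (c s) < ∑ s, 3 ^ wt (c' s) := by
                rw [← add_sum_erase univ _ (mem_univ k), ← add_sum_erase univ (fun s => 3 ^ wt (c' s)) (mem_univ k),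
                  ← add_sum_erase (univ.erase k) _ (mem_erase.2 ⟨hkl.symm, mem_univ l⟩),
                  ← add_sum_erase (univ.erase k) (fun s => 3 ^ wt (c' s)) (mem_erase.2 ⟨hkl.symm, mem_univ l⟩)]
                have e3 : ∀ s ∈ (univ.erase k).erase l, 3 ^ wt (c' s) = 3 ^ wt (c s) := by
                  intro s hs
                  rw [mem_erase, mem_erase] at hs
                  simp [c', hs.1, hs.2.1]
                rw [sum_congr rfl e3]
                have e4 : c' k = α := by simp [c', hkl]
                have e5 : c' l = β := by simp [c']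
                simp only [e4, e5]
                have p1 : 3 ^ wt (c l) ≤ 3 ^ wt (c k) := Nat.pow_le_pow_right (by norm_num) hw
                have p2 : 3 ^ (wt (c k) + 1) ≤ 3 ^ wt α := Nat.pow_le_pow_right (by norm_num) hwt
                have p3 : 0 < 3 ^ wt (c k) := Nat.pow_pos (by norm_num)
                have p4 : 0 < 3 ^ wt β := Nat.pow_pos (by norm_num)
                rw [pow_succ] at p2
                omega
              have e2 := hb c'
              omega
            have hsign : (-1 : PlRing K d n) ^ shuffleSign r A = 1 ∨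
                (-1 : PlRing K d n) ^ shuffleSign r A = -1 := neg_one_pow_eq_or _ _
            have key : (-1 : PlRing K d n) ^ shuffleSign r A * coord K d n (shuffleI (c k) (c l) r A hAc) *
                coord K d n (shuffleJ (c k) (c l) r A hAc) * R = chainMon K c' ∨
              (-1 : PlRing K d n) ^ shuffleSign r A * coord K d n (shuffleI (c k) (c l) r A hAc) *
                coord K d n (shuffleJ (c k) (c l) r A hAc) * R = - chainMon K c' := by
              rw [show chainMon K c' = X α * X β * R from prod_X_update K c hkl α β]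
              rcases hsign with e | e <;> rcases eα with e' | e' <;> rcases eβ with e'' | e'' <;>
                rw [e, e', e''] <;> first | (left; ring1) | (right; ring1)
            rcases key with e | e <;> rw [e]
            · exact hc'
            · rw [map_neg]; exact Submodule.neg_mem _ hc'
      · simp

theorem span_chains :
    Submodule.span K (Set.range fun c : (Σ m : ℕ, {c : Fin m → Idx d n // Antitone c}) =>
      Ideal.Quotient.mk (plIdealTop (d := d) (n := n) K) (chainMon K c.2.1)) = ⊤ := by
  rw [eq_top_iff]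
  intro x _
  obtain ⟨f, rfl⟩ := Ideal.Quotient.mk_surjective x
  let q := Ideal.Quotient.mkₐ K (plIdealTop (d := d) (n := n) K)
  let S := Submodule.span K (Set.range fun c : (Σ m : ℕ, {c : Fin m → Idx d n // Antitone c}) =>
      Ideal.Quotient.mk (plIdealTop (d := d) (n := n) K) (chainMon K c.2.1))
  suffices h : ∀ (e : Idx d n →₀ ℕ) (r : K), q (monomial e r) ∈ S by
    change q f ∈ S
    rw [f.as_sum, map_sum]
    exact Submodule.sum_mem _ fun e _ => h e _
  intro e r
  rw [← mul_one r, ← smul_eq_mul, ← smul_monomial, map_smul]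
  refine Submodule.smul_mem _ _ ?_
  obtain ⟨m, c, hc⟩ : ∃ (m : ℕ) (c : Fin m → Idx d n), (monomial e (1 : K)) = chainMon K c := by
    clear r
    induction e using Finsupp.induction with
    | zero => exact ⟨0, Fin.elim0, by simp [chainMon]⟩
    | single_add a b f _ _ ih =>
      obtain ⟨m, c, hc⟩ := ih
      refine ⟨b + m, Fin.append (fun _ => a) c, ?_⟩
      rw [chainMon, Fin.prod_univ_add]
      simp only [Fin.append_left, Fin.append_right, prod_const, card_univ, Fintype.card_fin]
      rw [← chainMon, ← hc, X_pow_eq_monomial, monomial_mul, mul_one]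
  rw [hc]
  exact mk_chainMon_mem_span K c

/-- Straightening. -/
theorem exists_comb (f : PlRing K d n) :
    ∃ a : Tup d n →₀ K, (∀ c ∈ a.support, Antitone c.2) ∧ f - comb K d n a ∈ plIdealTop K := by
  classical
  have hf : Ideal.Quotient.mk (plIdealTop (d := d) (n := n) K) f ∈ _ :=
    (span_chains (d := d) (n := n) K).ge Submodule.mem_top
  obtain ⟨a, ha⟩ := (Finsupp.mem_span_range_iff_exists_finsupp).1 hf
  let ι : (Σ m : ℕ, {c : Fin m → Idx d n // Antitone c}) → Tup d n := fun c => ⟨c.1, c.2.1⟩
  refine ⟨a.mapDomain ι, fun c hc => ?_, ?_⟩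
  · obtain ⟨x, -, rfl⟩ := mem_image.1 (Finsupp.mapDomain_support hc)
    exact x.2.2
  · rw [← Ideal.Quotient.eq_zero_iff_mem, map_sub, sub_eq_zero, ← ha, comb,
      Finsupp.linearCombination_mapDomain, Finsupp.linearCombination_apply]
    change _ = Ideal.Quotient.mkₐ K _ _
    rw [map_finsuppSum]
    exact Finsupp.sum_congr fun x _ => (map_smul (Ideal.Quotient.mkₐ K _) _ _).symm

end Groth.Agent.StdMon
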